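import Cfsg.Agent.TensorWreathSp.PlaneTop
import Cfsg.Agent.Aschbacher.Forms

/-!
# The factors of a symplectic tensor power
-/

set_option autoImplicit false

namespace CfsgLib.TWSp

open Cfsg.Geo

variable {F : Type*} [Field F]

/-- A factor has dimension two or at least four. -/
theorem factor_dim {κ : Type} [Fintype κ] (hκ : 0 < Fintype.card κ) {k t : ℕ} (ht : 0 < t)
    (e : κ ≃ (Fin t → Fin k)) {f₁ : (Fin k → F) → (Fin k → F) → F} (hf₁ : IsSymplecticForm f₁) :
    k = 2 ∨ 4 ≤ k := by
  have hev : ¬ Odd k := fun h => Aschbacher.no_symplectic_of_odd hf₁ (by rwa [Fintype.card_fin])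
  rw [Nat.not_odd_iff_even] at hev
  obtain ⟨r, hr⟩ := hev
  have hk : k ≠ 0 := by
    rintro rfl
    rw [Fintype.card_congr e, Fintype.card_fun, Fintype.card_fin, Fintype.card_fin, zero_pow (by omega)] at hκ
    omega
  omega

theorem two_ne_zero_of_odd_card [Fintype F] (hodd : Odd (Fintype.card F)) : (2 : F) ≠ 0 := fun h => by
  have h' : ringChar F = 2 := by
    have : CharP F 2 := CharTwo.of_one_ne_zero_of_two_eq_zero one_ne_zero h
    exact ringChar.eq F 2
  have := (FiniteField.even_card_iff_char_two (F := F)).mp h'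
  rw [Nat.odd_iff] at hodd
  omega

theorem odd_card_of_two_ne_zero [Fintype F] (h : (2 : F) ≠ 0) : Odd (Fintype.card F) := by
  rw [Nat.odd_iff]
  refine FiniteField.odd_card_of_char_ne_two fun h' => h ?_
  have : CharP F 2 := h' ▸ ringChar.charP F
  exact CharTwo.two_eq_zero

end CfsgLib.TWSp
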