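import Cfsg.Agent.TensorWreathSp.Control
import Cfsg.Agent.TensorWreath.Two

/-!
# No rigid overgroup of symplectic factors in characteristic two
-/

set_option autoImplicit false
set_option linter.unusedSectionVars false

namespace CfsgLib.TWSp

open Matrix CfsgLib.MaxSub CfsgLib.TWreath

variable {F : Type*} [Field F] {ι : Type} [Fintype ι] [DecidableEq ι] {m : ℕ}

theorem eq_false_of_vecMulVec_eq {c c₂ φ φ₂ : Fin m → F} (hind : ∀ l : F, l • c ≠ c₂) (hφ₂ : φ₂ ≠ 0)
    (h : vecMulVec c₂ φ₂ = vecMulVec c φ) : False := by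
  obtain ⟨d, hd⟩ := exists_dot_eq_one hφ₂
  rw [dotProduct_comm] at hd
  have := congrArg (· *ᵥ d) h
  simp only [vecMulVec_mulVec', hd, one_smul] at this
  exact hind _ this.symm

variable {G : Matrix (Fin m) (Fin m) F}

theorem cen_mul_cen (c d : Fin m → F) : cen G c * cen G d = om G d c • vecMulVec c (G *ᵥ d) := by
  rw [cen, cen, vecMulVec_mul_vecMulVec, axis_dot, vecMulVec_smul]

/-- Three independent pairwise orthogonal vectors. -/
theorem exists_ortho_triple (hG : SpForm G) (hm : 6 ≤ m) : ∃ c1 c2 c3 : Fin m → F,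
    om G c1 c2 = 0 ∧ om G c1 c3 = 0 ∧ om G c2 c3 = 0 ∧ c1 ≠ 0 ∧ c2 ≠ 0 ∧ c3 ≠ 0 ∧
      c1 + c2 ≠ 0 ∧ c1 + c3 ≠ 0 ∧ c2 + c3 ≠ 0 ∧ c1 + c2 + c3 ≠ 0 := by
  set c1 : Fin m → F := Pi.single ⟨0, by omega⟩ 1 with hc1
  have n1 : c1 ≠ 0 := by simp [c1]
  obtain ⟨f, g, hf, hg, hf0, hfg⟩ := exists_two_in_kerDot (by omega : 3 ≤ m) (G *ᵥ c1)
  obtain ⟨c2, hc2, h2⟩ : ∃ d, (G *ᵥ c1) ⬝ᵥ d = 0 ∧ ∀ l : F, l • c1 ≠ d := by
    by_cases h1 : ∀ l : F, l • c1 ≠ f
    · exact ⟨f, hf, h1⟩
    push Not at h1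
    obtain ⟨l, hl⟩ := h1
    refine ⟨g, hg, fun l' hl' => ?_⟩
    have hl0 : l ≠ 0 := fun e => hf0 (by rw [← hl, e, zero_smul])
    exact hfg (l' / l) (by rw [← hl, smul_smul, div_mul_cancel₀ _ hl0, hl'])
  let fn : (Fin m → F) →ₗ[F] (Fin 2 → F) :=
    { toFun := fun x => ![(G *ᵥ c1) ⬝ᵥ x, (G *ᵥ c2) ⬝ᵥ x]
      map_add' := fun x y => by funext i; fin_cases i <;> simp [dotProduct_add]
      map_smul' := fun k x => by funext i; fin_cases i <;> simp [dotProduct_smul] }
  obtain ⟨c3, hc3, h3⟩ : ∃ x ∈ LinearMap.ker fn, x ∉ Submodule.span F ({c1, c2} : Set (Fin m → F)) := by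
    classical
    by_contra hcon
    push Not at hcon
    have h1 := Submodule.finrank_mono (show LinearMap.ker fn ≤ _ from hcon)
    have h2 := finrank_span_finset_le_card ({c1, c2} : Finset (Fin m → F)) (R := F)
    rw [Finset.coe_pair] at h2
    have h4 : ({c1, c2} : Finset (Fin m → F)).card ≤ 2 := Finset.card_le_two
    have h5 := fn.finrank_range_add_finrank_ker
    have h6 : Module.finrank F (LinearMap.range fn) ≤ 2 :=
      (Submodule.finrank_le _).trans (le_of_eq (Module.finrank_fin_fun F))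
    rw [Module.finrank_fin_fun] at h5
    simp only [Set.finrank] at h2
    omega
  have hz : ∀ x : Fin m → F, (G *ᵥ c1) ⬝ᵥ x = 0 → om G c1 x = 0 := fun x hx => by
    rw [hG.skew, ← axis_dot, hx, neg_zero]
  have ha : (G *ᵥ c1) ⬝ᵥ c3 = 0 := congrFun hc3 0
  have hb : (G *ᵥ c2) ⬝ᵥ c3 = 0 := congrFun hc3 1
  have hsp : ∀ x ∈ Submodule.span F ({c1, c2} : Set (Fin m → F)), x + c3 ≠ 0 := fun x hx h0 =>
    h3 ((eq_neg_of_add_eq_zero_right h0) ▸ Submodule.neg_mem _ hx)
  have m1 : c1 ∈ Submodule.span F ({c1, c2} : Set (Fin m → F)) := Submodule.subset_span (by simp)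
  have m2 : c2 ∈ Submodule.span F ({c1, c2} : Set (Fin m → F)) := Submodule.subset_span (by simp)
  exact ⟨c1, c2, c3, hz c2 hc2, hz c3 ha, by rw [hG.skew, ← axis_dot, hb, neg_zero], n1,
    fun h => h2 0 (by rw [zero_smul, h]), fun h => h3 (h ▸ Submodule.zero_mem _),
    fun h => h2 (-1) (by rw [neg_one_smul]; exact (eq_neg_of_add_eq_zero_right h).symm),
    hsp c1 m1, hsp c2 m2, hsp _ (Submodule.add_mem _ m1 m2)⟩

variable [Finite F] [CharP F 2]

/-- A root as a product of six others. -/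
theorem root_eq_prod (hG : SpForm G) {c1 c2 c3 : Fin m → F} (h12 : om G c1 c2 = 0) (h13 : om G c1 c3 = 0)
    (h23 : om G c2 c3 = 0) {i : ι} :
    root i c1 (G *ᵥ c1) =
      root i c2 (G *ᵥ c2) * root i c3 (G *ᵥ c3) *
      (root i (c1 + c2) (G *ᵥ (c1 + c2)) * root i (c1 + c3) (G *ᵥ (c1 + c3))) *
      (root i (c2 + c3) (G *ᵥ (c2 + c3)) * root i (c1 + c2 + c3) (G *ᵥ (c1 + c2 + c3))) := by
  have h21 : om G c2 c1 = 0 := by rw [hG.skew, h12, neg_zero]
  have h31 : om G c3 c1 = 0 := by rw [hG.skew, h13, neg_zero]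
  have h32 : om G c3 c2 = 0 := by rw [hG.skew, h23, neg_zero]
  apply Units.ext
  simp only [Units.val_mul, root_val (hG.axis_self _)]
  have hz : ∀ (x y : Fin m → F), om G y x = 0 → cen G x * cen G y = 0 := fun x y h => by
    rw [cen_mul_cen, h, zero_smul]
  have e : ∀ (A B : Matrix (Fin m) (Fin m) F), A * B = 0 → (1 + emb (ι := ι) i A) * (1 + emb i B) = 1 + emb i (A + B) :=
    fun A B h => by rw [mul_add, mul_one, add_mul, one_mul, ← emb_mul, h, emb_zero, emb_add]; abel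
  show 1 + emb i (cen G c1) = (1 + emb i (cen G c2)) * (1 + emb i (cen G c3)) *
    ((1 + emb i (cen G (c1 + c2))) * (1 + emb i (cen G (c1 + c3)))) *
    ((1 + emb i (cen G (c2 + c3))) * (1 + emb i (cen G (c1 + c2 + c3))))
  have z : ∀ x y : Fin m → F, x ∈ ({c2, c3, c1 + c2, c1 + c3, c2 + c3, c1 + c2 + c3} : Set (Fin m → F)) →
      y ∈ ({c2, c3, c1 + c2, c1 + c3, c2 + c3, c1 + c2 + c3} : Set (Fin m → F)) → cen G x * cen G y = 0 := by
    intro x y hx hy
    refine hz x y ?_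
    simp only [Set.mem_insert_iff, Set.mem_singleton_iff] at hx hy
    rcases hx with rfl | rfl | rfl | rfl | rfl | rfl <;> rcases hy with rfl | rfl | rfl | rfl | rfl | rfl <;>
      simp [om_add_left, om_add_right, hG.self, h12, h13, h23, h21, h31, h32]
  rw [e _ _ (z c2 c3 (by simp) (by simp)), e _ _ (z (c1 + c2) (c1 + c3) (by simp) (by simp)),
    e _ _ (z (c2 + c3) (c1 + c2 + c3) (by simp) (by simp)), e _ _ (by simp [add_mul, mul_add, z]),
    e _ _ (by simp [add_mul, mul_add, z])]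
  congr 2
  ext p q
  simp only [cen, vecMulVec_apply, Matrix.add_apply, Pi.add_apply, mulVec_add]
  have h2 : (2 : F) = 0 := CharTwo.two_eq_zero
  linear_combination (-(c2 p * (G *ᵥ c2) q + c3 p * (G *ᵥ c3) q) * 2 - c1 p * (G *ᵥ c1) q
    - (c1 p * (G *ᵥ c2) q + c2 p * (G *ᵥ c1) q + c1 p * (G *ᵥ c3) q + c3 p * (G *ᵥ c1) q
      + c2 p * (G *ᵥ c3) q + c3 p * (G *ᵥ c2) q)) * h2

variable {M : Subgroup (GL (ι → Fin m) F)}

namespace Rigid

variable (hM : Rigid G M)

include hM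

/-- An element commuting with a non-trivial involution of one factor lies in the wreath group. -/
theorem mem_of_comm_embG {g : GL (ι → Fin m) F} (hg : g ∈ M) {i : ι} {A : GL (Fin m) F} (hA : A * A = 1)
    (hA1 : A ≠ 1) (hcomm : Commute g (embG i A)) : g ∈ wreath ι m F := by
  have := hM.neZero
  set N := (A : Matrix (Fin m) (Fin m) F) - 1 with hN
  have hN0 : N ≠ 0 := fun h => hA1 (Units.ext (sub_eq_zero.mp h))
  have hNN : N * N = 0 := by
    have : (A : Matrix (Fin m) (Fin m) F) * A = 1 := by rw [← Units.val_mul, hA, Units.val_one]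
    rw [hN, sub_mul, mul_sub, this, one_mul, mul_one]
    rw [show (1 : Matrix (Fin m) (Fin m) F) - A - (A - 1) = (2 : Matrix (Fin m) (Fin m) F) * (1 - A) by
      rw [two_mul]; abel, CharTwo.two_eq_zero, zero_mul]
  obtain ⟨φ, hφ, hφN⟩ : ∃ φ, φ ≠ 0 ∧ φ ᵥ* N = 0 := by
    rw [Matrix.exists_vecMul_eq_zero_iff]
    have h := congrArg Matrix.det hNN
    rw [det_mul, det_zero, mul_self_eq_zero] at h
    exact h
  refine hM.mem_of_comm_emb (i := i) hg hN0 hφ hφN ?_
  have := congrArg Units.val hcomm.eq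
  rw [Units.val_mul, Units.val_mul, embG_val] at this
  rw [hN, emb_sub, emb_one, mul_sub, sub_mul, mul_one, one_mul, this]

/-- An element outside commuting with a factorwise involution with a transvection component gives one
commuting with the product of that root and another root. -/
theorem exists_two_root_of_comm {gs : ι → GL (Fin m) F} (hsq : ∀ k, gs k * gs k = 1) {i : ι}
    {c φ : Fin m → F} (h : φ ⬝ᵥ c = 0) (hc : c ≠ 0) (hφ : φ ≠ 0) (hgi : gs i = tv c φ)
    (hrM : root i c φ ∈ M)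
    {k : GL (ι → Fin m) F} (hk : k ∈ M) (hkW : k ∉ wreath ι m F) (hcomm : Commute k (PtG gs)) :
    ∃ g ∈ M, g ∉ wreath ι m F ∧ Commute g (PtG gs) ∧ ∃ (j : ι) (c' φ' : Fin m → F), j ≠ i ∧ c' ≠ 0 ∧
      φ' ≠ 0 ∧ φ' ⬝ᵥ c' = 0 ∧ root j c' φ' ∈ M ∧ Commute g (root i c φ * root j c' φ') ∧
      Commute (root j c' φ') (PtG gs) ∧ tv c' φ' ≠ gs j ∧ gs j ≠ 1 := by
  have := hM.neZero
  have hm2 := hM.two_le
  set z := PtG gs with hz
  obtain ⟨s0, -, hφe⟩ := axis_of_root_mem hM.form h hc hφ (hM.sim hrM)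
  obtain ⟨c₂, hc₂, hind⟩ : ∃ d, (G *ᵥ c) ⬝ᵥ d = 0 ∧ ∀ l : F, l • c ≠ d := by
    obtain ⟨f, g, hf, hg, hf0, hfg⟩ := exists_two_in_kerDot hM.three (G *ᵥ c)
    by_cases h1 : ∀ l : F, l • c ≠ f
    · exact ⟨f, hf, h1⟩
    push Not at h1
    obtain ⟨l, hl⟩ := h1
    refine ⟨g, hg, fun l' hl' => ?_⟩
    have hl0 : l ≠ 0 := fun e => hf0 (by rw [← hl, e, zero_smul])
    exact hfg (l' / l) (by rw [← hl, smul_smul, div_mul_cancel₀ _ hl0, hl'])
  have hc₂0 : c₂ ≠ 0 := fun e => hind 0 (by rw [zero_smul, e])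
  set φ₂ := G *ᵥ c₂ with hφ₂def
  have hφ₂ : φ₂ ⬝ᵥ c₂ = 0 := hM.form.axis_self c₂
  have hφ₂0 : φ₂ ≠ 0 := hM.form.axis_ne hc₂0
  have hφ₂c : φ₂ ⬝ᵥ c = 0 := by rw [hφ₂def, axis_dot, hM.form.skew, ← axis_dot, hc₂, neg_zero]
  have hφc₂ : φ ⬝ᵥ c₂ = 0 := by rw [hφe, smul_dotProduct, hc₂, smul_zero]
  set r := root i c φ with hr
  set s := root i c₂ φ₂ with hs
  have hsM : s ∈ M := hM.root_mem i c₂
  have htt : tv c₂ φ₂ * tv c φ = tv c φ * tv c₂ φ₂ := by
    apply Units.ext
    rw [Units.val_mul, Units.val_mul, tv_coe h, tv_coe hφ₂]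
    simp only [mul_add, add_mul, one_mul, mul_one, vecMulVec_mul_vecMulVec, hφ₂c, hφc₂, zero_smul,
      vecMulVec_zero]
    abel
  have hsz : Commute s z := by
    show s * z = z * s
    rw [hs, hz, root, embG_eq_PtG, ← map_mul, ← map_mul]
    congr 1
    funext l
    rcases eq_or_ne l i with rfl | hl
    · simp [hgi, htt]
    · simp [hl]
  have hrz : Commute r z := by
    show r * z = z * r
    rw [hr, hz, root, embG_eq_PtG, ← map_mul, ← map_mul]
    congr 1
    funext l
    rcases eq_or_ne l i with rfl | hl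
    · simp [hgi]
    · simp [hl]
  have hkiz : Commute k⁻¹ z := hcomm.inv_left
  set s' := k * s * k⁻¹ with hs'
  have hs'M : s' ∈ M := M.mul_mem (M.mul_mem hk hsM) (M.inv_mem hk)
  have hs'z : Commute s' z := (hcomm.mul_left hsz).mul_left hkiz
  have hsub : Subgroup.closure ({r, s'} : Set (GL (ι → Fin m) F)) ≤ M ⊓ Subgroup.centralizer {z} := by
    rw [Subgroup.closure_le]
    rintro x (rfl | rfl)
    · exact ⟨hrM, Subgroup.mem_centralizer_singleton_iff.mpr hrz⟩
    · exact ⟨hs'M, Subgroup.mem_centralizer_singleton_iff.mpr hs'z⟩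
  have hs2 : s * s = 1 := root_mul_self hφ₂
  have hs'2 : s' * s' = 1 := by
    rw [hs', show k * s * k⁻¹ * (k * s * k⁻¹) = k * (s * s) * k⁻¹ by group, hs2, mul_one, mul_inv_cancel]
  rcases invol_pair (root_mul_self (i := i) h) hs'2 with ⟨q, hq, hqe⟩ | ⟨g, hg, n, hord, hgc⟩
  · -- the two roots are not conjugate in the centraliser
    exfalso
    obtain ⟨hqM, hqz⟩ := hsub hq
    replace hqz : Commute q z := Subgroup.mem_centralizer_singleton_iff.mp hqz
    set y := k⁻¹ * q with hy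
    have hyr : y * r * y⁻¹ = s := by
      rw [hy, show k⁻¹ * q * r * (k⁻¹ * q)⁻¹ = k⁻¹ * (q * r * q⁻¹) * k by group, hqe, hs']
      group
    have hyM : y ∈ M := M.mul_mem (M.inv_mem hk) hqM
    obtain ⟨τ, ys, hys⟩ := hM.mem_of_conj_root hyM h hc hφ (by rw [← hr, hyr]; exact root_mem_wreath i c₂ φ₂)
    have hyz : y * z = z * y := (hkiz.mul_left hqz).eq
    set hs₁ : ι → GL (Fin m) F := ys * (fun l => gs (τ.symm l)) * ys⁻¹ with hhs
    have hyzy : PtG hs₁ = z := by
      have : y * z * y⁻¹ = z := by rw [hyz, mul_inv_cancel_right]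
      rw [← this, hys, hz, _root_.mul_inv_rev, hhs, map_mul, map_mul, map_inv, ← mul_assoc (PtG ys * pmG τ * PtG gs),
        mul_assoc (PtG ys) (pmG τ) (PtG gs), pmG_mul_PtG]
      group
    have hfac : ∀ l, hs₁ l = gs l := fun l => by
      obtain ⟨e, he⟩ := PtG_eq_smul hyzy l
      have h2 : hs₁ l * hs₁ l = 1 := by
        simp only [hhs, Pi.mul_apply, Pi.inv_apply]
        rw [show ys l * gs (τ.symm l) * (ys l)⁻¹ * (ys l * gs (τ.symm l) * (ys l)⁻¹) =
          ys l * (gs (τ.symm l) * gs (τ.symm l)) * (ys l)⁻¹ by group, hsq, mul_one, mul_inv_cancel]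
      have h2' := congrArg Units.val h2
      have h3' := congrArg Units.val (hsq l)
      rw [Units.val_mul, Units.val_one] at h2' h3'
      rw [he] at h3'
      have := smul_eq_one_of_sq h2' h3'
      rw [this, one_smul] at he
      exact Units.ext he.symm
    have hyr' : y * r * y⁻¹ = embG (τ i) (hs₁ (τ i)) := by
      rw [hhs, hys, hr, root, embG_eq_PtG, embG_eq_PtG, _root_.mul_inv_rev,
        ← mul_assoc (PtG ys * pmG τ * PtG (Function.update 1 i (tv c φ))), mul_assoc (PtG ys) (pmG τ), pmG_mul_PtG]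
      rw [show PtG ys * ((PtG fun l => Function.update (1 : ι → GL (Fin m) F) i (tv c φ) (τ.symm l)) * pmG τ) *
        (pmG τ)⁻¹ * (PtG ys)⁻¹ = PtG ys * (PtG fun l => Function.update (1 : ι → GL (Fin m) F) i (tv c φ) (τ.symm l)) *
          (PtG ys)⁻¹ by group, ← map_inv, ← map_mul, ← map_mul]
      congr 1
      funext l
      rcases eq_or_ne l (τ i) with rfl | hl
      · simp [hgi]
      · have : τ.symm l ≠ i := fun e => hl (by rw [← e, Equiv.apply_symm_apply])
        simp [hl, this]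
    rw [hyr, hfac, hs, root] at hyr'
    by_cases hτi : τ i = i
    · rw [hτi, hgi] at hyr'
      have h' := congrArg Units.val (embG_injective i hyr')
      rw [tv_coe hφ₂, tv_coe h, add_right_inj] at h'
      exact eq_false_of_vecMulVec_eq hind hφ₂0 h'
    · rw [embG_eq_PtG] at hyr'
      obtain ⟨e, he⟩ := exists_scalar_of_PtG_eq_embG hyr' (Ne.symm hτi)
      rw [Function.update_self] at he
      exact tv_ne_smul_one hφ₂ hc₂0 hφ₂0 e he
  · obtain ⟨hgM, hgz⟩ := hsub hg
    replace hgz : Commute g z := Subgroup.mem_centralizer_singleton_iff.mp hgz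
    set s'' := g * s' * g⁻¹ with hs''
    have hs''M : s'' ∈ M := M.mul_mem (M.mul_mem hgM hs'M) (M.inv_mem hgM)
    have hs''2 : s'' * s'' = 1 := by
      rw [hs'', show g * s' * g⁻¹ * (g * s' * g⁻¹) = g * (s' * s') * g⁻¹ by group, hs'2, mul_one, mul_inv_cancel]
    obtain ⟨X, hX2, hrX, hsX, hXle⟩ := exists_two_group (root_mul_self (i := i) h) hs''2
      (n := n + 1) (by rw [← hord, pow_orderOf_eq_one])
    have hXW := hM.le_of_root_mem (hXle.trans ((Subgroup.closure_le _).mpr (by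
      rintro x (rfl | rfl)
      · exact hrM
      · exact hs''M))) hX2 h hc hφ hrX
    set y := g * k with hy
    have hys : y * s * y⁻¹ = s'' := by rw [hy, hs'', hs']; group
    have hyM : y ∈ M := M.mul_mem hgM hk
    have hyW := hM.mem_of_conj_root hyM hφ₂ hc₂0 hφ₂0 (hys ▸ hXW hsX)
    have hgW : g ∉ wreath ι m F := fun hgW => hkW (by
      have := (wreath ι m F).mul_mem ((wreath ι m F).inv_mem hgW) hyW
      rwa [hy, inv_mul_cancel_left] at this)
    have hs''z : Commute s'' z := ((Commute.mul_left hgz hs'z)).mul_left (Commute.inv_left hgz)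
    obtain ⟨τ, hτ⟩ := hyW
    obtain ⟨c', φ', hc', hφ', h', he⟩ := hτ.conj_root (i := i) hφ₂ hc₂0 hφ₂0
    rw [← hs, hys] at he
    have hord' : orderOf (r * s'') = 2 ^ (n + 1) := hord
    by_cases hj : τ i = i
    · exfalso
      rw [hj] at he
      set A := (tv c φ * tv c' φ') ^ 2 ^ n with hA
      have hz' : (r * s'') ^ 2 ^ n = embG i A := by rw [hA, map_pow, map_mul, he]; rfl
      have h1 : (r * s'') ^ 2 ^ n ≠ 1 := pow_ne_one_of_lt_orderOf (by positivity) (by
        rw [hord']; exact Nat.pow_lt_pow_right (by norm_num) (by omega))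
      refine hgW (hM.mem_of_comm_embG hgM (i := i) (A := A) ?_ (fun e => h1 (by rw [hz', e, map_one])) ?_)
      · refine embG_injective i ?_
        rw [map_mul, ← hz', ← pow_add, map_one, ← two_mul, ← pow_succ', ← hord', pow_orderOf_eq_one]
      · rw [← hz']; exact hgc.symm
    · have hcm : Commute r s'' := by
        rw [he]; exact embG_comm (Ne.symm hj) _ _
      have hn : n = 0 := by
        by_contra hn
        have h1 : (r * s'') ^ 2 = 1 := by
          rw [hcm.mul_pow, pow_two, pow_two, hs''2, root_mul_self h, one_mul]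
        have h2 := orderOf_dvd_of_pow_eq_one h1
        rw [hord'] at h2
        have := Nat.le_of_dvd (by norm_num) h2
        have : 2 ^ 2 ≤ 2 ^ (n + 1) := Nat.pow_le_pow_right (by norm_num) (by omega)
        omega
      subst hn
      replace hgc : Commute (r * s'') g := by simpa [hs''] using hgc
      refine ⟨g, hgM, hgW, hgz, τ i, c', φ', hj, hc', hφ', h', he ▸ hs''M, he ▸ hgc.symm, he ▸ hs''z, ?_⟩
      -- the new root is not a component
      obtain ⟨ys, hys'⟩ := hτ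
      have hyz : Commute y z := Commute.mul_left hgz hcomm
      set hs₁ : ι → GL (Fin m) F := ys * (fun l => gs (τ.symm l)) * ys⁻¹ with hhs
      have hyzy : PtG hs₁ = z := by
        have : y * z * y⁻¹ = z := by rw [hyz.eq, mul_inv_cancel_right]
        rw [← this, hys', hz, _root_.mul_inv_rev, hhs, map_mul, map_mul, map_inv, ← mul_assoc (PtG ys * pmG τ * PtG gs),
          mul_assoc (PtG ys) (pmG τ) (PtG gs), pmG_mul_PtG]
        group
      obtain ⟨e, he2⟩ := PtG_eq_smul hyzy (τ i)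
      have hyr : y * r * y⁻¹ = embG (τ i) (hs₁ (τ i)) := by
        rw [hhs, hys', hr, root, embG_eq_PtG, embG_eq_PtG, _root_.mul_inv_rev,
          ← mul_assoc (PtG ys * pmG τ * PtG (Function.update 1 i (tv c φ))), mul_assoc (PtG ys) (pmG τ), pmG_mul_PtG]
        rw [show PtG ys * ((PtG fun l => Function.update (1 : ι → GL (Fin m) F) i (tv c φ) (τ.symm l)) * pmG τ) *
          (pmG τ)⁻¹ * (PtG ys)⁻¹ = PtG ys * (PtG fun l => Function.update (1 : ι → GL (Fin m) F) i (tv c φ) (τ.symm l)) *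
            (PtG ys)⁻¹ by group, ← map_inv, ← map_mul, ← map_mul]
        congr 1
        funext l
        rcases eq_or_ne l (τ i) with rfl | hl
        · simp [hgi]
        · have : τ.symm l ≠ i := fun e => hl (by rw [← e, Equiv.apply_symm_apply])
          simp [hl, this]
      have h2' : hs₁ (τ i) * hs₁ (τ i) = 1 := by
        refine embG_injective (τ i) ?_
        rw [map_mul, ← hyr, map_one, show y * r * y⁻¹ * (y * r * y⁻¹) = y * (r * r) * y⁻¹ by group,
          root_mul_self h, mul_one, mul_inv_cancel]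
      have h3' := congrArg Units.val (hsq (τ i))
      have h2'' := congrArg Units.val h2'
      rw [Units.val_mul, Units.val_one] at h2'' h3'
      rw [he2] at h3'
      have hs1 := smul_eq_one_of_sq h2'' h3'
      rw [hs1, one_smul] at he2
      refine ⟨fun hcomp => ?_, fun hone => ?_⟩
      rotate_left
      · rw [Units.ext he2.symm, hone] at hyr
        rw [map_one] at hyr
        have hr1 : r = 1 := by
          have := congrArg (fun u => y⁻¹ * u * y) hyr
          simpa [mul_assoc] using this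
        exact tv_ne_one h hc hφ (embG_injective i (by rw [← root, ← hr, hr1, map_one]))
      have heq : y * s * y⁻¹ = y * r * y⁻¹ := by
        rw [hyr, hys, he, root, hcomp, Units.ext he2]
      have hsr : s = r := mul_left_cancel (mul_right_cancel heq)
      rw [hs, hr, root, root] at hsr
      have h' := congrArg Units.val (embG_injective i hsr)
      rw [tv_coe hφ₂, tv_coe h, add_right_inj] at h'
      exact eq_false_of_vecMulVec_eq hind hφ₂0 h'

/-- An element commuting with a product of two roots of distinct factors lies in the wreath group. -/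
theorem mem_of_comm_two_root {i j : ι} (hij : i ≠ j) {c φ c' φ' : Fin m → F} (h : φ ⬝ᵥ c = 0) (hc : c ≠ 0)
    (hφ : φ ≠ 0) (h' : φ' ⬝ᵥ c' = 0) (hrM : root i c φ ∈ M) {k : GL (ι → Fin m) F} (hk : k ∈ M)
    (hcomm : Commute k (root i c φ * root j c' φ')) : k ∈ wreath ι m F := by
  have := hM.neZero
  by_contra hkW
  set gs : ι → GL (Fin m) F := Function.update (Function.update 1 i (tv c φ)) j (tv c' φ') with hgs
  have hz : root i c φ * root j c' φ' = PtG gs := by
    rw [root, root, embG_eq_PtG, embG_eq_PtG, ← map_mul]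
    congr 1
    funext l
    simp only [hgs, Pi.mul_apply]
    rcases eq_or_ne l j with rfl | hl
    · simp [hij.symm]
    · simp [hl]
  rw [hz] at hcomm
  have htt : ∀ {d ψ : Fin m → F}, ψ ⬝ᵥ d = 0 → tv d ψ * tv d ψ = 1 := fun {d ψ} hd => by
    rw [tv_mul_left hd hd, show d + d = 0 by funext q; exact CharTwo.add_self_eq_zero _, tv_zero_left]
  have hsq : ∀ l, gs l * gs l = 1 := fun l => by
    simp only [hgs]
    rcases eq_or_ne l j with rfl | hl
    · simp [htt h']
    rcases eq_or_ne l i with rfl | hl'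
    · simp [hl, htt h]
    · simp [hl, hl']
  obtain ⟨g, hg, hgW, hgz, j', d, ψ, hj', hd, hψ, hdψ, -, hgc, hcz, hne, hone⟩ :=
    hM.exists_two_root_of_comm (i := i) hsq h hc hφ (by simp [hgs, hij]) hrM hk hkW hcomm
  rcases eq_or_ne j' j with rfl | hj
  · -- the product of the two is an involution of one factor
    have hzz : PtG gs * (root i c φ * root j' d ψ) = embG j' (tv c' φ' * tv d ψ) := by
      rw [← hz, map_mul]
      rw [show root i c φ * root j' c' φ' * (root i c φ * root j' d ψ) =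
        root i c φ * (root j' c' φ' * root i c φ) * root j' d ψ by group,
        show root j' c' φ' * root i c φ = root i c φ * root j' c' φ' from (embG_comm hij _ _).symm,
        ← mul_assoc, root_mul_self h, one_mul]
      rfl
    have hct : tv c' φ' * tv d ψ = tv d ψ * tv c' φ' := by
      refine embG_injective j' ?_
      rw [map_mul, map_mul]
      have e := hcz.eq
      rw [← hz] at e
      simp only [root] at e
      refine mul_left_cancel (a := embG i (tv c φ)) ?_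
      rw [← mul_assoc, ← e, ← mul_assoc, ← mul_assoc, embG_comm hij]
    refine hgW (hM.mem_of_comm_embG hg (i := j') ?_ (fun e => ?_) (hzz ▸ hgz.mul_right hgc))
    · rw [show tv c' φ' * tv d ψ * (tv c' φ' * tv d ψ) = tv c' φ' * (tv d ψ * tv c' φ') * tv d ψ by group,
        ← hct, show tv c' φ' * (tv c' φ' * tv d ψ) * tv d ψ = (tv c' φ' * tv c' φ') * (tv d ψ * tv d ψ) by group,
        htt h', htt hdψ, one_mul]
    · apply hne
      rw [hgs, Function.update_self]
      calc tv d ψ = (tv c' φ' * tv c' φ') * tv d ψ := by rw [htt h', one_mul]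
        _ = tv c' φ' := by rw [mul_assoc, e, mul_one]
  · -- otherwise the component is trivial
    exact hone (by simp [hgs, hj, hj'])

/-- An element commuting with a product of three roots, two in distinct factors, lies in the wreath group. -/
theorem mem_of_comm_three {i a b : ι} {c φ c₁ φ₁ c₃ φ₃ : Fin m → F} (h : φ ⬝ᵥ c = 0) (hc : c ≠ 0) (hφ : φ ≠ 0)
    (h₁ : φ₁ ⬝ᵥ c₁ = 0) (hc₁ : c₁ ≠ 0) (hφ₁ : φ₁ ≠ 0) (h₃ : φ₃ ⬝ᵥ c₃ = 0) (hc₃ : c₃ ≠ 0) (hφ₃ : φ₃ ≠ 0)
    (hab : a ≠ b) (hM₁ : root a c₁ φ₁ ∈ M) (hM₃ : root b c₃ φ₃ ∈ M) {k : GL (ι → Fin m) F} (hk : k ∈ M)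
    (hcomm : Commute k (root i c φ * (root a c₁ φ₁ * root b c₃ φ₃)))
    (hz2 : root i c φ * (root a c₁ φ₁ * root b c₃ φ₃) * (root i c φ * (root a c₁ φ₁ * root b c₃ φ₃)) = 1) :
    k ∈ wreath ι m F := by
  have := hM.neZero
  by_contra hkW
  set gs : ι → GL (Fin m) F := Function.update (1 : ι → GL (Fin m) F) i (tv c φ) *
    (Function.update (1 : ι → GL (Fin m) F) a (tv c₁ φ₁) * Function.update (1 : ι → GL (Fin m) F) b (tv c₃ φ₃)) with hgs
  have hz : root i c φ * (root a c₁ φ₁ * root b c₃ φ₃) = PtG gs := by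
    rw [root, root, root, embG_eq_PtG, embG_eq_PtG, embG_eq_PtG, ← map_mul, ← map_mul]
  rw [hz] at hcomm hz2
  have htt : ∀ {d ψ : Fin m → F}, ψ ⬝ᵥ d = 0 → tv d ψ * tv d ψ = 1 := fun {d ψ} hd => by
    rw [tv_mul_left hd hd, show d + d = 0 by funext q; exact CharTwo.add_self_eq_zero _, tv_zero_left]
  have hsqne : ∀ l, l ≠ i → gs l * gs l = 1 := fun l hl => by
    simp only [hgs, Pi.mul_apply, Function.update_of_ne hl, Pi.one_apply, one_mul]
    rcases eq_or_ne l a with rfl | hla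
    · simp [hab, htt h₁]
    rcases eq_or_ne l b with rfl | hlb
    · simp [hla, htt h₃]
    · simp [hla, hlb]
  have hsq : ∀ l, gs l * gs l = 1 := fun l => by
    by_cases hl : l = i
    · subst hl
      refine embG_injective l ?_
      rw [map_one, ← hz2, embG_eq_PtG, ← map_mul]
      congr 1
      funext q
      rcases eq_or_ne q l with rfl | hq
      · simp
      · simp [hq, hsqne q hq]
    · exact hsqne l hl
  obtain ⟨l, d, ψ, hdψ, hd, hψ, hl, hlM⟩ :
      ∃ l d ψ, ψ ⬝ᵥ d = 0 ∧ d ≠ 0 ∧ ψ ≠ 0 ∧ gs l = tv d ψ ∧ root l d ψ ∈ M := by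
    rcases eq_or_ne i a with rfl | hia
    · exact ⟨b, c₃, φ₃, h₃, hc₃, hφ₃, by simp [hgs, hab.symm], hM₃⟩
    · exact ⟨a, c₁, φ₁, h₁, hc₁, hφ₁, by simp [hgs, hia.symm, hab], hM₁⟩
  obtain ⟨g, hg, hgW, -, j, c', φ', hj, hc', hφ', h', -, hgc, -⟩ :=
    hM.exists_two_root_of_comm hsq hdψ hd hψ hl hlM hk hkW hcomm
  exact hgW (hM.mem_of_comm_two_root (Ne.symm hj) hdψ hd hψ h' hlM hg hgc)

/-- There is no rigid overgroup outside the wreath group. -/
theorem le_wreath_of_char_two [Nontrivial ι] (hm6 : 6 ≤ m) : M ≤ wreath ι m F := by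
  have := hM.neZero
  intro k₀ hk₀
  by_contra hk₀W
  obtain ⟨i, j, hij⟩ := exists_pair_ne ι
  have hcom : ∀ (u v x y : Fin m → F), Commute (root i u x) (root j v y) := fun u v x y => embG_comm hij _ _
  obtain ⟨d, c, hd0, hc0, hdk⟩ : ∃ d c : Fin m → F, d ≠ 0 ∧ c ≠ 0 ∧
      k₀ * (root i d (G *ᵥ d) * root j c (G *ᵥ c)) * k₀⁻¹ ∉ wreath ι m F := by
    by_contra hcon
    push Not at hcon
    set L := (wreath ι m F).comap (MulAut.conj k₀).toMonoidHom with hL
    obtain ⟨c1, c2, c3, h12, h13, h23, n1, n2, n3, n12, n13, n23, n123⟩ := exists_ortho_triple hM.form hm6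
    have hpair : ∀ x y : Fin m → F, x ≠ 0 → y ≠ 0 → root i x (G *ᵥ x) * root i y (G *ᵥ y) ∈ L := by
      intro x y hx hy
      have e := L.mul_mem (show _ ∈ L from hcon x c1 hx n1) (show _ ∈ L from hcon y c1 hy n1)
      rwa [Commute.mul_mul_mul_comm (hcom y c1 _ _).symm, root_mul_self (hM.form.axis_self c1), mul_one] at e
    have h7 := L.mul_mem (L.mul_mem (hpair c2 c3 n2 n3) (hpair _ _ n12 n13)) (hpair _ _ n23 n123)
    rw [← root_eq_prod hM.form h12 h13 h23] at h7
    exact hk₀W (hM.mem_of_conj_root hk₀ (hM.form.axis_self c1) n1 (hM.form.axis_ne n1) h7)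
  set φ := G *ᵥ c with hφdef
  set φd := G *ᵥ d with hφddef
  have hc : φ ⬝ᵥ c = 0 := hM.form.axis_self c
  have hd : φd ⬝ᵥ d = 0 := hM.form.axis_self d
  have hφ : φ ≠ 0 := hM.form.axis_ne hc0
  have hφd : φd ≠ 0 := hM.form.axis_ne hd0
  set a := root i d φd * root j c φ with ha
  have haM : a ∈ M := M.mul_mem (hM.root_mem i d) (hM.root_mem j c)
  have ha2 : a * a = 1 := by
    rw [ha, Commute.mul_mul_mul_comm (hcom d c φd φ).symm, root_mul_self hd, root_mul_self hc, one_mul]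
  set r := root i c φ with hr
  have hrM : r ∈ M := hM.root_mem i c
  set a' := k₀ * a * k₀⁻¹ with ha'
  have ha'M : a' ∈ M := M.mul_mem (M.mul_mem hk₀ haM) (M.inv_mem hk₀)
  have ha'2 : a' * a' = 1 := by
    rw [ha', show k₀ * a * k₀⁻¹ * (k₀ * a * k₀⁻¹) = k₀ * (a * a) * k₀⁻¹ by group, ha2, mul_one, mul_inv_cancel]
  have hcl : Subgroup.closure ({r, a'} : Set (GL (ι → Fin m) F)) ≤ M := by
    rw [Subgroup.closure_le]; rintro x (rfl | rfl) <;> assumption
  rcases invol_pair (root_mul_self (i := i) hc) ha'2 with ⟨q, hq, hqe⟩ | ⟨g, hg, n, hord, hgc⟩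
  · have hqM := hcl hq
    have hyr : (k₀⁻¹ * q) * r * (k₀⁻¹ * q)⁻¹ = a := by
      rw [show k₀⁻¹ * q * r * (k₀⁻¹ * q)⁻¹ = k₀⁻¹ * (q * r * q⁻¹) * k₀ by group, hqe, ha']; group
    obtain ⟨τ, hτ⟩ := hM.mem_of_conj_root (M.mul_mem (M.inv_mem hk₀) hqM) hc hc0 hφ
      (by rw [← hr, hyr]; exact (wreath ι m F).mul_mem (root_mem_wreath i d φd) (root_mem_wreath j c φ))
    obtain ⟨e, ψ, he, hψ, heψ, hce⟩ := hτ.conj_root (i := i) hc hc0 hφ
    rw [← hr, hyr, ha, root, root, root, embG_eq_PtG, embG_eq_PtG, ← map_mul] at hce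
    rcases eq_or_ne (τ i) i with hti | hti
    · rw [hti] at hce
      obtain ⟨l, hl⟩ := exists_scalar_of_PtG_eq_embG hce (k := j) hij.symm
      simp [hij.symm] at hl
      exact tv_ne_smul_one hc hc0 hφ l hl
    · obtain ⟨l, hl⟩ := exists_scalar_of_PtG_eq_embG hce (k := i) (Ne.symm hti)
      simp [hij] at hl
      exact tv_ne_smul_one hd hd0 hφd l hl
  set a'' := g * a' * g⁻¹ with ha''
  have hgM := hcl hg
  have ha''M : a'' ∈ M := M.mul_mem (M.mul_mem hgM ha'M) (M.inv_mem hgM)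
  have ha''2 : a'' * a'' = 1 := by
    rw [ha'', show g * a' * g⁻¹ * (g * a' * g⁻¹) = g * (a' * a') * g⁻¹ by group, ha'2, mul_one, mul_inv_cancel]
  obtain ⟨X, hX2, hrX, haX, hXle⟩ := exists_two_group (root_mul_self (i := i) hc) ha''2
    (n := n + 1) (by rw [← hord, pow_orderOf_eq_one])
  have hXW := hM.le_of_root_mem (hXle.trans ((Subgroup.closure_le _).mpr (by
    rintro x (rfl | rfl)
    · exact hrM
    · exact ha''M))) hX2 hc hc0 hφ hrX
  have hgW : g ∉ wreath ι m F := fun hgW => hdk (by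
    have := (wreath ι m F).mul_mem ((wreath ι m F).mul_mem ((wreath ι m F).inv_mem hgW) (hXW haX)) hgW
    rwa [ha'', show g⁻¹ * (g * a' * g⁻¹) * g = a' by group] at this)
  have hord' : orderOf (r * a'') = 2 ^ (n + 1) := hord
  rcases Nat.eq_zero_or_pos n with hn | hn
  · subst hn
    replace hgc : Commute (r * a'') g := by simpa [ha''] using hgc
    have hcm : Commute r a'' := by
      have h1 : (r * a'') ^ 2 = 1 := by rw [show 2 = 2 ^ (0 + 1) from rfl, ← hord', pow_orderOf_eq_one]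
      rw [pow_two] at h1
      show r * a'' = a'' * r
      have h2 := eq_inv_of_mul_eq_one_left h1
      rw [_root_.mul_inv_rev, inv_eq_of_mul_eq_one_right (root_mul_self (i := i) hc),
        inv_eq_of_mul_eq_one_right ha''2] at h2
      exact h2
    set y := g * k₀ with hy
    have hya : a'' = y * a * y⁻¹ := by rw [hy, ha'', ha']; group
    have hyM : y ∈ M := M.mul_mem hgM hk₀
    have hcy : Commute (y⁻¹ * r * y) a := by
      show y⁻¹ * r * y * a = a * (y⁻¹ * r * y)
      have := congrArg (fun u => y⁻¹ * u * y) hcm.eq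
      rw [hya] at this
      convert this using 1 <;> group
    have h1W := hM.mem_of_comm_two_root hij hd hd0 hφd hc (hM.root_mem i d) (M.mul_mem (M.mul_mem (M.inv_mem hyM) hrM) hyM) hcy
    obtain ⟨τ, hτ⟩ : y ∈ wreath ι m F := by
      have := hM.mem_of_conj_root (M.inv_mem hyM) hc hc0 hφ (by rwa [inv_inv])
      rwa [inv_mem_iff] at this
    obtain ⟨c₁, φ₁, hc₁, hφ₁, h₁, he₁⟩ := hτ.conj_root (i := i) hd hd0 hφd
    obtain ⟨c₃, φ₃, hc₃, hφ₃, h₃, he₃⟩ := hτ.conj_root (i := j) hc hc0 hφ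
    have hae : a'' = root (τ i) c₁ φ₁ * root (τ j) c₃ φ₃ := by rw [hya, ha, ← he₁, ← he₃]; group
    have hne : τ i ≠ τ j := fun e => hij (τ.injective e)
    have hz2 : (r * a'') * (r * a'') = 1 := by
      rw [← pow_two, show 2 = 2 ^ (0 + 1) from rfl, ← hord', pow_orderOf_eq_one]
    rw [hae] at hgc hz2
    exact hgW (hM.mem_of_comm_three hc hc0 hφ h₁ hc₁ hφ₁ h₃ hc₃ hφ₃ hne
      (he₁ ▸ M.mul_mem (M.mul_mem hyM (hM.root_mem i d)) (M.inv_mem hyM))
      (he₃ ▸ M.mul_mem (M.mul_mem hyM (hM.root_mem j c)) (M.inv_mem hyM)) hgM hgc.symm hz2)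
  · obtain ⟨τ, hτ⟩ := hXW haX
    obtain ⟨c₂', φ₂', hc₂', hφ₂', h₂', he⟩ := hτ.conj_root (i := i) hc hc0 hφ
    have hsq : (r * a'') ^ 2 = r * root (τ i) c₂' φ₂' := by
      rw [← he, inv_eq_of_mul_eq_one_right ha''2, pow_two, hr]; group
    have hz : (r * a'') ^ 2 ^ n = (r * root (τ i) c₂' φ₂') ^ 2 ^ (n - 1) := by
      rw [← hsq, ← pow_mul, ← pow_succ', show n - 1 + 1 = n by omega]
    have hne1 : (r * a'') ^ 2 ^ n ≠ 1 := pow_ne_one_of_lt_orderOf (by positivity) (by
      rw [hord']; exact Nat.pow_lt_pow_right (by norm_num) (by omega))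
    have hzz : (r * a'') ^ 2 ^ n * (r * a'') ^ 2 ^ n = 1 := by
      rw [← pow_add, ← two_mul, ← pow_succ', ← hord', pow_orderOf_eq_one]
    have hgc' : Commute g ((r * a'') ^ 2 ^ n) := hgc.symm
    rw [hz] at hne1 hzz hgc'
    rcases eq_or_ne (τ i) i with hti | hti
    · rw [hti, hr, root, root, ← map_mul, ← map_pow] at hne1 hzz hgc'
      refine hgW (hM.mem_of_comm_embG hgM (i := i) (A := (tv c φ * tv c₂' φ₂') ^ 2 ^ (n - 1)) ?_ (fun e => hne1 ?_) hgc')
      · refine embG_injective i ?_; rwa [map_mul, map_one]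
      · rw [e, map_one]
    · have hcm : Commute r (root (τ i) c₂' φ₂') := embG_comm (Ne.symm hti) _ _
      have hn1 : n - 1 = 0 := by
        by_contra hh
        apply hne1
        obtain ⟨l, hl⟩ : ∃ l, n - 1 = l + 1 := ⟨n - 2, by omega⟩
        rw [hl, pow_succ', pow_mul, hcm.mul_pow, pow_two, pow_two, root_mul_self hc, root_mul_self h₂',
          one_mul, one_pow]
      rw [hn1, pow_zero, pow_one] at hgc'
      exact hgW (hM.mem_of_comm_two_root (Ne.symm hti) hc hc0 hφ h₂' hrM hgM hgc')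

end Rigid

end CfsgLib.TWSp
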