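import Cfsg.Agent.TensorWreathSp.Radical
import Cfsg.Agent.TensorWreathSp.Odd
import Cfsg.Agent.TensorWreathSp.Two

/-!
# Overgroups of the factors outside the wreath group contain central elements
-/

set_option autoImplicit false
set_option linter.unusedSectionVars false

namespace CfsgLib.TWSp

open Matrix CfsgLib.MaxSub CfsgLib.TWreath

variable {F : Type*} [Field F] {ι : Type} [Fintype ι] [DecidableEq ι] {m : ℕ}
  {G : Matrix (Fin m) (Fin m) F}

/-- Split invertible matrices. -/
def krG (i : ι) : GL (Fin m) F × GL (Rest i m) F →* GL (ι → Fin m) F :=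
  MonoidHom.toHomUnits
    { toFun := fun p => kr i (p.1 : Matrix (Fin m) (Fin m) F) (p.2 : Matrix (Rest i m) (Rest i m) F)
      map_one' := kr_one i
      map_mul' := fun p q => by rw [kr_mul]; rfl }

theorem krG_val (i : ι) (p : GL (Fin m) F × GL (Rest i m) F) :
    (krG i p : Matrix (ι → Fin m) (ι → Fin m) F) =
      kr i (p.1 : Matrix (Fin m) (Fin m) F) (p.2 : Matrix (Rest i m) (Rest i m) F) := rfl

theorem krG_embG (i : ι) (l : {j // j ≠ i}) (h : GL (Fin m) F) :
    krG i (1, embG l h) = embG (l : ι) h :=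
  Units.ext (by rw [krG_val, embG_val, embG_val, Units.val_one, emb_rest])

theorem wreath_eq_top [Nonempty ι] (hι : ∀ a b : ι, a = b) (g : GL (ι → Fin m) F) : g ∈ wreath ι m F := by
  obtain ⟨i⟩ := ‹Nonempty ι›
  have hc : ∀ a : ι → Fin m, (fun _ => a i) = a := fun a => funext fun k => congrArg a (hι i k)
  let A : Matrix (Fin m) (Fin m) F := fun p q => (g : Matrix (ι → Fin m) (ι → Fin m) F) (fun _ => p) (fun _ => q)
  have hA : emb i A = (g : Matrix (ι → Fin m) (ι → Fin m) F) := by
    ext a b
    rw [emb, Pt_update_eq, Finset.prod_eq_one (fun k hk => absurd (hι k i) (Finset.ne_of_mem_erase hk)), mul_one]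
    show (g : Matrix (ι → Fin m) (ι → Fin m) F) (fun _ => a i) (fun _ => b i) = _
    rw [hc, hc]
  have hAu : IsUnit A := mulVec_injective_iff_isUnit.mp fun u v huv => by
    funext q
    have h1 : emb i A *ᵥ lift i u (fun _ => 1) = emb i A *ᵥ lift i v (fun _ => 1) := by
      rw [emb_mulVec_lift, emb_mulVec_lift]; exact congrArg (fun t => lift i t _) huv
    rw [hA] at h1
    have := congrFun (mulVec_injective_iff_isUnit.mpr g.isUnit h1) (fun _ => q)
    simpa [lift_apply] using this
  rw [show g = embG i hAu.unit from Units.ext (by rw [embG_val]; exact hA.symm)]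
  exact embG_mem _ _

/-- Split elements with wreath rest lie in the wreath group. -/
theorem krG_mem_wreath (i : ι) (A : GL (Fin m) F) {S : GL (Rest i m) F}
    (hS : S ∈ wreath {j // j ≠ i} m F) : krG i (A, S) ∈ wreath ι m F := by
  classical
  obtain ⟨σ, gs, rfl⟩ := hS
  have e : krG i (A, PtG gs * pmG σ) =
      embG i A * (PtG (fun k => if h : k = i then (1 : GL (Fin m) F) else gs ⟨k, h⟩) * pmG (Equiv.Perm.ofSubtype σ)) := by
    apply Units.ext
    have hpm : (pm (Equiv.Perm.ofSubtype σ) : Matrix (ι → Fin m) (ι → Fin m) F) = kr i 1 (pm σ) := by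
      ext a b
      show (if b = a ∘ Equiv.Perm.ofSubtype σ then (1 : F) else 0) =
        (1 : Matrix (Fin m) (Fin m) F) (a i) (b i) * (if (fun j : {j // j ≠ i} => b j) = (fun j : {j // j ≠ i} => a j) ∘ σ then 1 else 0)
      have hi : Equiv.Perm.ofSubtype σ i = i := Equiv.Perm.ofSubtype_apply_of_not_mem σ (by simp)
      have hiff : b = a ∘ Equiv.Perm.ofSubtype σ ↔ a i = b i ∧
          (fun j : {j // j ≠ i} => b j) = (fun j : {j // j ≠ i} => a j) ∘ σ := by
        constructor
        · intro h
          refine ⟨by rw [h, Function.comp_apply, hi], funext fun j => ?_⟩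
          rw [h]
          show a (Equiv.Perm.ofSubtype σ j) = a (σ j)
          rw [Equiv.Perm.ofSubtype_apply_coe]
        · rintro ⟨h1, h2⟩
          funext k
          rcases eq_or_ne k i with rfl | hk
          · rw [Function.comp_apply, hi, h1]
          · have := congrFun h2 ⟨k, hk⟩
            simp only [Function.comp_apply] at this ⊢
            rw [this, Equiv.Perm.ofSubtype_apply_of_mem σ hk]
      by_cases h : b = a ∘ Equiv.Perm.ofSubtype σ
      · obtain ⟨h1, h2⟩ := hiff.mp h
        rw [if_pos h, if_pos h2, h1, one_apply_eq, mul_one]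
      · rw [if_neg h]
        by_cases h1 : a i = b i
        · rw [if_neg fun h2 => h (hiff.mpr ⟨h1, h2⟩), mul_zero]
        · rw [one_apply_ne h1, zero_mul]
    rw [krG_val, Units.val_mul, Units.val_mul, Units.val_mul, embG_val, PtG_val, PtG_val, pmG_val, pmG_val, hpm,
      Pt_eq_kr _ i, emb_eq_kr, kr_mul, kr_mul, dif_pos rfl]
    simp only [Units.val_one, Matrix.one_mul, Matrix.mul_one, Units.val_mul]
    congr 2
    refine congrArg Pt (funext fun j => ?_)
    rw [dif_neg j.2]
  rw [e]
  exact (wreath ι m F).mul_mem (embG_mem i A) ((wreath ι m F).mul_mem (PtG_mem _) (pmG_mem _))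

theorem lift_mem_block_rest {i : ι} (l : {j // j ≠ i}) {e : Fin m → F} (y : Fin m → F) {u : Rest i m → F}
    (hu : u ∈ block l e) : lift i y u ∈ block (l : ι) e := by
  refine mem_block.mpr fun χ hχ => funext fun a => ?_
  have h := congrFun (mem_block.mp hu χ hχ) fun j => a j
  show (χ ⬝ᵥ fun k => lift i y u (Function.update a (l : ι) k)) = 0
  simp only [lift_apply, Function.update_of_ne (Ne.symm l.2)]
  have h2 : ∀ k, (fun j : {j // j ≠ i} => Function.update a (l : ι) k j) = Function.update (fun j : {j // j ≠ i} => a j) l k := by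
    intro k; funext j
    rcases eq_or_ne j l with rfl | hj
    · simp
    · rw [Function.update_of_ne hj, Function.update_of_ne fun hh => hj (Subtype.ext hh)]
  simp only [h2, dotProduct]
  rw [Finset.sum_congr rfl fun k _ => mul_left_comm _ _ _, ← Finset.mul_sum]
  rw [show ∑ k, χ k * u (Function.update (fun j : {j // j ≠ i} => a j) l k) = 0 from h, mul_zero]

/-- A split element in the similitudes has similitude factors. -/
theorem split_sim [NeZero m] (hG : SpForm G) {i : ι} {A : GL (Fin m) F} {S : GL (Rest i m) F}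
    (h : krG i (A, S) ∈ gsim ι G) : S ∈ gsim {j // j ≠ i} G ∧
      ∃ a : F, (A : Matrix (Fin m) (Fin m) F)ᵀ * G * (A : Matrix (Fin m) (Fin m) F) = a • G := by
  obtain ⟨μ, hμ, he⟩ := mem_gsim.mp h
  set J := gram {j // j ≠ i} G
  set X := (A : Matrix (Fin m) (Fin m) F)ᵀ * G * (A : Matrix (Fin m) (Fin m) F)
  set Y := (S : Matrix (Rest i m) (Rest i m) F)ᵀ * J * (S : Matrix (Rest i m) (Rest i m) F)
  rw [krG_val, gram_eq_kr G i, kr_transpose, kr_mul, kr_mul, ← kr_smul_left] at he
  have hJd : IsUnit J.det := gram_det_unit hG.det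
  have hYd : IsUnit Y.det := by
    rw [show Y = (S : Matrix (Rest i m) (Rest i m) F)ᵀ * J * (S : Matrix (Rest i m) (Rest i m) F) from rfl, det_mul,
      det_mul, det_transpose]
    exact ((((Matrix.isUnit_iff_isUnit_det _).mp S.isUnit)).mul hJd).mul ((Matrix.isUnit_iff_isUnit_det _).mp S.isUnit)
  have hne : ∀ {n : Type} [Fintype n] [DecidableEq n] [Nonempty n] {B : Matrix n n F}, IsUnit B.det → B ≠ 0 :=
    fun {n} _ _ _ {B} hB h0 => by rw [h0, det_zero] at hB; exact not_isUnit_zero hB
  have : Nonempty (Rest i m) := ⟨fun _ => 0⟩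
  obtain ⟨r, s, hrs⟩ : ∃ r s, J r s ≠ 0 := by
    by_contra hc
    push Not at hc
    exact hne hJd (Matrix.ext hc)
  obtain ⟨r', s', hrs'⟩ : ∃ r s, Y r s ≠ 0 := by
    by_contra hc
    push Not at hc
    exact hne hYd (Matrix.ext hc)
  have ent : ∀ p q r s, X p q * Y r s = μ * G p q * J r s := fun p q r s => by
    have := congrFun (congrFun he (extend i p r)) (extend i q s)
    simpa [kr, extend_self, extend_rest, smul_eq_mul] using this
  have hX : X = (μ * J r' s' / Y r' s') • G := by
    ext p q
    have := ent p q r' s'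
    rw [Matrix.smul_apply, smul_eq_mul]
    field_simp
    linear_combination this
  refine ⟨?_, _, hX⟩
  obtain ⟨p, q, hpq⟩ : ∃ p q, G p q ≠ 0 := by
    by_contra hc
    push Not at hc
    exact hne hG.det (Matrix.ext hc)
  set a := μ * J r' s' / Y r' s' with ha
  have ha0 : a ≠ 0 := by
    intro h0
    have := ent p q r s
    rw [hX, h0, zero_smul, Matrix.zero_apply, zero_mul] at this
    exact mul_ne_zero (mul_ne_zero hμ hpq) hrs this.symm
  refine mem_gsim.mpr ⟨μ / a, div_ne_zero hμ ha0, ?_⟩
  show Y = _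
  ext t u
  have := ent p q t u
  rw [hX, Matrix.smul_apply, smul_eq_mul] at this
  rw [Matrix.smul_apply, smul_eq_mul, div_mul_eq_mul_div, eq_div_iff ha0]
  exact mul_right_cancel₀ hpq (by linear_combination this)

/-- If outside overgroups without central elements contain split elements, every outside overgroup has a
non-scalar central element. -/
theorem exists_cen_gen [Finite F] [NeZero m] (hG : SpForm G)
    (hsplit : ∀ (ι : Type) [Fintype ι] [DecidableEq ι] [Nontrivial ι] (M : Subgroup (GL (ι → Fin m) F)),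
      M ≤ gsim ι G → HasFactors G M → NoCen G M → ¬ M ≤ wreath ι m F →
      ∃ x ∈ M, x ∉ wreath ι m F ∧ ∃ (i : ι) (A : Matrix (Fin m) (Fin m) F) (S : Matrix (Rest i m) (Rest i m) F),
        (x : Matrix (ι → Fin m) (ι → Fin m) F) = kr i A S) :
    ∀ (n : ℕ) (ι : Type) [Fintype ι] [DecidableEq ι] [Nonempty ι], Fintype.card ι = n →
      ∀ M : Subgroup (GL (ι → Fin m) F), M ≤ gsim ι G → HasFactors G M → ¬ M ≤ wreath ι m F → ¬ NoCen G M := by
  intro n
  induction n using Nat.strong_induction_on with
  | _ n ih =>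
    intro ι _ _ _ hn M hsim hfac hW hnc
    classical
    obtain ⟨p, hp'⟩ := CharP.exists F
    have : Fact p.Prime := ⟨CharP.char_is_prime F p⟩
    have hnt : Nontrivial ι := by
      rcases subsingleton_or_nontrivial ι with h | h
      · exact absurd (fun g _ => wreath_eq_top (fun a b => Subsingleton.elim a b) g) hW
      · exact h
    obtain ⟨x, hx, hxW, i, A, S, hxv⟩ := hsplit ι M hsim hfac hnc hW
    have hxi := mulVec_injective_iff_isUnit.mpr x.isUnit
    have hAu : IsUnit A := mulVec_injective_iff_isUnit.mp fun u v huv => by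
      have h1 := @hxi (lift i u fun _ => 1) (lift i v fun _ => 1) (by
        simp only [hxv, kr_mulVec_lift]; exact congrArg (fun t => lift i t _) huv)
      funext q
      have := congrFun h1 (extend i q fun _ => 0)
      simpa [lift_apply, extend_self] using this
    set c : Fin m → F := Pi.single 0 1 with hcdef
    have hc : c ≠ 0 := by simp [c]
    have hSu : IsUnit S := mulVec_injective_iff_isUnit.mp fun u v huv =>
      lift_injective (i := i) hc (@hxi (lift i c u) (lift i c v) (by
        simp only [hxv, kr_mulVec_lift]; exact congrArg _ huv))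
    have hxe : x = krG i (hAu.unit, hSu.unit) := Units.ext hxv
    -- the rest
    let M' : Subgroup (GL (Rest i m) F) := (M.comap (krG i)).map (MonoidHom.snd _ _)
    have hM'sim : M' ≤ gsim {j // j ≠ i} G := by
      rintro _ ⟨⟨B, T⟩, hBT, rfl⟩
      exact (split_sim hG (hsim hBT)).1
    have hM'fac : HasFactors G M' := fun l h hh => ⟨(1, embG l h), by
      show krG i (1, embG l h) ∈ M
      rw [krG_embG]; exact hfac l h hh, rfl⟩
    have : Nonempty {j // j ≠ i} := let ⟨l, hl⟩ := exists_ne i; ⟨⟨l, hl⟩⟩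
    have hlt : Fintype.card {j // j ≠ i} < n := by rw [← hn]; exact Fintype.card_subtype_lt (x := i) (by simp)
    have hM'W : ¬ M' ≤ wreath {j // j ≠ i} m F := fun hle => hxW (hxe ▸ krG_mem_wreath i _ (hle ⟨_, by
      show krG i (hAu.unit, hSu.unit) ∈ M
      rwa [← hxe], rfl⟩))
    refine ih _ hlt {j // j ≠ i} rfl M' hM'sim hM'fac hM'W fun l e he S1 hS1 b hb => ?_
    obtain ⟨⟨B, S1'⟩, hBS, rfl⟩ := hS1
    change (S1' : Matrix (Rest i m) (Rest i m) F) = _ at hb
    -- `S1'` is an isometry
    obtain ⟨hS1sim, a, ha⟩ := split_sim hG (hsim hBS)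
    obtain ⟨d, hd⟩ := hG.exists_partner he
    set N := kr l (cen G e) b with hNdef
    have hN2 : N * N = 0 := by
      rw [hNdef, kr_mul, show cen G e * cen G e = 0 from vecMulVec_sq (hG.axis_self e), kr_zero_left]
    have hS1iso : IsIso G S1' := by
      obtain ⟨μ, -, hsm⟩ := mem_gsim.mp hS1sim
      suffices μ = 1 by rw [IsIso, hsm, this, one_smul]
      set w : Rest l m → F := fun _ => 1
      have hw : w ≠ 0 := fun h => one_ne_zero (congrFun h fun _ => 0)
      obtain ⟨f, hf⟩ := exists_dot_eq_one' hw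
      set w' := (gram {k // k ≠ l} G)⁻¹ *ᵥ f
      have hww : w ⬝ᵥ gram {k // k ≠ l} G *ᵥ w' = 1 := by
        rw [mulVec_mulVec, mul_nonsing_inv _ (gram_det_unit hG.det), one_mulVec, dotProduct_comm, hf]
      have h1 := congrArg (fun X => lift l e w ⬝ᵥ X *ᵥ lift l d w') hsm
      simp only [smul_mulVec, dotProduct_smul, smul_eq_mul] at h1
      rw [← mulVec_mulVec, ← mulVec_mulVec, dotProduct_mulVec (lift l e w), vecMul_transpose, hb, add_mulVec,
        add_mulVec, one_mulVec, one_mulVec, hNdef, kr_mulVec_lift, kr_mulVec_lift, cen_mulVec, cen_mulVec, hG.self,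
        hd, zero_smul, one_smul, mulVec_add, dotProduct_add, add_dotProduct, add_dotProduct, form_lift, form_lift,
        form_lift, form_lift, hG.self, hww, hG.skew d e, hd] at h1
      simp [om] at h1
      exact h1.symm
    -- remove the part of the factor `i`
    have : Finite (GL (Fin m) F) := by
      have : Fintype F := Fintype.ofFinite F
      infer_instance
    obtain ⟨t, o, ho, hord⟩ : ∃ t o, ¬ p ∣ o ∧ orderOf B = p ^ t * o :=
      ⟨(orderOf B).factorization p, orderOf B / p ^ (orderOf B).factorization p,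
        Nat.not_dvd_ordCompl Fact.out (orderOf_pos B).ne', (Nat.ordProj_mul_ordCompl_eq_self _ p).symm⟩
    have hoF : (o : F) ≠ 0 := fun h => ho ((CharP.cast_eq_zero_iff F p o).mp h)
    obtain ⟨k, hk⟩ : ∃ k : ℕ, ((o * k : ℕ) : F) = 1 := by
      refine ⟨o ^ (p - 2), ?_⟩
      have hfp : (o : ZMod p) ≠ 0 := fun h => ho ((ZMod.natCast_eq_zero_iff o p).mp h)
      have h1 : ((o * o ^ (p - 2) : ℕ) : ZMod p) = ((1 : ℕ) : ZMod p) := by
        push_cast
        rw [← pow_succ', show p - 2 + 1 = p - 1 by have := (Fact.out : p.Prime).two_le; omega,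
          ZMod.pow_card_sub_one_eq_one hfp]
      rw [ZMod.natCast_eq_natCast_iff] at h1
      have := (CharP.natCast_eq_natCast F p).mpr h1
      simpa using this
    set n' := o * k with hn'
    have hBsim : ∀ q : ℕ, ((B ^ q : GL (Fin m) F) : Matrix (Fin m) (Fin m) F)ᵀ * G *
        ((B ^ q : GL (Fin m) F) : Matrix (Fin m) (Fin m) F) = a ^ q • G := by
      intro q
      induction q with
      | zero => simp
      | succ q ihq =>
        rw [pow_succ, Units.val_mul, transpose_mul]
        calc (B : Matrix (Fin m) (Fin m) F)ᵀ * ((B ^ q : GL (Fin m) F) : Matrix (Fin m) (Fin m) F)ᵀ * G *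
              (((B ^ q : GL (Fin m) F) : Matrix (Fin m) (Fin m) F) * (B : Matrix (Fin m) (Fin m) F))
            = (B : Matrix (Fin m) (Fin m) F)ᵀ * (((B ^ q : GL (Fin m) F) : Matrix (Fin m) (Fin m) F)ᵀ * G *
              ((B ^ q : GL (Fin m) F) : Matrix (Fin m) (Fin m) F)) * (B : Matrix (Fin m) (Fin m) F) := by
              simp only [Matrix.mul_assoc]
          _ = a ^ (q + 1) • G := by rw [ihq, Matrix.mul_smul, Matrix.smul_mul, ha, smul_smul, ← pow_succ]
    have han : a ^ n' = 1 := by
      have h1 := hBsim (n' * p ^ t)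
      rw [show B ^ (n' * p ^ t) = 1 by
        rw [hn', show o * k * p ^ t = orderOf B * k by rw [hord]; ring, pow_mul, pow_orderOf_eq_one, one_pow],
        Units.val_one, transpose_one, Matrix.one_mul, Matrix.mul_one] at h1
      obtain ⟨p₀, q₀, hpq⟩ : ∃ p q, G p q ≠ 0 := by
        by_contra hc
        push Not at hc
        have h0 := hG.det
        rw [show G = 0 from Matrix.ext hc, det_zero] at h0
        exact not_isUnit_zero h0
      have h2 := congrFun (congrFun h1 p₀) q₀
      rw [Matrix.smul_apply, smul_eq_mul, eq_comm, mul_eq_right₀ hpq, pow_mul] at h2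
      refine iterateFrobenius_inj F p t ?_
      rw [map_one, iterateFrobenius_def, h2]
    have hBn : B ^ n' ∈ spG G := by rw [mem_spG, hBsim, han, one_smul]
    have hS1n : S1' ^ n' = S1' := by
      apply Units.ext
      have hq : ∀ q : ℕ, ((S1' ^ q : GL (Rest i m) F) : Matrix (Rest i m) (Rest i m) F) = 1 + (q : F) • N := by
        intro q
        induction q with
        | zero => simp
        | succ q ihq =>
          rw [pow_succ, Units.val_mul, ihq, hb, add_mul, one_mul, mul_add, mul_one, smul_mul_assoc, hN2, smul_zero,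
            Nat.cast_succ, add_smul, one_smul]
          abel
      rw [hq, hn', hk, one_smul, hb]
    set X := krG i ((1 : GL (Fin m) F), S1') with hXdef
    have hXM : X ∈ M := by
      have h1 : krG i (B, S1') ^ n' ∈ M := M.pow_mem hBS n'
      rw [← map_pow, Prod.pow_mk, hS1n,
        show ((B ^ n', S1') : GL (Fin m) F × GL (Rest i m) F) = (B ^ n', 1) * (1, S1') by simp, map_mul] at h1
      have h2 : krG i (B ^ n', (1 : GL (Rest i m) F)) = embG i (B ^ n') :=
        Units.ext (by rw [krG_val, embG_val, emb_eq_kr, Units.val_one])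
      rw [h2] at h1
      have := M.mul_mem (M.inv_mem (hfac i _ hBn)) h1
      rwa [inv_mul_cancel_left] at this
    have hXiso : IsIso G X := by
      rw [IsIso, krG_val, gram_eq_kr G i, kr_transpose, kr_mul, kr_mul, Units.val_one, transpose_one, Matrix.one_mul,
        Matrix.mul_one, hS1iso]
    obtain ⟨b', hb'⟩ := eq_kr_of_block hG hXiso (j := (l : ι)) he fun v => by
      rw [krG_val, hb, Units.val_one, kr_add_right, kr_one, add_sub_cancel_left]
      rw [eq_sum_lift i v, mulVec_sum]
      refine Submodule.sum_mem _ fun q _ => ?_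
      rw [kr_mulVec_lift]
      refine lift_mem_block_rest l _ ?_
      rw [hNdef, cen, kr_vecMulVec_mulVec]
      exact lift_mem_block l e _
    obtain ⟨s, rfl⟩ := hnc (l : ι) e he X hXM b' hb'
    have hr : (X : Matrix (ι → Fin m) (ι → Fin m) F) = embG (l : ι) (spt G s e) := by
      rw [hb', ← hG.rt_val]; rfl
    rw [krG_val, Units.val_one, embG_val, emb_rest i l] at hr
    have hS1r : (S1' : Matrix (Rest i m) (Rest i m) F) = emb l (spt G s e : Matrix (Fin m) (Fin m) F) :=
      kr_left_injective one_ne_zero hr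
    refine ⟨s, kr_left_injective (hG.cen_ne he) (add_left_cancel (a := (1 : Matrix (Rest i m) (Rest i m) F)) ?_)⟩
    rw [← hb, hS1r, ← embG_val]
    exact hG.rt_val l s e

/-- An overgroup of the factors outside the wreath group has a non-scalar central element. -/
theorem exists_cen [Finite F] (hm : 4 ≤ m) (hm6 : (2 : F) = 0 → 6 ≤ m) (hG : SpForm G) :
    ∀ (n : ℕ) (ι : Type) [Fintype ι] [DecidableEq ι] [Nonempty ι], Fintype.card ι = n →
      ∀ M : Subgroup (GL (ι → Fin m) F), M ≤ gsim ι G → HasFactors G M → ¬ M ≤ wreath ι m F → ¬ NoCen G M := by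
  have : NeZero m := ⟨by omega⟩
  refine exists_cen_gen hG fun ι _ _ _ M hsim hfac hnc hW => ?_
  obtain ⟨p, hp'⟩ := CharP.exists F
  have : Fact p.Prime := ⟨CharP.char_is_prime F p⟩
  obtain ⟨y, hy, hyW, i, j, c, c', hc, hc', hmap⟩ : ∃ y ∈ M, y ∉ wreath ι m F ∧ ∃ (i j : ι) (c c' : Fin m → F),
      c ≠ 0 ∧ c' ≠ 0 ∧
        (block i c).map (Matrix.mulVecLin (y : Matrix (ι → Fin m) (ι → Fin m) F)) ≤ block j c' := by
    by_contra hcon
    push Not at hcon
    have hR : Rigid G M := ⟨hm, hG, hsim, hfac, fun y hy i j c c' hc hc' hle => by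
      by_contra hyW
      exact hcon y hy hyW i j c c' hc hc' hle⟩
    rcases eq_or_ne p 2 with rfl | hp2
    · exact hW (hR.le_wreath_of_char_two (hm6 CharTwo.two_eq_zero))
    · exact hW (hR.le_wreath_of_char_odd (p := p) hp2)
  obtain ⟨z, hz, hzW, i, c, hc, hzb⟩ := exists_stab hm hG hsim hfac hnc hy hyW hc hc' hmap
  obtain ⟨x, hx, hxW, A, S, hxv⟩ :=
    Setting.split_of_stab ⟨hm, hm6, hG, hsim, hfac, hnc⟩ hz hzW hc hzb
  exact ⟨x, hx, hxW, i, A, S, hxv⟩

end CfsgLib.TWSp
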