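import Cfsg.Agent.TensorWreathSp.OmegaTop
import Cfsg.Agent.TensorOrth.Transport
import Cfsg.Agent.AschbacherQuad.Basic

/-!
# Maximality of symplectic tensor wreath stabilisers in `Ω`, factors of dimension at least four
-/

set_option autoImplicit false
set_option linter.unusedSectionVars false

namespace CfsgLib.TWSp

open Matrix CfsgLib.MaxSub CfsgLib.TWreath Cfsg.Geo
open CfsgLib.OrthMax (Isom eich_mem_omega)
open CfsgLib.Forms (eich eich_mulVec eichIso mat_eichIso)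

variable {F : Type*} [Field F] [Fintype F] {m t : ℕ} {G : Matrix (Fin m) (Fin m) F}
  {Q : QuadraticForm F ((Fin t → Fin m) → F)} {c₀ : F}

/-- An element of `Ω` outside the wreath group. -/
theorem OSet.exists_omega_notMem (hO : OSet G Q c₀) (ht : 2 ≤ t) (hm : 3 ≤ m) (hn : 5 ≤ m ^ t) :
    ∃ g ∈ Cfsg.Omega F ⇑Q, (g : GL (Fin t → Fin m) F) ∉ wreath (Fin t) m F := by
  have : Nontrivial (Fin t) := Fin.nontrivial_iff_two_le.mpr ht
  have : NeZero m := ⟨by omega⟩
  have hG := hO.sp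
  set c : Fin m → F := Pi.single 0 1
  have hc : c ≠ 0 := by simp [c]
  obtain ⟨e, hce, hei⟩ := hG.exists_ortho_indep hm (c := c)
  have he0 : e ≠ 0 := fun h => hei 0 (by rw [zero_smul, h])
  obtain ⟨d, hd1, hd2⟩ := exists_dot_eq_zero_one (a := G *ᵥ e) (b := G *ᵥ c) (hG.axis_indep fun k hk => by
    rcases eq_or_ne k 0 with rfl | hk0
    · exact hc (by rw [← hk, zero_smul])
    · exact hei k⁻¹ (by rw [← hk, smul_smul, inv_mul_cancel₀ hk0, one_smul]))
  rw [axis_dot] at hd1 hd2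
  have hd0 : d ≠ 0 := fun h => one_ne_zero (hd2.symm.trans (by rw [h, om, zero_dotProduct]))
  obtain ⟨i, l, hil⟩ := exists_pair_ne (Fin t)
  set A := pten fun _ : Fin t => c
  set B := pten fun _ : Fin t => e
  have hA : Q A = 0 := hO.pure _
  have hpol : ∀ x y : Fin m → F, QuadraticMap.polar (⇑Q) (pten fun _ : Fin t => x) (pten fun _ : Fin t => y) =
      c₀ * om G x y ^ t := fun x y => by
    rw [hO.polar, gram, Pt_mulVec_pten, pten_dot, Finset.prod_const, Finset.card_univ, Fintype.card_fin]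
    rfl
  have hAB : QuadraticMap.polar (⇑Q) A B = 0 := by
    rw [hpol, hce, zero_pow (by omega), mul_zero]
  refine ⟨eichIso Q A B hA hAB, eich_mem_omega hO.nondeg
    (by rwa [Fintype.card_fun, Fintype.card_fin, Fintype.card_fin]) hA hAB, ?_⟩
  rintro ⟨σ, hσ⟩
  obtain ⟨zs, -, hzs⟩ := hσ.map_pure ⟨fun _ => d, fun _ => hd0, rfl⟩
  have hAd : QuadraticMap.polar (⇑Q) A (pten fun _ : Fin t => d) = c₀ * (-1) ^ t := by
    rw [hpol, hG.skew d c, hd2]
  have hBd : QuadraticMap.polar (⇑Q) B (pten fun _ : Fin t => d) = 0 := by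
    rw [hpol, hG.skew d e, hd1, neg_zero, zero_pow (by omega), mul_zero]
  change eich Q A B *ᵥ (pten fun _ : Fin t => d) = pten zs at hzs
  rw [eich_mulVec, hAd, hBd, show Q B = 0 from hO.pure _, zero_smul, zero_mul, zero_smul, sub_zero, sub_zero] at hzs
  set s := c₀ * (-1 : F) ^ t
  have hs : s ≠ 0 := mul_ne_zero hO.ne (pow_ne_zero _ (neg_ne_zero.mpr one_ne_zero))
  classical
  rw [show s • B = pten (Function.update (fun _ : Fin t => e) l (s • e)) by
    rw [pten_update_smul, Function.update_eq_self]] at hzs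
  have hne : ∀ k, (Function.update (fun _ : Fin t => e) l (s • e)) k ≠ 0 := fun k => by
    rcases eq_or_ne k l with rfl | hk
    · rw [Function.update_self]; exact smul_ne_zero hs he0
    · rw [Function.update_of_ne hk]; exact he0
  have hind : ∀ k : F, k • d ≠ e := fun k hk => by
    have := congrArg (fun x => om G x c) hk
    simp only [om_smul_left, hd2, mul_one, hG.axis_zero_iff.mp hce] at this
    exact he0 (by rw [← hk, this, zero_smul])
  obtain ⟨c', hc'⟩ := prop_of_pure_add (fun _ => hd0) hne hzs hil (fun k hk => hind k (by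
    rwa [Function.update_of_ne hil] at hk))
  rw [Function.update_self] at hc'
  refine hind (s⁻¹ * c') ?_
  rw [← smul_smul, hc', smul_smul, inv_mul_cancel₀ hs, one_smul]

/-- An overgroup inside `Ω` of the stabiliser. -/
theorem OSet.omega_le_of_overgroup (hO : OSet G Q c₀) (ht : 2 ≤ t) (hm : 4 ≤ m) (hm6 : (2 : F) = 0 → 6 ≤ m)
    {M : Subgroup (Isom Q)}
    (hM : ∀ g ∈ Cfsg.Omega F ⇑Q, (g : GL (Fin t → Fin m) F) ∈ wreath (Fin t) m F → g ∈ M)
    {g : Isom Q} (hgM : g ∈ M) (hgΩ : g ∈ Cfsg.Omega F ⇑Q)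
    (hgW : (g : GL (Fin t → Fin m) F) ∉ wreath (Fin t) m F) : Cfsg.Omega F ⇑Q ≤ M := by
  classical
  have : Nontrivial (Fin t) := Fin.nontrivial_iff_two_le.mpr ht
  have : NeZero m := ⟨by omega⟩
  set M₁ := M.map (Cfsg.isometryGroup F ⇑Q).subtype
  have hle : ∀ x ∈ omegaGL ⇑Q, x ∈ wreath (Fin t) m F → x ∈ M₁ := by
    rintro _ ⟨k, hk, rfl⟩ hW
    exact Subgroup.mem_map_of_mem _ (hM k hk hW)
  have hiso : ∀ x ∈ M₁, IsIso G x := by
    rintro _ ⟨k, -, rfl⟩
    have hq : ∀ v, Q ((k : GL (Fin t → Fin m) F).val *ᵥ v) = Q v := fun v => k.2 v v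
    rw [IsIso]
    ext a b
    have h1 : QuadraticMap.polar (⇑Q) ((k : GL (Fin t → Fin m) F).val *ᵥ Pi.single a 1)
        ((k : GL (Fin t → Fin m) F).val *ᵥ Pi.single b 1) =
        QuadraticMap.polar (⇑Q) (Pi.single a 1) (Pi.single b 1) := by
      rw [QuadraticMap.polar, QuadraticMap.polar, ← mulVec_add, hq, hq, hq]
    rw [hO.polar, hO.polar] at h1
    have h2 := mul_left_cancel₀ hO.ne h1
    rw [mulVec_mulVec, dotProduct_mulVec, ← vecMul_transpose, vecMul_vecMul, ← Matrix.mul_assoc,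
      ← dotProduct_mulVec] at h2
    simpa [single_dotProduct, mulVec_single] using h2
  have hfac : HasFactors G M₁ := fun i h hh => hle _ (hO.embG_mem_omega hm6 i hh) (embG_mem i h)
  have hS : EndSetting G M₁ := ⟨⟨hO.sp, hiso, hfac⟩, hm, hm6⟩
  have hperm : ∀ a b x : Fin t, a ≠ b → x ≠ a → x ≠ b →
      ∃ σ : Equiv.Perm (Fin t), σ a = b ∧ σ b = x ∧ pmG (F := F) (m := m) σ ∈ M₁ := fun a b x h1 h2 h3 => by
    obtain ⟨σ, hσa, hσb, hσ⟩ := hO.cycle_mem_omega a b x h1 h2 h3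
    exact ⟨σ, hσa, hσb, hle _ hσ (pmG_mem σ)⟩
  have hnc := exists_cen hm hm6 hO.sp _ (Fin t) rfl M₁ (fun x hx => (hiso x hx).mem_gsim) hfac
    fun h => hgW (h (Subgroup.mem_map_of_mem _ hgM))
  obtain ⟨hsh, -⟩ := hS.short_all hperm hnc
  refine hO.omega_le hS hsh ?_
  rw [Fintype.card_fun, Fintype.card_fin, Fintype.card_fin]
  calc 5 ≤ 4 ^ 2 := by norm_num
    _ ≤ m ^ 2 := Nat.pow_le_pow_left hm 2
    _ ≤ m ^ t := Nat.pow_le_pow_right (by omega) ht

/-! ### Transport -/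

variable {n : ℕ}

/-- Coordinates of the power. -/
noncomputable def wCoords (e : Fin n ≃ (Fin t → Fin m)) (P : GL (Fin n) F) :
    ((Fin t → Fin m) → F) →ₗ[F] (Fin n → F) :=
  (P : Matrix (Fin n) (Fin n) F).mulVecLin ∘ₗ LinearMap.funLeft F F e

theorem wCoords_apply (e : Fin n ≃ (Fin t → Fin m)) (P : GL (Fin n) F) (x : (Fin t → Fin m) → F) :
    wCoords e P x = (P : Matrix (Fin n) (Fin n) F) *ᵥ (x ∘ e) := rfl

theorem map_isometryGroup_power (Q₀ : QuadraticForm F (Fin n → F)) (e : Fin n ≃ (Fin t → Fin m)) (P : GL (Fin n) F) :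
    (Cfsg.isometryGroup F ⇑(Q₀.comp (wCoords e P))).map (wCoordIso e P).toMonoidHom = Cfsg.isometryGroup F ⇑Q₀ := by
  ext g
  constructor
  · rintro ⟨h, hh, rfl⟩
    refine TensorOrth.mem_isometryGroup.2 fun v => ?_
    obtain ⟨x, rfl⟩ := wCoord_surj e P v
    show Q₀ ((wCoordIso e P h : Matrix (Fin n) (Fin n) F) *ᵥ _) = _
    rw [wCoordIso_mulVec]
    exact TensorOrth.mem_isometryGroup.1 hh x
  · intro hg
    refine ⟨(wCoordIso e P).symm g, TensorOrth.mem_isometryGroup.2 fun x => ?_, (wCoordIso e P).apply_symm_apply g⟩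
    rw [QuadraticMap.comp_apply, QuadraticMap.comp_apply, wCoords_apply, wCoords_apply, ← wCoordIso_mulVec,
      (wCoordIso e P).apply_symm_apply]
    exact TensorOrth.mem_isometryGroup.1 hg _

/-- The orthogonal structure in coordinates. -/
theorem oset_of_structure {Q₀ : (Fin n → F) → F} (hQ : IsNondegenerateQuadraticForm Q₀)
    (e : Fin n ≃ (Fin t → Fin m)) (P : GL (Fin n) F) {f₁ : (Fin m → F) → (Fin m → F) → F}
    (hf₁ : IsSymplecticForm f₁) (hT : IsTensorPowerFormStructure id (QuadraticMap.polar Q₀) f₁ e P)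
    (hpure : ∀ xs : Fin t → (Fin m → F),
      Q₀ (Matrix.mulVec (P : Matrix (Fin n) (Fin n) F) ((fun a : Fin t → Fin m => ∏ i, xs i (a i)) ∘ e)) = 0) :
    ∃ c₀, OSet (gramMatrix f₁) ((AschbacherQuad.quadForm hQ).comp (wCoords e P)) c₀ := by
  obtain ⟨c₀, hc₀, hf⟩ := hT
  simp only [id, sum_gram_eq] at hf
  refine ⟨c₀, spForm_gramMatrix hf₁, hc₀, fun x y => ?_, fun xs => hpure xs⟩
  rw [← hf]
  simp only [QuadraticMap.polar, QuadraticMap.comp_apply, map_add]
  rfl

/-- Maximality in coordinates gives maximality. -/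
theorem isMaximalIn_of_power {Q₀ : (Fin n → F) → F} (hQ : IsNondegenerateQuadraticForm Q₀)
    (e : Fin n ≃ (Fin t → Fin m)) (P : GL (Fin n) F)
    (h : IsMaximalIn (omegaGL ⇑((AschbacherQuad.quadForm hQ).comp (wCoords e P)))
      (wreath (Fin t) m F ⊓ omegaGL ⇑((AschbacherQuad.quadForm hQ).comp (wCoords e P)))) :
    IsMaximalIn (omegaGL Q₀) (tensorWreathSubgroup m t e P ⊓ omegaGL Q₀) := by
  have hO : (omegaGL ⇑((AschbacherQuad.quadForm hQ).comp (wCoords e P))).map (wCoordIso e P).toMonoidHom =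
      omegaGL Q₀ := by
    rw [TensorOrth.omegaGL_eq, TensorOrth.omegaGL_eq, Subgroup.map_commutator, map_isometryGroup_power,
      AschbacherQuad.coe_quadForm]
  have h' := CfsgLib.TensorMax.isMaximalIn_map (wCoordIso e P) h
  rwa [Subgroup.map_inf _ _ _ (wCoordIso e P).injective, hO, map_wreath_eq] at h'

/-- The stabiliser in `Ω` of a symplectic tensor power decomposition with factors of dimension at least four is
maximal. -/
theorem isMaximalIn_omegaWreath {Q₀ : (Fin n → F) → F} (hQ : IsNondegenerateQuadraticForm Q₀) (hm : 4 ≤ m)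
    (hm6 : (2 : F) = 0 → 6 ≤ m) (ht : 2 ≤ t) (e : Fin n ≃ (Fin t → Fin m)) (P : GL (Fin n) F)
    {f₁ : (Fin m → F) → (Fin m → F) → F} (hf₁ : IsSymplecticForm f₁)
    (hT : IsTensorPowerFormStructure id (QuadraticMap.polar Q₀) f₁ e P)
    (hpure : ∀ xs : Fin t → (Fin m → F),
      Q₀ (Matrix.mulVec (P : Matrix (Fin n) (Fin n) F) ((fun a : Fin t → Fin m => ∏ i, xs i (a i)) ∘ e)) = 0) :
    IsMaximalIn (omegaGL Q₀) (tensorWreathSubgroup m t e P ⊓ omegaGL Q₀) := by
  obtain ⟨c₀, hO⟩ := oset_of_structure hQ e P hf₁ hT hpure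
  refine isMaximalIn_of_power hQ e P (CfsgLib.OrthMax.isMaximalIn_omega _ ?_ fun M hM g hgM hgΩ hgW =>
    hO.omega_le_of_overgroup ht hm hm6 hM hgM hgΩ hgW)
  refine hO.exists_omega_notMem ht (by omega) ?_
  calc 5 ≤ 4 ^ 2 := by norm_num
    _ ≤ m ^ 2 := Nat.pow_le_pow_left hm 2
    _ ≤ m ^ t := Nat.pow_le_pow_right (by omega) ht

end CfsgLib.TWSp
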