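import Cfsg.Agent.TensorWreathSp.PlaneTop
import Cfsg.Agent.TensorWreathSp.OmegaMain

/-!
# Planar tensor powers inside orthogonal groups

The self-adjoint long parameters give the Eichler elements inside one block; conjugating them makes
every split tensor a full singular point.
-/

set_option autoImplicit false
set_option linter.unusedSectionVars false

namespace CfsgLib.TWSp

open Matrix CfsgLib.MaxSub CfsgLib.TWreath Cfsg.Geo
open CfsgLib.OrthMax (Isom RootMem Full eich_mem_omega omega_le_of_full_pair)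
open CfsgLib.Forms (eich eich_mulVec eichIso mat_eichIso)

variable {F : Type*} [Field F] [Fintype F] {ι : Type} [Fintype ι] [DecidableEq ι]
  {G : Matrix (Fin 2) (Fin 2) F}

/-- A kernel vector outside a given line. -/
theorem exists_ker_notMem {κ : Type*} [Fintype κ] (hκ : 3 ≤ Fintype.card κ) (φ r : κ → F) :
    ∃ v, φ ⬝ᵥ v = 0 ∧ ∀ k : F, k • r ≠ v := by
  let f : (κ → F) →ₗ[F] F :=
    { toFun := fun x => φ ⬝ᵥ x
      map_add' := fun x y => dotProduct_add _ _ _
      map_smul' := fun k x => dotProduct_smul _ _ _ }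
  by_contra hcon
  push Not at hcon
  have hle : LinearMap.ker f ≤ Submodule.span F {r} := fun v hv => by
    obtain ⟨k, hk⟩ := hcon v hv
    exact Submodule.mem_span_singleton.mpr ⟨k, hk⟩
  have h1 := Submodule.finrank_mono hle
  have h2 := LinearMap.finrank_range_add_finrank_ker f
  have h3 := Submodule.finrank_le (LinearMap.range f)
  have h4 : Module.finrank F (Submodule.span F {r}) ≤ 1 := (finrank_span_le_card _).trans (by simp)
  rw [Module.finrank_pi] at h2
  rw [Module.finrank_self] at h3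
  omega

namespace OSet

variable {Q : QuadraticForm F ((ι → Fin 2) → F)} {c₀ : F} (hO : OSet G Q c₀) {M : Subgroup (Isom Q)}
  (hlong : ∀ (i : ι) b, adj (gram {j // j ≠ i} G) b = b →
    b ∈ longSet G (M.map (Cfsg.isometryGroup F ⇑Q).subtype) i)

include hO hlong

theorem rootMem_block (i : ι) (c : Fin 2 → F) (r u : Rest i 2 → F) :
    RootMem M (lift i c r) (lift i c u) := fun g hg => by
  set J := gram {j // j ≠ i} G
  set a := (-c₀) • vecMulVec r (J *ᵥ u)
  have hXX : XX G i c c a = kr i (cen G c) (a + adj J a) := by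
    have := XX_self (G := G) i c 1 a
    rwa [one_smul, one_smul] at this
  obtain ⟨x, hx, hxv⟩ := hlong i (a + adj J a) (by rw [adj_add, adj_adj hO.sp, add_comm]) c
  rw [← hXX, ← hO.eich_lift i (hO.sp.self c), ← hg] at hxv
  obtain ⟨k, hk, rfl⟩ := Subgroup.mem_map.mp hx
  have : k = g := Subtype.ext (Units.ext hxv)
  exact this ▸ hk

theorem full_lift2 (h3 : 3 ≤ Fintype.card ι) (i : ι) {c : Fin 2 → F} (hc : c ≠ 0) (r : Rest i 2 → F) :
    Full M (lift i c r) := by
  classical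
  have hG := hO.sp
  set J := gram {j // j ≠ i} G with hJdef
  have hJ : IsUnit J.det := gram_det_unit hG.det
  set A := lift i c r with hAdef
  have hA : Q A = 0 := hO.quad_lift i c r
  obtain ⟨d, hd⟩ := hG.exists_partner hc
  have hcd : om G c d = -1 := by rw [hG.skew, hd]
  have hpol : ∀ (x y : Fin 2 → F) (p q : Rest i 2 → F),
      QuadraticMap.polar (⇑Q) (lift i x p) (lift i y q) = c₀ * (om G x y * (p ⬝ᵥ J *ᵥ q)) := fun x y p q => by
    rw [hO.polar, form_lift]
  have hsw : ∀ p q : Rest i 2 → F, q ⬝ᵥ J *ᵥ p = -(p ⬝ᵥ J *ᵥ q) := fun p q => by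
    have h := hO.polar_symm (lift i c p) (lift i d q)
    rw [form_lift, form_lift, hcd, hd, one_mul, neg_one_mul] at h
    exact h.symm
  intro w hw
  obtain ⟨u, z, rfl⟩ := exists_plane_lift hG i hd w
  have hcu : QuadraticMap.polar (⇑Q) A (lift i c u) = 0 := by rw [hpol, hG.self, zero_mul, mul_zero]
  have hdz : QuadraticMap.polar (⇑Q) A (lift i d z) = 0 := by
    rwa [QuadraticMap.polar_add_right, hcu, zero_add] at hw
  refine RootMem.add hA hcu hdz (hO.rootMem_block hlong i c r u) ?_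
  rcases eq_or_ne r 0 with hr | hr
  · intro g hg
    have h0 : A = 0 := by rw [hAdef, hr, map_zero]
    rw [h0, show eich Q 0 (lift i d z) = 1 by
      refine Matrix.ext_of_mulVec_single fun a => ?_
      rw [eich_mulVec, QuadraticMap.polar_zero_left, one_mulVec]; simp] at hg
    exact (show g = 1 from Subtype.ext (Units.ext hg)) ▸ M.one_mem
  have hrz : r ⬝ᵥ J *ᵥ z = 0 := by
    rw [hpol, hcd] at hdz
    simpa [hO.ne] using hdz
  obtain ⟨v, hzv, hrv⟩ := exists_ker_notMem (κ := Rest i 2) (by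
    rw [Fintype.card_fun, Fintype.card_fin, Fintype.card_subtype_compl, Fintype.card_subtype_eq]
    calc 3 ≤ 2 ^ 2 := by norm_num
      _ ≤ 2 ^ (Fintype.card ι - 1) := Nat.pow_le_pow_right two_pos (by omega)) (J *ᵥ z) r
  obtain ⟨s, hrs, hvs⟩ := exists_dot_eq_zero_one (a := J *ᵥ r) (b := c₀ • (J *ᵥ v)) fun k hk => by
    rw [← mulVec_smul, ← mulVec_smul] at hk
    have h' := mulVec_injective_iff_isUnit.mpr ((Matrix.isUnit_iff_isUnit_det _).mpr hJ) hk
    exact hrv (c₀⁻¹ * k) (by rw [← smul_smul, h', smul_smul, inv_mul_cancel₀ hO.ne, one_smul])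
  rw [dotProduct_comm] at hrs hzv
  rw [smul_dotProduct, dotProduct_comm, smul_eq_mul] at hvs
  have hds : QuadraticMap.polar (⇑Q) (lift i d z) (lift i d s) = 0 := by rw [hpol, hG.self, zero_mul, mul_zero]
  have hk := (hO.rootMem_block hlong i d z s).iso (hO.quad_lift i d z) hds
  have hA' : QuadraticMap.polar (⇑Q) A (lift i c v) = 0 := by rw [hpol, hG.self, zero_mul, mul_zero]
  have h0 := hO.rootMem_block hlong i c r v
  have h1 := h0.conj hk
  rw [mat_eichIso] at h1
  have hfixA : eich Q (lift i d z) (lift i d s) *ᵥ A = A := by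
    rw [eich_mulVec, hAdef, hpol, hpol, hO.quad_lift, hsw r z, hrz, hrs]
    simp
  have hzv' : z ⬝ᵥ J *ᵥ v = 0 := by rw [hsw v z, hzv, neg_zero]
  have hmove : eich Q (lift i d z) (lift i d s) *ᵥ lift i c v = lift i c v + (-1 : F) • lift i d z := by
    rw [eich_mulVec, hpol, hpol, hzv', hd, one_mul, one_mul, hvs, hO.quad_lift]
    simp
  rw [hfixA, hmove] at h1
  have hdz' : QuadraticMap.polar (⇑Q) A ((-1 : F) • lift i d z) = 0 := by
    rw [QuadraticMap.polar_smul_right, hdz, smul_zero]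
  have h2 := RootMem.add hA (by rw [QuadraticMap.polar_neg_right, hA', neg_zero])
    (by rw [QuadraticMap.polar_add_right, hA', hdz', add_zero]) (h0.neg hA hA') h1
  rw [neg_add_cancel_left] at h2
  have := h2.neg hA hdz'
  rwa [neg_one_smul, neg_neg] at this

/-- `Ω` is contained. -/
theorem omega_le2 (h3 : 3 ≤ Fintype.card ι) : Cfsg.Omega F ⇑Q ≤ M := by
  obtain ⟨i⟩ : Nonempty ι := Fintype.card_pos_iff.mp (by omega)
  have hn : 5 ≤ Fintype.card (ι → Fin 2) := by
    rw [Fintype.card_fun, Fintype.card_fin]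
    calc 5 ≤ 2 ^ 3 := by norm_num
      _ ≤ 2 ^ Fintype.card ι := Nat.pow_le_pow_right two_pos h3
  have hG := hO.sp
  set c : Fin 2 → F := Pi.single 0 1
  have hc : c ≠ 0 := by simp [c]
  obtain ⟨d, hd⟩ := hG.exists_partner hc
  have hd0 : d ≠ 0 := fun h => one_ne_zero (hd.symm.trans (by rw [h, om, zero_dotProduct]))
  set J := gram {j // j ≠ i} G
  obtain ⟨φ, hφ⟩ := exists_dot_eq_one' (x := (Pi.single (fun _ => 0) 1 : Rest i 2 → F)) (by simp)
  refine omega_le_of_full_pair hO.nondeg hn (hO.quad_lift i d (Pi.single (fun _ => 0) 1))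
    (hO.quad_lift i c (J⁻¹ *ᵥ φ)) ?_ (hO.full_lift2 hlong h3 i hd0 _) (hO.full_lift2 hlong h3 i hc _)
  rw [hO.polar, form_lift, hd, one_mul, mulVec_mulVec, mul_nonsing_inv J (gram_det_unit hG.det), one_mulVec,
    dotProduct_comm, hφ, mul_one]
  exact hO.ne

end OSet

variable {t : ℕ} {Q : QuadraticForm F ((Fin t → Fin 2) → F)} {c₀ : F}

/-- An element of `Ω` outside the wreath group. -/
theorem OSet.exists_omega_notMem2 (hO : OSet G Q c₀) (ht : 3 ≤ t) :
    ∃ g ∈ Cfsg.Omega F ⇑Q, (g : GL (Fin t → Fin 2) F) ∉ wreath (Fin t) 2 F := by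
  classical
  have hG := hO.sp
  have hn : 5 ≤ Fintype.card (Fin t → Fin 2) := by
    rw [Fintype.card_fun, Fintype.card_fin, Fintype.card_fin]
    calc 5 ≤ 2 ^ 3 := by norm_num
      _ ≤ 2 ^ t := Nat.pow_le_pow_right two_pos ht
  set c : Fin 2 → F := Pi.single 0 1
  have hc : c ≠ 0 := by simp [c]
  obtain ⟨d, hd⟩ := hG.exists_partner hc
  have hd0 : d ≠ 0 := fun h => one_ne_zero (hd.symm.trans (by rw [h, om, zero_dotProduct]))
  let i : Fin t := ⟨0, by omega⟩
  let l : Fin t := ⟨1, by omega⟩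
  let k₀ : Fin t := ⟨2, by omega⟩
  let ys : Fin t → Fin 2 → F := fun k => if k = i ∨ k = l then c else d
  have hys : ∀ k, ys k ≠ 0 := fun k => by
    by_cases h : k = i ∨ k = l <;> simp [ys, h, hc, hd0]
  set A := pten fun _ : Fin t => c
  set B := pten ys
  have hA : Q A = 0 := hO.pure _
  have hpol : ∀ xs zs : Fin t → Fin 2 → F, QuadraticMap.polar (⇑Q) (pten xs) (pten zs) =
      c₀ * ∏ k, om G (xs k) (zs k) := fun xs zs => by
    rw [hO.polar, gram, Pt_mulVec_pten, pten_dot]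
    rfl
  have hAB : QuadraticMap.polar (⇑Q) A B = 0 := by
    rw [hpol, Finset.prod_eq_zero (Finset.mem_univ i) (by simp [ys, hG.self]), mul_zero]
  refine ⟨eichIso Q A B hA hAB, eich_mem_omega hO.nondeg hn hA hAB, ?_⟩
  rintro ⟨σ, hσ⟩
  obtain ⟨zs, -, hzs⟩ := hσ.map_pure ⟨fun _ => d, fun _ => hd0, rfl⟩
  have hBd : QuadraticMap.polar (⇑Q) B (pten fun _ : Fin t => d) = 0 := by
    rw [hpol, Finset.prod_eq_zero (Finset.mem_univ k₀) (by simp [ys, i, l, k₀, hG.self, Fin.ext_iff]), mul_zero]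
  change eich Q A B *ᵥ (pten fun _ : Fin t => d) = pten zs at hzs
  rw [eich_mulVec, hBd, show Q B = 0 from hO.pure _, zero_smul, zero_mul, zero_smul, sub_zero, sub_zero] at hzs
  set s := QuadraticMap.polar (⇑Q) A (pten fun _ : Fin t => d)
  have hs : s ≠ 0 := by
    show QuadraticMap.polar (⇑Q) A _ ≠ 0
    rw [hpol, hG.skew d c, hd]
    exact mul_ne_zero hO.ne (Finset.prod_ne_zero_iff.mpr fun _ _ => neg_ne_zero.mpr one_ne_zero)
  rw [show s • B = pten (Function.update ys l (s • ys l)) by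
    rw [pten_update_smul, Function.update_eq_self]] at hzs
  have hne : ∀ k, (Function.update ys l (s • ys l)) k ≠ 0 := fun k => by
    rcases eq_or_ne k l with rfl | hk
    · rw [Function.update_self]; exact smul_ne_zero hs (hys _)
    · rw [Function.update_of_ne hk]; exact hys k
  have hind : ∀ k : F, k • d ≠ c := fun k hk => by
    rw [← hk, om_smul_right, hG.self, mul_zero] at hd
    exact zero_ne_one hd
  have hil : i ≠ l := by simp [i, l, Fin.ext_iff]
  obtain ⟨c', hc'⟩ := prop_of_pure_add (fun _ => hd0) hne hzs hil (fun k hk => hind k (by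
    rw [Function.update_of_ne hil] at hk
    simpa [ys] using hk))
  rw [Function.update_self, show ys l = c by simp [ys]] at hc'
  refine hind (s⁻¹ * c') ?_
  rw [← smul_smul, hc', smul_smul, inv_mul_cancel₀ hs, one_smul]

/-- An overgroup inside `Ω` of the stabiliser. -/
theorem OSet.omega_le_of_overgroup2 (hO : OSet G Q c₀) (ht : 3 ≤ t) (hq3 : Nat.card F ≠ 3) (h2 : (2 : F) ≠ 0)
    {M : Subgroup (Isom Q)}
    (hM : ∀ g ∈ Cfsg.Omega F ⇑Q, (g : GL (Fin t → Fin 2) F) ∈ wreath (Fin t) 2 F → g ∈ M)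
    {g : Isom Q} (hgM : g ∈ M) (hgW : (g : GL (Fin t → Fin 2) F) ∉ wreath (Fin t) 2 F) :
    Cfsg.Omega F ⇑Q ≤ M := by
  classical
  have : Nonempty (Fin t) := ⟨⟨0, by omega⟩⟩
  set M₁ := M.map (Cfsg.isometryGroup F ⇑Q).subtype
  have hle : ∀ x ∈ omegaGL ⇑Q, x ∈ wreath (Fin t) 2 F → x ∈ M₁ := by
    rintro _ ⟨k, hk, rfl⟩ hW
    exact Subgroup.mem_map_of_mem _ (hM k hk hW)
  have hiso : ∀ x ∈ M₁, IsIso G x := by
    rintro _ ⟨k, -, rfl⟩
    have hq : ∀ v, Q ((k : GL (Fin t → Fin 2) F).val *ᵥ v) = Q v := fun v => k.2 v v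
    rw [IsIso]
    ext a b
    have h1 : QuadraticMap.polar (⇑Q) ((k : GL (Fin t → Fin 2) F).val *ᵥ Pi.single a 1)
        ((k : GL (Fin t → Fin 2) F).val *ᵥ Pi.single b 1) =
        QuadraticMap.polar (⇑Q) (Pi.single a 1) (Pi.single b 1) := by
      rw [QuadraticMap.polar, QuadraticMap.polar, ← mulVec_add, hq, hq, hq]
    rw [hO.polar, hO.polar] at h1
    have h2 := mul_left_cancel₀ hO.ne h1
    rw [mulVec_mulVec, dotProduct_mulVec, ← vecMul_transpose, vecMul_vecMul, ← Matrix.mul_assoc,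
      ← dotProduct_mulVec] at h2
    simpa [single_dotProduct, mulVec_single] using h2
  have hfac : HasFactors G M₁ := fun i h hh =>
    hle _ (hO.embG_mem_omega (fun h => absurd h h2) i hh) (embG_mem i h)
  have hS : PlaneSetting G M₁ := ⟨⟨hO.sp, hiso, hfac⟩, h2⟩
  have hperm : ∀ a b x : Fin t, a ≠ b → x ≠ a → x ≠ b →
      pmG (F := F) (m := 2) (Equiv.swap a b * Equiv.swap b x) ∈ M₁ := fun a b x h1 h2 h3 =>
    hle _ (hO.swap_mul_swap_mem_omega a b x h1 h2 h3) (pmG_mem _)
  have hnc := exists_cen2 hq3 h2 hO.sp _ (Fin t) rfl M₁ (fun x hx => (hiso x hx).mem_gsim) hfac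
    fun h => hgW (h (Subgroup.mem_map_of_mem _ hgM))
  exact hO.omega_le2 (fun i b hb => hS.long_all hperm hnc i hb) (by rwa [Fintype.card_fin])

/-- The stabiliser in `Ω` of a symplectic tensor power decomposition with planar factors is maximal, for more
than three scalars of odd characteristic. -/
theorem isMaximalIn_omegaWreath2 {n : ℕ} {Q₀ : (Fin n → F) → F} (hQ : IsNondegenerateQuadraticForm Q₀)
    (hq3 : Nat.card F ≠ 3) (h2 : (2 : F) ≠ 0) (ht : 3 ≤ t) (e : Fin n ≃ (Fin t → Fin 2)) (P : GL (Fin n) F)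
    {f₁ : (Fin 2 → F) → (Fin 2 → F) → F} (hf₁ : IsSymplecticForm f₁)
    (hT : IsTensorPowerFormStructure id (QuadraticMap.polar Q₀) f₁ e P)
    (hpure : ∀ xs : Fin t → (Fin 2 → F),
      Q₀ (Matrix.mulVec (P : Matrix (Fin n) (Fin n) F) ((fun a : Fin t → Fin 2 => ∏ i, xs i (a i)) ∘ e)) = 0) :
    IsMaximalIn (omegaGL Q₀) (tensorWreathSubgroup 2 t e P ⊓ omegaGL Q₀) := by
  obtain ⟨c₀, hO⟩ := oset_of_structure hQ e P hf₁ hT hpure
  exact isMaximalIn_of_power hQ e P (CfsgLib.OrthMax.isMaximalIn_omega _ (hO.exists_omega_notMem2 ht)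
    fun M hM g hgM _ hgW => hO.omega_le_of_overgroup2 ht hq3 h2 hM hgM hgW)

end CfsgLib.TWSp
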