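import Cfsg.Agent.TensorWreathSp.SpTop
import Cfsg.Agent.TensorWreath.Main
import Cfsg.Agent.AschbacherForms.Adjoint
import Cfsg.Agent.MaxSub.SymplecticBasic
import Cfsg.Agent.TensorMax.Transport

/-!
# Maximality of symplectic tensor wreath stabilisers in symplectic groups, factors of dimension at least four
-/

set_option autoImplicit false
set_option linter.unusedSectionVars false

namespace CfsgLib.TWSp

open Matrix CfsgLib.MaxSub CfsgLib.TWreath Cfsg.Geo

variable {F : Type*} [Field F] {ι : Type} [Fintype ι] [DecidableEq ι] {m : ℕ}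
  {G : Matrix (Fin m) (Fin m) F}

/-- The isometry group of the power. -/
def isoGrp (ι : Type) [Fintype ι] [DecidableEq ι] (G : Matrix (Fin m) (Fin m) F) :
    Subgroup (GL (ι → Fin m) F) where
  carrier := {x | IsIso G x}
  one_mem' := by
    show IsIso G (1 : GL (ι → Fin m) F)
    rw [IsIso, Units.val_one, transpose_one, Matrix.one_mul, Matrix.mul_one]
  mul_mem' := IsIso.mul
  inv_mem' := IsIso.inv

theorem mem_isoGrp {x : GL (ι → Fin m) F} : x ∈ isoGrp ι G ↔ IsIso G x := Iff.rfl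

theorem pm_transpose (σ : Equiv.Perm ι) : (pm σ : Matrix (ι → Fin m) (ι → Fin m) F)ᵀ = pm σ⁻¹ := by
  ext a b
  show (if a = b ∘ σ then (1 : F) else 0) = if b = a ∘ (σ⁻¹ : Equiv.Perm ι) then 1 else 0
  refine if_congr ⟨fun h => ?_, fun h => ?_⟩ rfl rfl
  · rw [h]; funext k; simp
  · rw [h]; funext k; simp

theorem isIso_pmG (σ : Equiv.Perm ι) : IsIso G (pmG σ : GL (ι → Fin m) F) := by
  have h : Pt (fun _ : ι => G) * pm σ = pm σ * Pt (fun _ : ι => G) := (pm_mul_Pt σ fun _ : ι => G).symm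
  rw [IsIso, pmG_val, pm_transpose, Matrix.mul_assoc, gram, h,
    ← Matrix.mul_assoc, pm_mul, inv_mul_cancel, pm_one, Matrix.one_mul]

/-- A three-cycle through prescribed points. -/
theorem exists_cycle (a b x : ι) (hab : a ≠ b) (hxa : x ≠ a) (hxb : x ≠ b) :
    ∃ σ : Equiv.Perm ι, σ a = b ∧ σ b = x ∧ Equiv.Perm.sign σ = 1 := by
  refine ⟨Equiv.swap a b * Equiv.swap b x, ?_, ?_, ?_⟩
  · rw [Equiv.Perm.mul_apply, Equiv.swap_apply_of_ne_of_ne hab (Ne.symm hxa), Equiv.swap_apply_left]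
  · rw [Equiv.Perm.mul_apply, Equiv.swap_apply_left, Equiv.swap_apply_of_ne_of_ne hxa hxb]
  · rw [map_mul, Equiv.Perm.sign_swap hab, Equiv.Perm.sign_swap (Ne.symm hxb)]; rfl

/-- A rank one element at a pure tensor is not in the wreath group. -/
theorem transv_not_mem_wreath [Nontrivial ι] (hG : SpForm G) {c d : Fin m → F} (hd : om G d c = 1) {s : F}
    (hs : s ≠ 0) {x : GL (ι → Fin m) F}
    (hx : (x : Matrix (ι → Fin m) (ι → Fin m) F) =
      1 + s • vecMulVec (pten fun _ => c) (gram ι G *ᵥ pten fun _ => c)) : x ∉ wreath ι m F := by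
  have hc : c ≠ 0 := fun h => one_ne_zero (hd.symm.trans (by rw [h, om, mulVec_zero, dotProduct_zero]))
  have hd0 : d ≠ 0 := fun h => one_ne_zero (hd.symm.trans (by rw [h, om, zero_dotProduct]))
  have hind : ∀ k : F, k • d ≠ c := fun k hk => by
    rw [← hk, om_smul_right, hG.self, mul_zero] at hd
    exact zero_ne_one hd
  rintro ⟨σ, hσ⟩
  obtain ⟨zs, -, hzs⟩ := hσ.map_pure ⟨fun _ => d, fun _ => hd0, rfl⟩
  rw [hx, transv_mulVec, gram, Pt_mulVec_pten, pten_dot, Finset.prod_eq_one (fun k _ => show d ⬝ᵥ G *ᵥ c = 1 from hd), mul_one] at hzs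
  obtain ⟨l, l', hll⟩ := exists_pair_ne ι
  classical
  rw [show s • pten (fun _ : ι => c) = pten (Function.update (fun _ : ι => c) l' (s • c)) by
    rw [pten_update_smul, Function.update_eq_self]] at hzs
  have hne : ∀ k, (Function.update (fun _ : ι => c) l' (s • c)) k ≠ 0 := fun k => by
    rcases eq_or_ne k l' with rfl | hk
    · rw [Function.update_self]; exact smul_ne_zero hs hc
    · rw [Function.update_of_ne hk]; exact hc
  obtain ⟨c', hc'⟩ := prop_of_pure_add (fun _ => hd0) hne hzs hll (fun k hk => hind k (by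
    rwa [Function.update_of_ne hll] at hk))
  rw [Function.update_self] at hc'
  refine hind (s⁻¹ * c') ?_
  rw [← smul_smul, hc', smul_smul, inv_mul_cancel₀ hs, one_smul]

/-- Overgroups of the stabiliser in the isometry group contain all transvections. -/
theorem goodT_of_overgroup [Finite F] [Nontrivial ι] (hm : 4 ≤ m) (h2 : (2 : F) ≠ 0) (hι : Odd (Fintype.card ι))
    (hG : SpForm G) {M : Subgroup (GL (ι → Fin m) F)} (hMK : M ≤ isoGrp ι G)
    (hHM : wreath ι m F ⊓ isoGrp ι G ≤ M) (hMW : ¬ M ≤ wreath ι m F) (v : (ι → Fin m) → F) : GoodT G M v := by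
  classical
  have : NeZero m := ⟨by omega⟩
  obtain ⟨i⟩ : Nonempty ι := inferInstance
  have hfac : HasFactors G M := fun j h hh => hHM ⟨embG_mem j h, isIso_embG j hh⟩
  have hS : EndSetting G M :=
    ⟨⟨hG, fun x hx => mem_isoGrp.mp (hMK hx), hfac⟩, hm, fun h => absurd h h2⟩
  have hperm : ∀ a b x : ι, a ≠ b → x ≠ a → x ≠ b →
      ∃ σ : Equiv.Perm ι, σ a = b ∧ σ b = x ∧ pmG (F := F) (m := m) σ ∈ M := fun a b x h1 h2' h3 => by
    obtain ⟨σ, hσa, hσb, -⟩ := exists_cycle a b x h1 h2' h3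
    exact ⟨σ, hσa, hσb, hHM ⟨pmG_mem σ, isIso_pmG σ⟩⟩
  have hnc := exists_cen hm (fun h => absurd h h2) hG _ ι rfl M (fun x hx => (mem_isoGrp.mp (hMK hx)).mem_gsim)
    hfac hMW
  obtain ⟨hsh, hlo⟩ := hS.short_all hperm hnc
  refine hS.goodT_all h2 (i := i) ?_ (hsh i) (hlo i) v
  rw [gram_transpose hG, Fintype.card_subtype_compl, Fintype.card_subtype_eq]
  obtain ⟨r, hr⟩ := hι
  rw [hr, show 2 * r + 1 - 1 = 2 * r by omega, pow_mul, neg_one_sq, one_pow, one_smul]

/-- The Gram matrix of a symplectic form. -/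
theorem spForm_gramMatrix {k : ℕ} {f₁ : (Fin k → F) → (Fin k → F) → F} (hf₁ : IsSymplecticForm f₁) :
    SpForm (gramMatrix f₁) := by
  have hf := AschbacherForms.isReflexive_symplectic hf₁
  refine ⟨fun x => ?_, hf.gram_det_unit⟩
  rw [← hf₁.alternating x, hf.sesq.gram_eq]
  rfl

/-- The form of the power in coordinates. -/
theorem sum_gram_eq {k : ℕ} {t : ℕ} (G : Matrix (Fin k) (Fin k) F) (x y : (Fin t → Fin k) → F) :
    ∑ a, ∑ b, x a * (∏ i, G (a i) (b i)) * y b = x ⬝ᵥ gram (Fin t) G *ᵥ y := by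
  rw [dotProduct]
  refine Finset.sum_congr rfl fun a _ => ?_
  rw [mulVec, dotProduct, Finset.mul_sum]
  exact Finset.sum_congr rfl fun b _ => by rw [mul_assoc]; rfl

/-- The transfer to power coordinates. -/
noncomputable def wCoordIso {κ : Type} [Fintype κ] [DecidableEq κ] {k t : ℕ} (e : κ ≃ (Fin t → Fin k)) (P : GL κ F) :
    GL (Fin t → Fin k) F ≃* GL κ F :=
  (glReindex e.symm).trans (MulAut.conj P)

theorem wCoordIso_mulVec {κ : Type} [Fintype κ] [DecidableEq κ] {k t : ℕ} (e : κ ≃ (Fin t → Fin k)) (P : GL κ F)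
    (g : GL (Fin t → Fin k) F) (x : (Fin t → Fin k) → F) :
    (wCoordIso e P g : Matrix κ κ F) *ᵥ ((P : Matrix κ κ F) *ᵥ (x ∘ e)) =
      (P : Matrix κ κ F) *ᵥ (((g : Matrix (Fin t → Fin k) (Fin t → Fin k) F) *ᵥ x) ∘ e) := by
  show ((P * glReindex e.symm g * P⁻¹ : GL κ F) : Matrix κ κ F) *ᵥ _ = _
  rw [mulVec_mulVec, ← Units.val_mul, inv_mul_cancel_right, Units.val_mul, ← mulVec_mulVec]
  congr 1
  show (g : Matrix (Fin t → Fin k) (Fin t → Fin k) F).submatrix e.symm.symm e.symm.symm *ᵥ (x ∘ e) = _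
  rw [Equiv.symm_symm, Matrix.submatrix_mulVec_equiv, Function.comp_assoc, Equiv.self_comp_symm,
    Function.comp_id]

theorem wCoord_surj {κ : Type} [Fintype κ] [DecidableEq κ] {k t : ℕ} (e : κ ≃ (Fin t → Fin k)) (P : GL κ F)
    (v : κ → F) : ∃ x : (Fin t → Fin k) → F, (P : Matrix κ κ F) *ᵥ (x ∘ e) = v := by
  refine ⟨((↑P⁻¹ : Matrix κ κ F) *ᵥ v) ∘ e.symm, ?_⟩
  rw [Function.comp_assoc, Equiv.symm_comp_self, Function.comp_id, mulVec_mulVec, Units.mul_inv, one_mulVec]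

theorem map_wreath_eq {κ : Type} [Fintype κ] [DecidableEq κ] {k t : ℕ} (e : κ ≃ (Fin t → Fin k)) (P : GL κ F) :
    (wreath (Fin t) k F).map (wCoordIso e P).toMonoidHom = tensorWreathSubgroup k t e P := by
  rw [tensorWreathSubgroup, tensorWreathStandard_eq_wreath, Subgroup.map_map]
  rfl

/-- Overgroups containing all transvections give maximality. -/
theorem isMaximalIn_spWreath_of [Fintype F] {n k t : ℕ} (hk : 2 ≤ k) (ht3 : 3 ≤ t)
    (e : (Fin n ⊕ Fin n) ≃ (Fin t → Fin k)) (P : GL (Fin n ⊕ Fin n) F) {f₁ : (Fin k → F) → (Fin k → F) → F}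
    (hf₁ : IsSymplecticForm f₁) (hT : IsTensorPowerFormStructure id (Cfsg.sympForm n F) f₁ e P)
    (hgood : ∀ M : Subgroup (GL (Fin t → Fin k) F), M ≤ isoGrp (Fin t) (gramMatrix f₁) →
      wreath (Fin t) k F ⊓ isoGrp (Fin t) (gramMatrix f₁) ≤ M → ¬ M ≤ wreath (Fin t) k F →
      ∀ v, GoodT (gramMatrix f₁) M v) :
    IsMaximalIn (Cfsg.spGL n F) (tensorWreathSubgroup k t e P ⊓ Cfsg.spGL n F) := by
  classical
  have : Nontrivial (Fin t) := Fin.nontrivial_iff_two_le.mpr (by omega)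
  have : NeZero k := ⟨by omega⟩
  set G := gramMatrix f₁
  have hG : SpForm G := spForm_gramMatrix hf₁
  obtain ⟨c₀, hc₀, hf⟩ := hT
  simp only [id, sum_gram_eq] at hf
  set φ := wCoordIso e P
  have hiso : ∀ g, φ g ∈ Cfsg.spGL n F ↔ g ∈ isoGrp (Fin t) G := by
    intro g
    rw [mem_spGL_iff, mem_isoGrp]
    constructor
    · intro h
      have key : ∀ x y : (Fin t → Fin k) → F,
          ((g : Matrix _ _ F) *ᵥ x) ⬝ᵥ gram (Fin t) G *ᵥ ((g : Matrix _ _ F) *ᵥ y) = x ⬝ᵥ gram (Fin t) G *ᵥ y := by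
        intro x y
        refine mul_left_cancel₀ hc₀ ?_
        rw [← hf, ← hf, ← wCoordIso_mulVec, ← wCoordIso_mulVec]
        exact h _ _
      rw [IsIso]
      ext a b
      have h1 := key (Pi.single a 1) (Pi.single b 1)
      rw [mulVec_mulVec, dotProduct_mulVec, ← vecMul_transpose, vecMul_vecMul, ← Matrix.mul_assoc,
        ← dotProduct_mulVec] at h1
      simpa [single_dotProduct, mulVec_single] using h1
    · intro h u v
      obtain ⟨x, rfl⟩ := wCoord_surj e P u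
      obtain ⟨y, rfl⟩ := wCoord_surj e P v
      rw [wCoordIso_mulVec, wCoordIso_mulVec, hf, hf, h.form]
  refine isMaximalIn_of inf_le_right ?_ fun M hLM hMK g hg hgL => ?_
  · obtain ⟨d, hd⟩ := hG.exists_partner (c := Pi.single 0 (1 : F)) (by simp)
    set v : (Fin n ⊕ Fin n) → F := (P : Matrix _ _ F) *ᵥ (pten (fun _ : Fin t => (Pi.single 0 1 : Fin k → F)) ∘ e)
    refine ⟨spTv v 1, spTv_mem v 1, fun h => ?_⟩
    obtain ⟨x, hxW, hxe⟩ := (map_wreath_eq e P).symm ▸ h.1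
    refine transv_not_mem_wreath hG hd hc₀ (x := x) ?_ hxW
    refine Matrix.ext_of_mulVec_single fun a => ?_
    have h1 := wCoordIso_mulVec e P x (Pi.single a 1)
    rw [show φ.toMonoidHom x = wCoordIso e P x from rfl] at hxe
    rw [hxe, spTv_mulVec, hf, one_mul] at h1
    rw [transv_mulVec]
    have h2' := (mulVec_injective_iff_isUnit (A := (P : Matrix (Fin n ⊕ Fin n) (Fin n ⊕ Fin n) F))).mpr P.isUnit (a₁ := ((x : Matrix _ _ F) *ᵥ Pi.single a 1) ∘ e)
      (a₂ := (Pi.single a (1 : F) + (c₀ * (Pi.single a (1 : F) ⬝ᵥ gram (Fin t) G *ᵥ pten fun _ => Pi.single 0 1)) •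
        pten (fun _ : Fin t => (Pi.single 0 1 : Fin k → F))) ∘ e) (by
        show (P : Matrix (Fin n ⊕ Fin n) (Fin n ⊕ Fin n) F) *ᵥ _ = (P : Matrix (Fin n ⊕ Fin n) (Fin n ⊕ Fin n) F) *ᵥ _
        rw [← h1, ← mulVec_smul, ← mulVec_add]
        rfl)
    exact e.surjective.injective_comp_right h2'
  refine spGL_le_of_forall_spTv fun v s => ?_
  obtain ⟨w, rfl⟩ := wCoord_surj e P v
  have hM' : M.comap φ.toMonoidHom ≤ isoGrp (Fin t) G := fun y hy => (hiso y).mp (hMK hy)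
  have hH' : wreath (Fin t) k F ⊓ isoGrp (Fin t) G ≤ M.comap φ.toMonoidHom := fun y hy =>
    hLM ⟨map_wreath_eq e P ▸ ⟨y, hy.1, rfl⟩, (hiso y).mpr hy.2⟩
  have hW' : ¬ M.comap φ.toMonoidHom ≤ wreath (Fin t) k F := fun h => hgL
    ⟨map_wreath_eq e P ▸ ⟨φ.symm g, h (by rw [Subgroup.mem_comap]; simpa using hg), φ.apply_symm_apply g⟩, hMK hg⟩
  obtain ⟨y, hy, hyv⟩ := hgood _ hM' hH' hW' w (s * c₀)
  have he : φ y = spTv ((P : Matrix _ _ F) *ᵥ (w ∘ e)) s := by
    apply Units.ext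
    refine Matrix.ext_of_mulVec_single fun a => ?_
    obtain ⟨x, hx⟩ := wCoord_surj e P (Pi.single a 1)
    rw [← hx, wCoordIso_mulVec, spTv_mulVec, hf, ← mulVec_smul, ← mulVec_add, hyv, transv_mulVec, mul_assoc]
    rfl
  exact he ▸ hy

/-- The stabiliser in `Sp` of a symplectic tensor power decomposition with factors of dimension at least four is
maximal. -/
theorem isMaximalIn_spWreath [Fintype F] {n k t : ℕ} (hk : 4 ≤ k) (h2 : (2 : F) ≠ 0) (ht : Odd t) (ht3 : 3 ≤ t)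
    (e : (Fin n ⊕ Fin n) ≃ (Fin t → Fin k)) (P : GL (Fin n ⊕ Fin n) F) {f₁ : (Fin k → F) → (Fin k → F) → F}
    (hf₁ : IsSymplecticForm f₁) (hT : IsTensorPowerFormStructure id (Cfsg.sympForm n F) f₁ e P) :
    IsMaximalIn (Cfsg.spGL n F) (tensorWreathSubgroup k t e P ⊓ Cfsg.spGL n F) :=
  have : Nontrivial (Fin t) := Fin.nontrivial_iff_two_le.mpr (by omega)
  isMaximalIn_spWreath_of (by omega) ht3 e P hf₁ hT fun _ hM hH hW =>
    goodT_of_overgroup (ι := Fin t) hk h2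
      (by rwa [Fintype.card_fin]) (spForm_gramMatrix hf₁) hM hH hW

end CfsgLib.TWSp
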