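import Cfsg.Agent.TensorWreathSp.PureContra

/-!
# Invariant algebras containing a pure nilpotent product

A subalgebra invariant under all factors which contains a product of standard nilpotent matrices
contains the full matrix algebra of each factor in its support.
-/

set_option autoImplicit false
set_option linter.unusedSectionVars false

namespace CfsgLib.TWSp

open Matrix CfsgLib.MaxSub CfsgLib.TWreath

variable {F : Type*} [Field F] {ι : Type} [Fintype ι] [DecidableEq ι] {m : ℕ}
  {G : Matrix (Fin m) (Fin m) F}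

/-- Rank one idempotents. -/
def IdemType (G : Matrix (Fin m) (Fin m) F) (E : Matrix (Fin m) (Fin m) F) : Prop :=
  ∃ u v, om G u v = 1 ∧ E = vecMulVec u (G *ᵥ v)

theorem IdemType.sq {E : Matrix (Fin m) (Fin m) F} (h : IdemType G E) : E * E = E := by
  obtain ⟨u, v, huv, rfl⟩ := h
  rw [vecMulVec_mul_vecMulVec, axis_dot, huv, one_smul]

theorem IdemType.ne_one (hm : 2 ≤ m) (hG : SpForm G) {E : Matrix (Fin m) (Fin m) F} (h : IdemType G E) :
    E ≠ 1 := by
  obtain ⟨u, v, huv, rfl⟩ := h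
  intro he
  have h1 := congrArg (· *ᵥ v) he
  simp only [vecMulVec_mulVec', axis_dot, hG.self, zero_smul, one_mulVec] at h1
  rw [← h1, om, mulVec_zero, dotProduct_zero] at huv
  exact zero_ne_one huv

theorem wedge_mul_vecMulVec (G : Matrix (Fin m) (Fin m) F) (c e x y : Fin m → F) :
    wedge G c e * vecMulVec x y = vecMulVec (om G x e • c - om G x c • e) y := by
  rw [mul_vecMulVec, wedge_mulVec]

/-- An idempotent made from four conjugates. -/
theorem exists_idem (hm : 4 ≤ m) (hG : SpForm G) {T : Matrix (Fin m) (Fin m) F} (hT : LowType G T) :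
    ∃ h₁ h₂ h₃ : GL (Fin m) F, h₁ ∈ spG G ∧ h₂ ∈ spG G ∧ h₃ ∈ spG G ∧ IdemType G
      (T * ((h₁ : Matrix (Fin m) (Fin m) F) * T * ((h₁⁻¹ : GL (Fin m) F) : Matrix (Fin m) (Fin m) F)) *
        (((h₂ : Matrix (Fin m) (Fin m) F) * T * ((h₂⁻¹ : GL (Fin m) F) : Matrix (Fin m) (Fin m) F)) *
          ((h₃ : Matrix (Fin m) (Fin m) F) * T * ((h₃⁻¹ : GL (Fin m) F) : Matrix (Fin m) (Fin m) F))) *
       (T * ((h₁ : Matrix (Fin m) (Fin m) F) * T * ((h₁⁻¹ : GL (Fin m) F) : Matrix (Fin m) (Fin m) F)) *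
        (((h₂ : Matrix (Fin m) (Fin m) F) * T * ((h₂⁻¹ : GL (Fin m) F) : Matrix (Fin m) (Fin m) F)) *
          ((h₃ : Matrix (Fin m) (Fin m) F) * T * ((h₃⁻¹ : GL (Fin m) F) : Matrix (Fin m) (Fin m) F))))) := by
  rcases hT with ⟨c, hc, -, rfl⟩ | ⟨c, e, hce, hind, hc, rfl⟩
  · obtain ⟨d, hd⟩ := hG.exists_partner hc
    have hcd : om G c d = -1 := by rw [hG.skew, hd]
    obtain ⟨t, ht, htc, -⟩ := hG.exists_move (c := c) (f := d) (by rw [hcd]; exact neg_ne_zero.mpr one_ne_zero)
    refine ⟨t, 1, t, ht, (spG G).one_mem, ht, c, -d, ?_, ?_⟩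
    · rw [← neg_one_smul F d, om_smul_right, hcd]; ring
    · rw [conj_cen ht, htc, inv_one, Units.val_one, Matrix.one_mul, Matrix.mul_one, cen, cen,
        vecMulVec_mul_vecMulVec, axis_dot, hd, one_smul, vecMulVec_mul_vecMulVec, axis_dot, hcd,
        vecMulVec_smul, neg_one_smul, neg_mul_neg, vecMulVec_mul_vecMulVec, axis_dot, hcd, vecMulVec_smul,
        neg_one_smul, mulVec_neg, vecMulVec_neg]
  · have he0 : e ≠ 0 := fun h0 => hind 0 (by rw [zero_smul, h0])
    obtain ⟨f, hf1, hf2⟩ := exists_dot_eq_zero_one (a := G *ᵥ e) (b := G *ᵥ c) (hG.axis_indep fun k hk => by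
      rcases eq_or_ne k 0 with rfl | hk0
      · exact hc (by rw [← hk, zero_smul])
      · exact hind k⁻¹ (by rw [← hk, smul_smul, inv_mul_cancel₀ hk0, one_smul]))
    rw [axis_dot] at hf1 hf2
    have hcf : om G c f = -1 := by rw [hG.skew, hf2]
    have hef : om G e f = 0 := hG.axis_zero_iff.mp hf1
    have hec : om G e c = 0 := hG.axis_zero_iff.mp hce
    obtain ⟨t, ht, htc, hfix⟩ := hG.exists_move (c := c) (f := f) (by rw [hcf]; exact neg_ne_zero.mpr one_ne_zero)
    have hte : (t : Matrix (Fin m) (Fin m) F) *ᵥ e = e := hfix e (by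
      rw [sub_eq_add_neg, ← neg_one_smul F c, om_add_right, om_smul_right, hef, hec, mul_zero, add_zero])
    obtain ⟨d, hd⟩ := hG.exists_partner he0
    have hed : om G e d = -1 := by rw [hG.skew, hd]
    obtain ⟨k, hk, hke, -⟩ := hG.exists_move (c := e) (f := d) (by rw [hed]; exact neg_ne_zero.mpr one_ne_zero)
    have hQ : wedge G c e * wedge G f e = -cen G e := by
      rw [wedge, Matrix.sub_mul, wedge, Matrix.mul_sub, Matrix.mul_sub, vecMulVec_mul_vecMulVec,
        vecMulVec_mul_vecMulVec, vecMulVec_mul_vecMulVec, vecMulVec_mul_vecMulVec, axis_dot, axis_dot, axis_dot,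
        axis_dot, hf1, hf2, hG.self, hec, cen]
      simp
    refine ⟨t, k, k * t, ht, hk, (spG G).mul_mem hk ht, e, -d, ?_, ?_⟩
    · rw [← neg_one_smul F d, om_smul_right, hed]; ring
    · have hw : (t : Matrix (Fin m) (Fin m) F) * wedge G c e * ((t⁻¹ : GL (Fin m) F) : Matrix (Fin m) (Fin m) F) =
          wedge G f e := by rw [conj_wedge ht, htc, hte]
      have h2 : ((k * t : GL (Fin m) F) : Matrix (Fin m) (Fin m) F) * wedge G c e *
          (((k * t)⁻¹ : GL (Fin m) F) : Matrix (Fin m) (Fin m) F) =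
          (k : Matrix (Fin m) (Fin m) F) * wedge G f e * ((k⁻¹ : GL (Fin m) F) : Matrix (Fin m) (Fin m) F) := by
        rw [← hw, _root_.mul_inv_rev, Units.val_mul, Units.val_mul]
        simp only [Matrix.mul_assoc]
      rw [h2, hw, hQ]
      rw [show (k : Matrix (Fin m) (Fin m) F) * wedge G c e * ((k⁻¹ : GL (Fin m) F) : Matrix (Fin m) (Fin m) F) *
          ((k : Matrix (Fin m) (Fin m) F) * wedge G f e * ((k⁻¹ : GL (Fin m) F) : Matrix (Fin m) (Fin m) F)) =
        -((k : Matrix (Fin m) (Fin m) F) * cen G e * ((k⁻¹ : GL (Fin m) F) : Matrix (Fin m) (Fin m) F)) by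
        rw [← Matrix.neg_mul, ← Matrix.mul_neg, ← hQ]
        simp only [Matrix.mul_assoc]
        rw [← Matrix.mul_assoc ((k⁻¹ : GL (Fin m) F) : Matrix (Fin m) (Fin m) F) (k : Matrix (Fin m) (Fin m) F),
          Units.inv_mul, Matrix.one_mul]]
      rw [conj_cen hk, hke, neg_mul_neg, cen, cen, vecMulVec_mul_vecMulVec, axis_dot, hd, one_smul,
        vecMulVec_mul_vecMulVec, axis_dot, hed, vecMulVec_smul, neg_one_smul, mulVec_neg, vecMulVec_neg]

/-- An invariant subalgebra. -/
def InvAlg (G : Matrix (Fin m) (Fin m) F) (S : Subalgebra F (Matrix (ι → Fin m) (ι → Fin m) F)) : Prop :=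
  InvSub G S.toSubmodule

/-- An idempotent factor may be replaced by any matrix. -/
theorem idem_update (hm : 4 ≤ m) (hG : SpForm G) {S : Subalgebra F (Matrix (ι → Fin m) (ι → Fin m) F)}
    (hS : InvAlg G S) {E : ι → Matrix (Fin m) (Fin m) F} (hE : ∀ k, E k * E k = E k) (hP : Pt E ∈ S) {l : ι}
    (hl : IdemType G (E l)) (A : Matrix (Fin m) (Fin m) F) : Pt (Function.update E l A) ∈ S := by
  obtain ⟨u, v, huv, hEl⟩ := hl
  let B : Submodule F (Matrix (Fin m) (Fin m) F) :=
    { carrier := {A | Pt (Function.update E l A) ∈ S}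
      add_mem' := fun {a b} ha hb => by
        show Pt _ ∈ S
        rw [Pt_update_add]; exact S.add_mem ha hb
      zero_mem' := by
        show Pt _ ∈ S
        rw [show (0 : Matrix (Fin m) (Fin m) F) = (0 : F) • E l from (zero_smul _ _).symm, Pt_update_smul, zero_smul]
        exact S.zero_mem
      smul_mem' := fun k a ha => by
        show Pt _ ∈ S
        rw [Pt_update_smul]; exact S.smul_mem ha k }
  have hmem : ∀ {A}, A ∈ B ↔ Pt (Function.update E l A) ∈ S := Iff.rfl
  have hmul : ∀ {a b}, a ∈ B → b ∈ B → a * b ∈ B := fun {a b} ha hb => by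
    have := S.mul_mem (hmem.mp ha) (hmem.mp hb)
    rw [Pt_mul] at this
    rw [hmem]
    convert this using 2
    funext k
    rcases eq_or_ne k l with rfl | hk
    · simp
    · simp [hk, hE]
  have hconj : ∀ h ∈ spG G, ∀ a ∈ B, (h : Matrix (Fin m) (Fin m) F) * a *
      ((h⁻¹ : GL (Fin m) F) : Matrix (Fin m) (Fin m) F) ∈ B := fun h hh a ha => by
    have := hS l h hh _ (hmem.mp ha)
    rw [← map_inv, embG_val, embG_val, emb, emb, Pt_mul, Pt_mul] at this
    rw [hmem]
    rw [Subalgebra.mem_toSubmodule] at this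
    convert this using 2
    funext k
    rcases eq_or_ne k l with rfl | hk
    · simp
    · simp [hk]
  have hE0 : vecMulVec u (G *ᵥ v) ∈ B := by
    rw [hmem, ← hEl, Function.update_eq_self]; exact hP
  have hu0 : u ≠ 0 := fun h => one_ne_zero (huv.symm.trans (by rw [h, om, zero_dotProduct]))
  -- one `cen`
  have hcu : cen G u ∈ B := by
    have hvu : om G v u = -1 := by rw [hG.skew, huv]
    have h1 := hconj _ (hG.spt_mem 1 u) _ hE0
    rw [mul_vecMulVec, vecMulVec_mul, vecMul_inv_of_mem_spG (hG.spt_mem 1 u), hG.spt_mulVec, hG.spt_mulVec,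
      hG.self, mul_zero, zero_smul, add_zero, hvu, one_mul, neg_one_smul, ← sub_eq_add_neg, mulVec_sub,
      vecMulVec_sub] at h1
    have h2 := B.sub_mem hE0 h1
    rwa [sub_sub_cancel] at h2
  have hall : ∀ x, cen G x ∈ B := by
    intro x
    rcases eq_or_ne x 0 with rfl | hx
    · rw [cen, zero_vecMulVec]; exact B.zero_mem
    obtain ⟨z, hz1, hz2⟩ := exists_dot_both (hG.axis_ne hx) (hG.axis_ne hu0)
    rw [dotProduct_comm, axis_dot] at hz1 hz2
    obtain ⟨t1, ht1, ht1', -⟩ := hG.exists_move (c := u) (f := z) (fun h => hz2 (hG.axis_zero_iff.mp h))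
    obtain ⟨t2, ht2, ht2', -⟩ := hG.exists_move (c := z) (f := x) hz1
    have := hconj _ ((spG G).mul_mem ht2 ht1) _ hcu
    rwa [conj_cen ((spG G).mul_mem ht2 ht1), Units.val_mul, ← mulVec_mulVec, ht1', ht2'] at this
  have hone : ∀ x y, om G y x ≠ 0 → vecMulVec x (G *ᵥ y) ∈ B := fun x y hxy => by
    have := B.smul_mem (om G y x)⁻¹ (hmul (hall x) (hall y))
    rwa [cen, cen, vecMulVec_mul_vecMulVec, axis_dot, vecMulVec_smul, smul_smul, inv_mul_cancel₀ hxy,
      one_smul] at this
  have hrank : ∀ x φ, vecMulVec x φ ∈ B := fun x φ => by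
    rcases eq_or_ne x 0 with rfl | hx
    · rw [zero_vecMulVec]; exact B.zero_mem
    obtain ⟨y, rfl⟩ := hG.exists_axis φ
    by_cases hxy : om G y x = 0
    · obtain ⟨d, hd⟩ := hG.exists_partner hx
      have h1 := B.sub_mem (hone x (y + d) (by rw [om_add_left, hxy, hd, zero_add]; exact one_ne_zero))
        (hone x d (by rw [hd]; exact one_ne_zero))
      rwa [mulVec_add, vecMulVec_add, add_sub_cancel_right] at h1
    · exact hone x y hxy
  refine hmem.mp ?_
  rw [show A = ∑ p, vecMulVec (A.col p) (Pi.single p 1) by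
    ext r s; simp [Matrix.sum_apply, vecMulVec_apply, Pi.single_apply]]
  exact B.sum_mem fun p _ => hrank _ _

/-- The full factor algebras of the support. -/
theorem emb_mem_of_pure (hm : 4 ≤ m) (hG : SpForm G) {S : Subalgebra F (Matrix (ι → Fin m) (ι → Fin m) F)}
    (hS : InvAlg G S) {gs : ι → Matrix (Fin m) (Fin m) F} (hP : Pt gs ∈ S)
    (hty : ∀ k, gs k = 1 ∨ LowType G (gs k)) {l : ι} (hl : gs l ≠ 1) (A : Matrix (Fin m) (Fin m) F) :
    emb l A ∈ S := by
  classical
  have hex : ∀ k, ∃ h₁ h₂ h₃ : GL (Fin m) F, h₁ ∈ spG G ∧ h₂ ∈ spG G ∧ h₃ ∈ spG G ∧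
      (let X := gs k * ((h₁ : Matrix (Fin m) (Fin m) F) * gs k * ((h₁⁻¹ : GL (Fin m) F) : Matrix (Fin m) (Fin m) F)) *
        (((h₂ : Matrix (Fin m) (Fin m) F) * gs k * ((h₂⁻¹ : GL (Fin m) F) : Matrix (Fin m) (Fin m) F)) *
          ((h₃ : Matrix (Fin m) (Fin m) F) * gs k * ((h₃⁻¹ : GL (Fin m) F) : Matrix (Fin m) (Fin m) F)))
      (gs k = 1 → X * X = 1) ∧ (gs k ≠ 1 → IdemType G (X * X))) := fun k => by
    by_cases h : gs k = 1
    · exact ⟨1, 1, 1, (spG G).one_mem, (spG G).one_mem, (spG G).one_mem, fun _ => by simp [h], fun h' => absurd h h'⟩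
    · obtain ⟨h₁, h₂, h₃, a, b, c, d⟩ := exists_idem hm hG ((hty k).resolve_left h)
      exact ⟨h₁, h₂, h₃, a, b, c, fun h' => absurd h' h, fun _ => d⟩
  choose h₁ h₂ h₃ m1 m2 m3 hE1 hE2 using hex
  have hc : ∀ hs : ι → GL (Fin m) F, (∀ k, hs k ∈ spG G) →
      Pt (fun k => (hs k : Matrix (Fin m) (Fin m) F) * gs k * (((hs k)⁻¹ : GL (Fin m) F) : Matrix (Fin m) (Fin m) F)) ∈ S := by
    intro hs hh
    have := InvSub.conj_Pt hS hh (show Pt gs ∈ S.toSubmodule from hP)
    rw [← map_inv, PtG_val, PtG_val, Pt_mul, Pt_mul] at this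
    exact this
  have hX := S.mul_mem (S.mul_mem hP (hc h₁ m1)) (S.mul_mem (hc h₂ m2) (hc h₃ m3))
  have hXX := S.mul_mem hX hX
  simp only [Pt_mul] at hXX
  set E : ι → Matrix (Fin m) (Fin m) F := fun k =>
    gs k * ((h₁ k : Matrix (Fin m) (Fin m) F) * gs k * (((h₁ k)⁻¹ : GL (Fin m) F) : Matrix (Fin m) (Fin m) F)) *
        (((h₂ k : Matrix (Fin m) (Fin m) F) * gs k * (((h₂ k)⁻¹ : GL (Fin m) F) : Matrix (Fin m) (Fin m) F)) *
          ((h₃ k : Matrix (Fin m) (Fin m) F) * gs k * (((h₃ k)⁻¹ : GL (Fin m) F) : Matrix (Fin m) (Fin m) F))) *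
      (gs k * ((h₁ k : Matrix (Fin m) (Fin m) F) * gs k * (((h₁ k)⁻¹ : GL (Fin m) F) : Matrix (Fin m) (Fin m) F)) *
        (((h₂ k : Matrix (Fin m) (Fin m) F) * gs k * (((h₂ k)⁻¹ : GL (Fin m) F) : Matrix (Fin m) (Fin m) F)) *
          ((h₃ k : Matrix (Fin m) (Fin m) F) * gs k * (((h₃ k)⁻¹ : GL (Fin m) F) : Matrix (Fin m) (Fin m) F)))) with hEdef
  have hPE : Pt E ∈ S := hXX
  -- remove the other factors
  have key : ∀ T : Finset ι, l ∉ T → Pt (fun k => if k ∈ T then 1 else E k) ∈ S := by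
    intro T
    induction T using Finset.induction with
    | empty => intro _; simpa using hPE
    | insert j T hj ih =>
      intro hlT
      simp only [Finset.mem_insert, not_or] at hlT
      set E' : ι → Matrix (Fin m) (Fin m) F := fun k => if k ∈ T then 1 else E k with hE'
      have he : (fun k => if k ∈ insert j T then 1 else E k) = Function.update E' j 1 := by
        funext k
        rcases eq_or_ne k j with rfl | hk
        · simp
        · simp [hE', hk]
      rw [he]
      by_cases hgj : gs j = 1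
      · have : E' j = 1 := by simp only [hE', if_neg hj]; exact hE1 j hgj
        rw [← this, Function.update_eq_self]; exact ih hlT.2
      · refine idem_update hm hG hS (fun k => ?_) (ih hlT.2) ?_ 1
        · simp only [hE']
          split_ifs
          · rw [Matrix.one_mul]
          · by_cases hk : gs k = 1
            · rw [show E k = 1 from hE1 k hk, Matrix.one_mul]
            · exact IdemType.sq (G := G) (hE2 k hk)
        · simp only [hE', if_neg hj]; exact hE2 j hgj
  have hl1 := key (Finset.univ.erase l) (Finset.notMem_erase _ _)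
  set E' : ι → Matrix (Fin m) (Fin m) F := fun k => if k ∈ Finset.univ.erase l then 1 else E k with hE'
  have h2 := idem_update hm hG hS (l := l) (E := E') (fun k => by
    simp only [hE']
    split_ifs with hk
    · rw [Matrix.one_mul]
    · simp only [Finset.mem_erase, Finset.mem_univ, and_true, not_not] at hk
      subst hk
      exact IdemType.sq (G := G) (hE2 k hl)) hl1 (by
    simp only [hE', Finset.mem_erase, ne_eq, not_true_eq_false, false_and, if_false]
    exact hE2 l hl) A
  rwa [show Function.update E' l A = Function.update (1 : ι → Matrix (Fin m) (Fin m) F) l A by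
    funext k
    rcases eq_or_ne k l with rfl | hk
    · simp
    · simp [hE', hk]] at h2

end CfsgLib.TWSp
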