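import Cfsg.Agent.TensorWreath.Classify

/-!
# Quadratic elements of rank `bdim` in dimension at least four are roots
-/

set_option autoImplicit false
set_option linter.unusedSectionVars false
set_option linter.unusedVariables false

namespace CfsgLib.TWSp

open Matrix CfsgLib.MaxSub CfsgLib.TWreath

variable {F : Type*} [Field F] {ι : Type} [Fintype ι] [DecidableEq ι] {m : ℕ}

set_option maxHeartbeats 1600000 in
/-- In dimension at least four a quadratic element of rank `bdim` fixes all factors (characteristic two). -/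
theorem perm_eq_one_of_quadratic [CharP F 2] (hm : 4 ≤ m) {u : GL (ι → Fin m) F} {σ : Equiv.Perm ι}
    (hu : HasPerm u σ)
    (h2 : ((u : Matrix (ι → Fin m) (ι → Fin m) F) - 1) * ((u : Matrix (ι → Fin m) (ι → Fin m) F) - 1) = 0)
    (hrank : ((u : Matrix (ι → Fin m) (ι → Fin m) F) - 1).rank = bdim ι m) :
    σ = 1 := by
  by_contra hσ
  classical
  have : NeZero m := ⟨by omega⟩
  have hm3 : 3 ≤ m := by omega
  have hσσ := hu.sq_eq_one_of_quadratic (by omega) h2
  have hinv : ∀ k, σ (σ k) = k := fun k => by rw [← Equiv.Perm.mul_apply, hσσ]; rfl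
  have hsymm : σ.symm = σ := Equiv.ext fun k => σ.injective (by simp [hinv])
  obtain ⟨a, ha⟩ : ∃ a, σ a ≠ a := by
    by_contra hc
    push Not at hc
    exact hσ (Equiv.ext hc)
  set b := σ a with hb
  have hab : a ≠ b := Ne.symm ha
  have hbb : σ b = a := hinv a
  obtain ⟨gs, hgs⟩ := hu
  -- normalise the factor `b`
  set h := (gs b)⁻¹ with hh
  set P := (embG b h : GL (ι → Fin m) F) with hP
  set gs' : ι → GL (Fin m) F :=
    Function.update (1 : ι → GL (Fin m) F) b h * (gs * fun k => (Function.update (1 : ι → GL (Fin m) F) b h)⁻¹ (σ.symm k)) with hgs'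
  set u' := P * u * P⁻¹ with hu'
  have hu'e : u' = PtG gs' * pmG σ := by
    rw [hu', hP, hgs, hgs', embG_eq_PtG, ← map_inv, map_mul, map_mul]
    simp only [mul_assoc]
    rw [pmG_mul_PtG]
  have hgb : gs' b = 1 := by
    rw [hgs']
    simp only [Pi.mul_apply, Pi.inv_apply, Function.update_self, hsymm, hbb, Function.update_of_ne hab,
      Pi.one_apply, inv_one, mul_one]
    rw [hh, inv_mul_cancel]
  set U := (u' : Matrix (ι → Fin m) (ι → Fin m) F) with hU
  have hUU : U * U = 1 := by
    have h22 : (U - 1) * (U - 1) = 0 := by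
      have e : U - 1 = (P : Matrix (ι → Fin m) (ι → Fin m) F) *
          ((u : Matrix (ι → Fin m) (ι → Fin m) F) - 1) * ((P⁻¹ : GL (ι → Fin m) F) : Matrix (ι → Fin m) (ι → Fin m) F) := by
        rw [hU, hu', Units.val_mul, Units.val_mul, mul_sub, sub_mul, mul_one, Units.mul_inv]
      rw [e, mul_assoc, ← mul_assoc (((P⁻¹ : GL (ι → Fin m) F)) : Matrix (ι → Fin m) (ι → Fin m) F),
        ← mul_assoc (((P⁻¹ : GL (ι → Fin m) F)) : Matrix (ι → Fin m) (ι → Fin m) F), Units.inv_mul, one_mul,
        ← mul_assoc, mul_assoc (P : Matrix (ι → Fin m) (ι → Fin m) F), h2, mul_zero, zero_mul]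
    have h20 : (2 : Matrix (ι → Fin m) (ι → Fin m) F) = 0 := CharTwo.two_eq_zero
    have : U * U = (U - 1) * (U - 1) + 2 * U - 1 := by noncomm_ring
    rw [this, h22, h20, zero_mul, add_zero, zero_sub, CharTwo.neg_eq]
  let g : ι → Matrix (Fin m) (Fin m) F := fun k => (gs' k : Matrix (Fin m) (Fin m) F)
  have hUp : ∀ ys, U *ᵥ pten ys = pten fun k => g k *ᵥ ys (σ k) := fun ys => by
    rw [hU, hu'e, Units.val_mul, PtG_val, pmG_val, ← mulVec_mulVec, pm_mulVec_pten, Pt_mulVec_pten, hsymm]
  obtain ⟨l, hl, -⟩ := exists_scalar_of_Pt_eq_one (hs := fun k => g k * g (σ k)) (by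
    refine ext_pten fun ys => ?_
    rw [Pt_mulVec_pten, ← hUU, ← mulVec_mulVec, hUp, hUp]
    simp only [mulVec_mulVec, hinv])
  have hga : g a = l a • 1 := by
    have := hl a
    simp only [g] at this ⊢
    rwa [← hb, hgb, Units.val_one, mul_one] at this
  have hsub : ∀ k, (k ≠ a ∧ k ≠ b) ↔ (σ k ≠ a ∧ σ k ≠ b) := fun k => by
    constructor
    · rintro ⟨h1, h2⟩
      exact ⟨fun h => h2 (σ.injective (h.trans hbb.symm)), fun h => h1 (σ.injective (h.trans hb))⟩
    · rintro ⟨h1, h2⟩
      exact ⟨fun h => h2 (by rw [h, hb]), fun h => h1 (by rw [h, hbb])⟩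
  let σ' : Equiv.Perm {j // j ≠ a ∧ j ≠ b} := σ.subtypePerm fun k => (hsub k).symm
  set H := l a • (Pt (fun j : {j // j ≠ a ∧ j ≠ b} => g j) * pm σ') with hHdef
  have hUl : ∀ x y w, U *ᵥ lift2 a b x y w = lift2 a b y x (H *ᵥ w) := by
    intro x y w
    conv_lhs => rw [eq_sum_pten w, map_sum]
    conv_rhs => rw [eq_sum_pten w]
    rw [mulVec_sum, mulVec_sum, map_sum]
    refine Finset.sum_congr rfl fun r _ => ?_
    rw [map_smul, mulVec_smul, mulVec_smul, map_smul]
    congr 1
    let zs : ι → Fin m → F := fun j => if h : j ≠ a ∧ j ≠ b then Pi.single (r ⟨j, h⟩) 1 else 0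
    have hzs : (fun j : {j // j ≠ a ∧ j ≠ b} => Pi.single (r j) (1 : F)) =
        fun j : {j // j ≠ a ∧ j ≠ b} => zs j := by
      funext j; simp [zs, j.2]
    rw [hzs, lift2_pten hab, hUp, hHdef, smul_mulVec, map_smul, ← mulVec_mulVec, pm_mulVec_pten, Pt_mulVec_pten]
    have hs' : ∀ j : {j // j ≠ a ∧ j ≠ b}, (σ'.symm j : ι) = σ j := fun j => by
      refine σ.injective ?_
      rw [hinv]
      exact congrArg Subtype.val (σ'.apply_symm_apply j)
    rw [show (fun k : {j // j ≠ a ∧ j ≠ b} => g k *ᵥ zs (σ'.symm k)) =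
      (fun k : {j // j ≠ a ∧ j ≠ b} => g k *ᵥ zs (σ k)) by funext k; rw [hs'],
      lift2_pten hab y x (fun k => g k *ᵥ zs (σ k)), ← pten_update_smul]
    congr 1
    funext k
    rcases eq_or_ne k a with rfl | hka
    · rw [Function.update_self, ← hb, hga, smul_mulVec, one_mulVec, Function.update_of_ne hab.symm,
        Function.update_self]
    rcases eq_or_ne k b with rfl | hkb
    · rw [Function.update_of_ne hka, Function.update_self, hbb, Function.update_self]
      simp only [g, hgb, Units.val_one, one_mulVec]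
    · have := ((hsub k).mp ⟨hka, hkb⟩)
      rw [Function.update_of_ne hka, Function.update_of_ne hkb, Function.update_of_ne this.1,
        Function.update_of_ne this.2]
  -- coordinates
  let e : Fin m → Fin m → F := fun i => Pi.single i 1
  let ext2 : Fin m → Fin m → Rest2 a b m → (ι → Fin m) := fun p q r j =>
    if h : j ≠ a ∧ j ≠ b then r ⟨j, h⟩ else if j = a then p else q
  have hext : ∀ p q r, ext2 p q r a = p ∧ ext2 p q r b = q ∧ (fun j : {j // j ≠ a ∧ j ≠ b} => ext2 p q r j) = r := by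
    intro p q r
    exact ⟨by simp [ext2], by simp [ext2, hab.symm], funext fun j => by simp [ext2, j.2]⟩
  have hread : ∀ (x y : Fin m → F) (w : Rest2 a b m → F) p q r,
      lift2 a b x y w (ext2 p q r) = x p * y q * w r := fun x y w p q r => by
    rw [lift2_apply, (hext p q r).1, (hext p q r).2.1, (hext p q r).2.2]
  set T := U - 1 with hT
  have hTl : ∀ x y w, T *ᵥ lift2 a b x y w = lift2 a b y x (H *ᵥ w) - lift2 a b x y w := fun x y w => by
    rw [hT, sub_mulVec, one_mulVec, hUl]
  have hrankT : T.rank = bdim ι m := by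
    rw [← hrank, hT, hU, hu', rank_conj_sub_one' P u]
  let P2 := {pq : Fin m × Fin m // pq.1 < pq.2}
  let Φ : (P2 → Rest2 a b m → F) →ₗ[F] ((ι → Fin m) → F) :=
    ∑ pq : P2, T.mulVecLin ∘ₗ lift2 a b (e pq.1.1) (e pq.1.2) ∘ₗ LinearMap.proj pq
  have hΦ : ∀ f, Φ f = ∑ pq : P2, T *ᵥ lift2 a b (e pq.1.1) (e pq.1.2) (f pq) := fun f => by
    simp [Φ, LinearMap.sum_apply]
  have hΦval : ∀ f p q r, p ≤ q → Φ f (ext2 p q r) = if h : p < q then - f ⟨(p, q), h⟩ r else 0 := by
    intro f p q r hpq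
    rw [hΦ, Finset.sum_apply]
    have hterm : ∀ x : P2, (T *ᵥ lift2 a b (e x.1.1) (e x.1.2) (f x)) (ext2 p q r) =
        if x.1 = (p, q) then - f x r else 0 := by
      rintro ⟨⟨p', q'⟩, hlt⟩
      rw [hTl, Pi.sub_apply, hread, hread]
      have h1 : e q' p * e p' q = 0 := by
        simp only [e, Pi.single_apply]
        split_ifs with h1 h2 <;> simp
        subst h1 h2
        exact absurd hlt (not_lt.mpr hpq)
      rw [h1, zero_mul, zero_sub]
      simp only [e, Pi.single_apply]
      by_cases hp : p = p'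
      · by_cases hq : q = q'
        · subst hp hq; simp
        · simp [hq, Ne.symm hq]
      · simp [hp, Ne.symm hp]
    simp only [hterm]
    split_ifs with hlt
    · rw [Finset.sum_eq_single ⟨(p, q), hlt⟩ (fun x _ hx => if_neg fun h => hx (Subtype.ext h))
        (by simp)]
      simp
    · exact Finset.sum_eq_zero fun x _ => if_neg fun h => hlt (by have := x.2; rw [h] at this; exact this)
  have hΦi : Function.Injective Φ := by
    intro f f' hff
    funext pq r
    have := congrFun hff (ext2 pq.1.1 pq.1.2 r)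
    rw [hΦval _ _ _ _ pq.2.le, hΦval _ _ _ _ pq.2.le, dif_pos pq.2, dif_pos pq.2, neg_inj] at this
    exact this
  have hΦD : LinearMap.range Φ ≤ LinearMap.range T.mulVecLin := by
    rintro _ ⟨f, rfl⟩
    rw [hΦ]
    exact Submodule.sum_mem _ fun pq _ => ⟨_, rfl⟩
  have hcard := LinearMap.finrank_range_of_inj hΦi
  rw [Module.finrank_pi_fintype] at hcard
  simp only [Module.finrank_pi, Finset.sum_const, Finset.card_univ, smul_eq_mul] at hcard
  have hle := Submodule.finrank_mono hΦD
  rw [Matrix.rank, bdim_eq_mul_card_rest2 hab] at hrankT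
  rw [hcard, hrankT] at hle
  have hpos : 0 < Fintype.card (Rest2 a b m) := Fintype.card_pos_iff.mpr ⟨fun _ => 0⟩
  have h4 : m + 1 ≤ Fintype.card P2 := by
    let f : Fin (m + 1) → P2 := fun k =>
      if h : k.val + 1 < m then ⟨(⟨0, by omega⟩, ⟨k.val + 1, h⟩), Fin.mk_lt_mk.mpr (Nat.succ_pos _)⟩
      else if k.val + 1 = m then ⟨(⟨1, by omega⟩, ⟨2, by omega⟩), Fin.mk_lt_mk.mpr (by omega)⟩
      else ⟨(⟨1, by omega⟩, ⟨3, by omega⟩), Fin.mk_lt_mk.mpr (by omega)⟩
    have hf : Function.Injective f := by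
      intro k k' h
      simp only [f] at h
      ext
      have := k.isLt
      have := k'.isLt
      split_ifs at h <;> simp only [P2, Subtype.mk.injEq, Prod.mk.injEq, Fin.mk.injEq] at h <;> omega
    simpa using Fintype.card_le_of_injective f hf
  have h5 := le_of_mul_le_mul_right hle hpos
  omega

/-- In dimension at least four quadratic elements of the wreath group of rank `bdim` are roots. -/
theorem classify4 [Finite F] (hm : 4 ≤ m) {u : GL (ι → Fin m) F}
    (hu : u ∈ wreath ι m F)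
    (h2 : ((u : Matrix (ι → Fin m) (ι → Fin m) F) - 1) * ((u : Matrix (ι → Fin m) (ι → Fin m) F) - 1) = 0)
    (hr : ((u : Matrix (ι → Fin m) (ι → Fin m) F) - 1).rank = bdim ι m) :
    ∃ j c φ, c ≠ 0 ∧ φ ≠ 0 ∧ φ ⬝ᵥ c = 0 ∧ u = root j c φ := by
  obtain ⟨p, hp'⟩ := CharP.exists F
  have : Fact p.Prime := ⟨CharP.char_is_prime F p⟩
  have : NeZero m := ⟨by omega⟩
  obtain ⟨σ, hσ⟩ := hu
  rcases classify (p := p) (by omega) hσ h2 hr with h | ⟨rfl, -⟩
  · exact h
  · obtain rfl := perm_eq_one_of_quadratic hm hσ h2 hr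
    obtain ⟨gs, rfl⟩ := hσ
    rw [map_one, mul_one] at h2 hr ⊢
    exact classify_pure (p := 2) (by omega) (pow_prime_eq_one (p := 2) h2) hr

end CfsgLib.TWSp
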