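import Cfsg.Agent.TensorWreathSp.Form
import Cfsg.Agent.TensorWreathSp.Classify4
import Cfsg.Agent.TensorWreath.Control

/-!
# Fusion control in an overgroup of symplectic factors without a fused block

`M` consists of similitudes, contains the symplectic groups of all factors and every element of `M`
mapping a block into a block lies in the wreath group.
-/

set_option autoImplicit false
set_option linter.unusedSectionVars false

namespace CfsgLib.TWSp

open Matrix CfsgLib.MaxSub CfsgLib.TWreath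

variable {F : Type*} [Field F] {ι : Type} [Fintype ι] [DecidableEq ι] {m : ℕ}

/-- Roots among the similitudes are symplectic. -/
theorem axis_of_root_mem [NeZero m] {G : Matrix (Fin m) (Fin m) F} (hG : SpForm G) {i : ι}
    {c φ : Fin m → F} (h : φ ⬝ᵥ c = 0) (hc : c ≠ 0) (hφ : φ ≠ 0) (hr : root i c φ ∈ gsim ι G) :
    ∃ s : F, s ≠ 0 ∧ φ = s • (G *ᵥ c) := by
  obtain ⟨μ, -, he⟩ := mem_gsim.mp hr
  rw [root, embG_val, emb_eq_kr, gram_eq_kr G i, kr_transpose, transpose_one, kr_mul, kr_mul,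
    Matrix.one_mul, Matrix.mul_one, ← kr_smul_left] at he
  have hJ : gram {j // j ≠ i} G ≠ 0 := by
    intro h0
    have : Nonempty ({j // j ≠ i} → Fin m) := ⟨fun _ => 0⟩
    have := gram_det_unit (ι := {j // j ≠ i}) hG.det
    rw [h0, det_zero] at this
    exact not_isUnit_zero this
  have hT := kr_right_injective hJ he
  have key : ∀ x y, om G x y + (φ ⬝ᵥ y) * om G x c + (φ ⬝ᵥ x) * om G c y = μ * om G x y := fun x y => by
    have h2 := congrArg (fun A => x ⬝ᵥ A *ᵥ y) hT
    simp only [smul_mulVec, dotProduct_smul, smul_eq_mul] at h2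
    rw [← mulVec_mulVec, ← mulVec_mulVec, dotProduct_mulVec, vecMul_transpose, tv_mulVec h, tv_mulVec h] at h2
    change om G (x + (φ ⬝ᵥ x) • c) (y + (φ ⬝ᵥ y) • c) = μ * om G x y at h2
    rw [om_add_left, om_add_right, om_add_right, om_smul_left, om_smul_left, om_smul_right, om_smul_right,
      hG.self c] at h2
    linear_combination h2
  obtain ⟨d, hd⟩ := hG.exists_partner hc
  have hcd : om G c d = -1 := by rw [hG.skew, hd]
  have hμ : μ = 1 := by
    have h1 := key c d
    rw [h, hG.self, hcd] at h1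
    linear_combination h1
  refine ⟨φ ⬝ᵥ d, fun h0 => hφ (dotProduct_eq_zero _ fun y => ?_), funext fun q => ?_⟩
  · have h1 := key d y
    rw [hμ, hd, h0] at h1
    linear_combination h1
  · have h1 := key d (Pi.single q 1)
    rw [hμ, hd, dotProduct_single, mul_one] at h1
    have h2 : om G c (Pi.single q 1) = -(G *ᵥ c) q := by
      rw [hG.skew, om, single_dotProduct, one_mul]
    rw [h2] at h1
    rw [Pi.smul_apply, smul_eq_mul]
    linear_combination h1

/-- An overgroup of the symplectic factors inside the similitudes, without fused blocks. -/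
structure Rigid (G : Matrix (Fin m) (Fin m) F) (M : Subgroup (GL (ι → Fin m) F)) : Prop where
  four : 4 ≤ m
  form : SpForm G
  sim : M ≤ gsim ι G
  factors : HasFactors G M
  noFusion : ∀ y ∈ M, ∀ (i j : ι) (c c' : Fin m → F), c ≠ 0 → c' ≠ 0 →
    (block i c).map (Matrix.mulVecLin (y : Matrix (ι → Fin m) (ι → Fin m) F)) ≤ block j c' →
    y ∈ wreath ι m F

variable [Finite F] {p : ℕ} [Fact p.Prime] [CharP F p] {G : Matrix (Fin m) (Fin m) F}
  {M : Subgroup (GL (ι → Fin m) F)}

theorem isPGroup_zpowers_root [NeZero m] {i : ι} {c φ : Fin m → F} (h : φ ⬝ᵥ c = 0) :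
    IsPGroup p (Subgroup.zpowers (root i c φ)) := by
  rintro ⟨_, k, rfl⟩
  refine ⟨1, Subtype.ext ?_⟩
  show (root i c φ ^ k) ^ (p ^ 1) = 1
  rw [pow_one, ← zpow_natCast, ← _root_.zpow_mul, mul_comm, _root_.zpow_mul, zpow_natCast, root_pow h,
    _root_.one_zpow]

namespace Rigid

variable (hM : Rigid G M)

include hM

theorem two_le : 2 ≤ m := by have := hM.four; omega

theorem three : 3 ≤ m := by have := hM.four; omega

theorem neZero : NeZero m := ⟨by have := hM.four; omega⟩

/-- The root with centre `c`. -/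
theorem root_mem (i : ι) (c : Fin m → F) : root i c (G *ᵥ c) ∈ M := by
  have := hM.factors.rt_mem hM.form i 1 c
  rwa [rt_eq_root, one_smul] at this

/-- A root conjugated to a root gives a fused block. -/
theorem mem_of_conj_eq_root {y : GL (ι → Fin m) F} (hy : y ∈ M) {i j : ι} {c φ c' φ' : Fin m → F}
    (h : φ ⬝ᵥ c = 0) (hc : c ≠ 0) (hφ : φ ≠ 0) (h' : φ' ⬝ᵥ c' = 0) (hc' : c' ≠ 0) (hφ' : φ' ≠ 0)
    (he : y * root i c φ * y⁻¹ = root j c' φ') : y ∈ wreath ι m F := by
  refine hM.noFusion y hy i j c c' hc hc' ?_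
  rw [block_eq_range hφ, block_eq_range hφ', ← root_sub_one h, ← root_sub_one h']
  rintro _ ⟨_, ⟨w, rfl⟩, rfl⟩
  refine ⟨(y : Matrix (ι → Fin m) (ι → Fin m) F) *ᵥ w, ?_⟩
  simp only [mulVecLin_apply]
  rw [← he, conj_sub_one, mulVec_mulVec, mul_assoc, Units.inv_mul, mul_one, mulVec_mulVec]

/-- A root conjugated into the wreath group gives a fused block. -/
theorem mem_of_conj_root {y : GL (ι → Fin m) F} (hy : y ∈ M) {i : ι} {c φ : Fin m → F} (h : φ ⬝ᵥ c = 0)
    (hc : c ≠ 0) (hφ : φ ≠ 0) (hyr : y * root i c φ * y⁻¹ ∈ wreath ι m F) : y ∈ wreath ι m F := by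
  obtain ⟨j, c', φ', hc', hφ', h', he⟩ := classify4 hM.four hyr (conj_quadratic (root_quadratic h))
    (by rw [rank_conj_sub_one', root_rank h hc hφ])
  exact hM.mem_of_conj_eq_root hy h hc hφ h' hc' hφ' he

/-- A Sylow subgroup of `M` lies in the wreath group. -/
theorem exists_sylow [Nonempty ι] : ∃ P : Subgroup (GL (ι → Fin m) F), P ≤ wreath ι m F ∧
    ∀ X : Subgroup (GL (ι → Fin m) F), X ≤ M → IsPGroup p X → ∃ g ∈ M, ∀ x ∈ X, g * x * g⁻¹ ∈ P := by
  classical
  have := hM.neZero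
  obtain ⟨i⟩ := ‹Nonempty ι›
  set c : Fin m → F := Pi.single 0 1 with hcdef
  have hc : c ≠ 0 := by simp [c]
  set φ := G *ᵥ c with hφdef
  have h : φ ⬝ᵥ c = 0 := hM.form.axis_self c
  have hφ : φ ≠ 0 := hM.form.axis_ne hc
  set r := root i c φ with hr
  set L := M ⊓ wreath ι m F with hL
  have hrL : Subgroup.zpowers r ≤ L := Subgroup.zpowers_le.mpr ⟨hM.root_mem i c, root_mem_wreath i c φ⟩
  obtain ⟨P₀, hP₀⟩ := ((isPGroup_zpowers_root (p := p) (i := i) h).comap_subtype (K := L)).exists_le_sylow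
  set P : Subgroup (GL (ι → Fin m) F) := (P₀ : Subgroup L).map L.subtype with hP
  have hPp : IsPGroup p P := P₀.2.map _
  have hPL : P ≤ L := Subgroup.map_subtype_le _
  have hrP : r ∈ P := ⟨⟨r, hrL (Subgroup.mem_zpowers r)⟩, hP₀ (Subgroup.mem_zpowers r), rfl⟩
  have hmaxL : ∀ R : Subgroup (GL (ι → Fin m) F), IsPGroup p R → P ≤ R → R ≤ L → R = P := by
    intro R hR hPR hRL
    have h1 : IsPGroup p (R.subgroupOf L) := hR.comap_subtype
    have h2 : (P₀ : Subgroup L) ≤ R.subgroupOf L := fun z hz => hPR ⟨z, hz, rfl⟩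
    have h3 : R.subgroupOf L = (P₀ : Subgroup L) := P₀.3 h1 h2
    rw [hP, ← h3, Subgroup.map_subgroupOf_eq_of_le hRL]
  have hmax : ∀ Q : Subgroup (GL (ι → Fin m) F), Q ≤ M → IsPGroup p Q → ¬ P < Q := by
    intro Q hQM hQp hPQ
    have : Finite Q := Subtype.finite
    have hnil := hQp.isNilpotent
    have hlt : P.subgroupOf Q < Subgroup.normalizer ((P.subgroupOf Q : Subgroup Q) : Set Q) := by
      refine Group.normalizerCondition_of_isNilpotent (P.subgroupOf Q) (lt_top_iff_ne_top.mpr fun h => ?_)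
      exact hPQ.not_ge (Subgroup.subgroupOf_eq_top.mp h)
    obtain ⟨⟨y, hyQ⟩, hyN, hyP⟩ := SetLike.exists_of_lt hlt
    have hnorm : ∀ z ∈ P, y * z * y⁻¹ ∈ P := fun z hz =>
      (Subgroup.mem_normalizer_iff.mp hyN ⟨z, hPQ.le hz⟩).mp hz
    have hyW := hM.mem_of_conj_root (hQM hyQ) h hc hφ (hPL (hnorm r hrP)).2
    have hle : Subgroup.closure (insert y (P : Set (GL (ι → Fin m) F))) ≤ Q ⊓ L :=
      (Subgroup.closure_le _).mpr (Set.insert_subset_iff.mpr
        ⟨⟨hyQ, hQM hyQ, hyW⟩, fun z hz => ⟨hPQ.le hz, hPL hz⟩⟩)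
    have hR := hmaxL _ (hQp.to_le (hle.trans inf_le_left))
      (fun z hz => Subgroup.subset_closure (Set.mem_insert_of_mem _ hz)) (hle.trans inf_le_right)
    exact hyP (hR ▸ Subgroup.subset_closure (Set.mem_insert _ _) : y ∈ P)
  have hPM : P ≤ M := fun x hx => (hPL hx).1
  let S₁ : Sylow p M := ⟨P.subgroupOf M, hPp.comap_subtype, by
    intro R hR hle
    have h2 : P ≤ R.map M.subtype := by
      rw [← Subgroup.map_subgroupOf_eq_of_le hPM]; exact Subgroup.map_mono hle
    have h4 : R.map M.subtype = P :=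
      (eq_of_le_of_not_lt h2 (hmax _ (Subgroup.map_subtype_le _) (hR.map _))).symm
    show R = P.subgroupOf M
    rw [← h4, Subgroup.subgroupOf, Subgroup.comap_map_eq_self_of_injective M.subtype_injective]⟩
  refine ⟨P, fun x hx => (hPL hx).2, fun X hXM hXp => ?_⟩
  obtain ⟨S₂, hS₂⟩ := (hXp.comap_subtype (K := M)).exists_le_sylow
  obtain ⟨g, hg⟩ := MulAction.exists_smul_eq M S₂ S₁
  refine ⟨g, g.2, fun x hx => ?_⟩
  have : (g * ⟨x, hXM hx⟩ * g⁻¹ : M) ∈ (S₁ : Subgroup M) := by
    rw [← hg, Sylow.coe_subgroup_smul]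
    exact ⟨⟨x, hXM hx⟩, hS₂ hx, rfl⟩
  exact this

/-- `p`-subgroups containing a root lie in the wreath group. -/
theorem le_of_root_mem {X : Subgroup (GL (ι → Fin m) F)} (hXM : X ≤ M) (hX : IsPGroup p X) {i : ι}
    {c φ : Fin m → F} (h : φ ⬝ᵥ c = 0) (hc : c ≠ 0) (hφ : φ ≠ 0) (hr : root i c φ ∈ X) :
    X ≤ wreath ι m F := by
  have : Nonempty ι := ⟨i⟩
  obtain ⟨P, hPW, hP⟩ := hM.exists_sylow (p := p)
  obtain ⟨g, hgM, hg⟩ := hP X hXM hX
  have hgW := hM.mem_of_conj_root hgM h hc hφ (hPW (hg _ hr))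
  intro x hx
  have := (wreath ι m F).mul_mem ((wreath ι m F).mul_mem ((wreath ι m F).inv_mem hgW) (hPW (hg x hx))) hgW
  simpa [mul_assoc] using this

/-- Control of fusion on degenerate vectors. -/
theorem exists_mem_of_deg {u v : (ι → Fin m) → F} (hu : Deg u) (hv : Deg v) {y : GL (ι → Fin m) F}
    (hy : y ∈ M) (huv : (y : Matrix (ι → Fin m) (ι → Fin m) F) *ᵥ u = v) :
    ∃ l ∈ M, l ∈ wreath ι m F ∧ (l : Matrix (ι → Fin m) (ι → Fin m) F) *ᵥ u = v := by
  obtain ⟨p, hp'⟩ := CharP.exists F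
  have : Fact p.Prime := ⟨CharP.char_is_prime F p⟩
  classical
  have := hM.neZero
  obtain ⟨i, φ, hφ, hiu⟩ := hu
  obtain ⟨j, ψ, hψ, hjv⟩ := hv
  obtain ⟨c, rfl⟩ := hM.form.exists_axis φ
  obtain ⟨e, rfl⟩ := hM.form.exists_axis ψ
  have hc : c ≠ 0 := fun h0 => hφ (by rw [h0, mulVec_zero])
  have he : e ≠ 0 := fun h0 => hψ (by rw [h0, mulVec_zero])
  have hfix : ∀ (l : ι) (x : Fin m → F) (w : (ι → Fin m) → F), ctr l (G *ᵥ x) w = 0 →
      root l x (G *ᵥ x) ∈ fixVec w := by
    intro l x w hw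
    rw [mem_fixVec, root_val (hM.form.axis_self x), add_mulVec, one_mulVec, add_eq_left,
      emb_vecMulVec_mulVec, hw]
    funext a; simp
  set rv := root j e (G *ᵥ e) with hrv
  set ru := y * root i c (G *ᵥ c) * y⁻¹ with hru
  set Mv := M ⊓ fixVec v with hMv
  have hEv : rv ∈ Mv := ⟨hM.root_mem j e, hfix j e v hjv⟩
  have hEu : ru ∈ Mv := by
    refine ⟨M.mul_mem (M.mul_mem hy (hM.root_mem i c)) (M.inv_mem hy), ?_⟩
    show ((y * root i c (G *ᵥ c) * y⁻¹ : GL (ι → Fin m) F) : Matrix (ι → Fin m) (ι → Fin m) F) *ᵥ v = v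
    have hyv : ((y⁻¹ : GL (ι → Fin m) F) : Matrix (ι → Fin m) (ι → Fin m) F) *ᵥ v = u := by
      rw [← huv, mulVec_mulVec, Units.inv_mul, one_mulVec]
    rw [Units.val_mul, Units.val_mul, ← mulVec_mulVec, ← mulVec_mulVec, hyv,
      mem_fixVec.mp (hfix i c u hiu), huv]
  have hpu : IsPGroup p (Subgroup.zpowers ru) := by
    rintro ⟨_, k, rfl⟩
    refine ⟨1, Subtype.ext ?_⟩
    show (ru ^ k) ^ (p ^ 1) = 1
    rw [pow_one, ← zpow_natCast, ← _root_.zpow_mul, mul_comm, _root_.zpow_mul, zpow_natCast, hru, conj_pow,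
      root_pow (hM.form.axis_self c), mul_one, mul_inv_cancel, _root_.one_zpow]
  obtain ⟨S, hS⟩ := ((isPGroup_zpowers_root (p := p) (i := j) (hM.form.axis_self e)).comap_subtype
    (K := Mv)).exists_le_sylow
  obtain ⟨S', hS'⟩ := (hpu.comap_subtype (K := Mv)).exists_le_sylow
  have hSW : (S : Subgroup Mv).map Mv.subtype ≤ wreath ι m F :=
    hM.le_of_root_mem ((Subgroup.map_subtype_le _).trans inf_le_left) (S.2.map _) (hM.form.axis_self e) he hψ
      ⟨⟨rv, hEv⟩, hS (Subgroup.mem_zpowers rv), rfl⟩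
  obtain ⟨k, hk⟩ := MulAction.exists_smul_eq Mv S' S
  refine ⟨(k : GL (ι → Fin m) F) * y, M.mul_mem k.2.1 hy,
    hM.mem_of_conj_root (i := i) (M.mul_mem k.2.1 hy) (hM.form.axis_self c) hc hφ (hSW ?_), ?_⟩
  · refine ⟨k * ⟨_, hEu⟩ * k⁻¹, ?_, ?_⟩
    · rw [← hk]
      show _ ∈ ((k • S' : Sylow p Mv) : Subgroup Mv)
      rw [Sylow.coe_subgroup_smul]
      exact ⟨⟨_, hEu⟩, hS' (Subgroup.mem_zpowers ru), rfl⟩
    · simp [hru, mul_assoc]
  · rw [Units.val_mul, ← mulVec_mulVec, huv]
    exact k.2.2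

/-- Elements commuting with a singular non-zero matrix of one factor lie in the wreath group. -/
theorem mem_of_comm_emb {k : GL (ι → Fin m) F} (hk : k ∈ M) {i : ι} {N : Matrix (Fin m) (Fin m) F}
    (hN : N ≠ 0) {φ : Fin m → F} (hφ : φ ≠ 0) (hφN : φ ᵥ* N = 0)
    (hcomm : (k : Matrix (ι → Fin m) (ι → Fin m) F) * emb i N = emb i N * (k : Matrix (ι → Fin m) (ι → Fin m) F)) :
    k ∈ wreath ι m F := by
  obtain ⟨p, hp'⟩ := CharP.exists F
  have : Fact p.Prime := ⟨CharP.char_is_prime F p⟩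
  have := hM.neZero
  have hm2 := hM.two_le
  obtain ⟨d, hd⟩ : ∃ d, N *ᵥ d ≠ 0 := by
    by_contra hcon
    push Not at hcon
    exact hN (Matrix.ext_of_mulVec_single fun j => by rw [hcon, zero_mulVec])
  set c := N *ᵥ d with hc
  set K := (k : Matrix (ι → Fin m) (ι → Fin m) F)
  -- the image of `N` consists of degenerate vectors
  have hX : ∀ w, ctr i φ (emb i N *ᵥ w) = 0 := fun w => by
    rw [← emb_vecMulVec_eq_zero (c := c) hd, mulVec_mulVec, ← emb_mul, vecMulVec_mul, hφN,
      vecMulVec_zero, emb_zero, zero_mulVec]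
  -- pure tensors of the block go to pure tensors in the image
  have himg : ∀ xs : ι → Fin m → F, xs i = c → ∃ w, K *ᵥ pten xs = emb i N *ᵥ w := fun xs hxs => by
    refine ⟨K *ᵥ pten (Function.update xs i d), ?_⟩
    rw [mulVec_mulVec, ← hcomm, ← mulVec_mulVec, emb_mulVec_pten, Function.update_idem, Function.update_self,
      ← hc, ← hxs, Function.update_eq_self]
  have hpure : ∀ xs : ι → Fin m → F, xs i = c → (∀ l, xs l ≠ 0) → IsPure (K *ᵥ pten xs) := fun xs hxs hx0 => by
    obtain ⟨w, hw⟩ := himg xs hxs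
    obtain ⟨l, -, ⟨τ, hτ⟩, hl⟩ := hM.exists_mem_of_deg
      (Deg.of_mem_block hm2 (pten_mem_block (k := 1) (c := c) (by rw [one_smul, hxs])))
      (show Deg (K *ᵥ pten xs) from ⟨i, φ, hφ, by rw [hw]; exact hX w⟩) hk rfl
    exact hl ▸ hτ.map_pure ⟨xs, hx0, rfl⟩
  -- the component in the factor `i` is constant along a change of another factor
  have hstep : ∀ xs : ι → Fin m → F, xs i = c → (∀ l, xs l ≠ 0) → ∀ l, l ≠ i → ∀ z, ∀ c' : Fin m → F,
      K *ᵥ pten xs ∈ block i c' → z ≠ 0 → K *ᵥ pten (Function.update xs l z) ∈ block i c' := by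
    intro xs hxs hx0 l hl z c' hmem hz
    let f : (Fin m → F) →ₗ[F] ((ι → Fin m) → F) :=
      { toFun := fun w => K *ᵥ pten (Function.update xs l w)
        map_add' := fun a b => by rw [pten_update_add, mulVec_add]
        map_smul' := fun a b => by rw [pten_update_smul, mulVec_smul]; rfl }
    obtain ⟨l', y, hy, hto, honto⟩ := exists_factor_of_pure_family hm2 f fun w hw => by
      refine hpure _ (by rw [Function.update_of_ne hl.symm, hxs]) fun j => ?_
      rcases eq_or_ne j l with rfl | hj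
      · rwa [Function.update_self]
      · rw [Function.update_of_ne hj]; exact hx0 j
    have hy1 : ∀ j w, w ≠ 0 → ∀ q, Function.update y j w q ≠ 0 := fun j w hw q => by
      rcases eq_or_ne q j with rfl | hq
      · rwa [Function.update_self]
      · rw [Function.update_of_ne hq]; exact hy q
    have hone : (1 : Fin m → F) ≠ 0 := fun h => one_ne_zero (congrFun h ⟨0, by omega⟩)
    have hli : l' ≠ i := by
      rintro rfl
      obtain ⟨e, he⟩ := exists_dot_eq_one hφ
      obtain ⟨w, hw⟩ := honto e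
      obtain ⟨w', hw'⟩ := himg (Function.update xs l w) (by rw [Function.update_of_ne hl.symm, hxs])
      have h0 := hX w'
      rw [← hw', show K *ᵥ pten (Function.update xs l w) = f w from rfl, hw, ctr_pten, Function.update_self,
        dotProduct_comm, he, one_smul] at h0
      exact pten_ne_zero (fun q => by
        rcases eq_or_ne q l' with rfl | hq
        · rwa [Function.update_self]
        · rw [Function.update_of_ne hq, Function.update_of_ne hq]; exact hy q) h0
    obtain ⟨z₁, hz₁⟩ := hto (xs l)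
    have hz₁' : K *ᵥ pten xs = pten (Function.update y l' z₁) := by
      rw [← hz₁]
      show _ = K *ᵥ pten (Function.update xs l (xs l))
      rw [Function.update_eq_self]
    have hz₁0 : z₁ ≠ 0 := by
      intro h0
      refine pten_ne_zero hx0 ((mulVec_injective_iff_isUnit.mpr k.isUnit) ?_)
      show K *ᵥ pten xs = K *ᵥ 0
      rw [mulVec_zero, hz₁', h0, pten_eq_zero]; exact ⟨l', Function.update_self _ _ _⟩
    have hperp : ∀ χ, χ ⬝ᵥ c' = 0 → χ ⬝ᵥ y i = 0 := fun χ hχ => by
      have h0 := mem_block.mp hmem χ hχ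
      rw [hz₁', ctr_pten, Function.update_of_ne hli.symm] at h0
      refine (smul_eq_zero.mp h0).resolve_right (pten_ne_zero fun q => ?_)
      rcases eq_or_ne q i with rfl | hq
      · rwa [Function.update_self]
      · rw [Function.update_of_ne hq]; exact hy1 l' z₁ hz₁0 q
    obtain ⟨z', hz'⟩ := hto z
    show f z ∈ block i c'
    rw [hz']
    exact fun χ hχ => by rw [ctr_pten, Function.update_of_ne hli.symm, hperp χ hχ, zero_smul]
  -- all changes
  obtain ⟨c', hc', hall⟩ : ∃ c', c' ≠ 0 ∧ ∀ xs : ι → Fin m → F, xs i = c → (∀ l, xs l ≠ 0) →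
      K *ᵥ pten xs ∈ block i c' := by
    let x₀ : ι → Fin m → F := fun _ => c
    obtain ⟨y₀, hy₀, hy₀e⟩ := hpure x₀ rfl fun _ => hd
    refine ⟨y₀ i, hy₀ i, fun xs hxs hx0 => ?_⟩
    have hind : ∀ S : Finset ι, K *ᵥ pten (fun j => if j ∈ S then xs j else c) ∈ block i (y₀ i) := by
      intro S
      induction S using Finset.induction with
      | empty =>
        rw [show (fun j => if j ∈ (∅ : Finset ι) then xs j else c) = x₀ by funext j; simp [x₀], hy₀e]
        exact pten_mem_block (k := 1) (one_smul _ _).symm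
      | insert l S hlS ih =>
        rcases eq_or_ne l i with rfl | hl
        · convert ih using 3
          funext j
          rcases eq_or_ne j l with rfl | hj
          · simp [hlS, hxs]
          · simp [hj]
        · have := hstep _ (by beta_reduce; split_ifs <;> simp [hxs]) (fun q => by
            beta_reduce; split_ifs
            · exact hx0 q
            · exact hd) l hl (xs l) _ ih (hx0 l)
          convert this using 3
          funext j
          rcases eq_or_ne j l with rfl | hj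
          · simp
          · simp [hj]
    simpa using hind Finset.univ
  refine hM.noFusion k hk i i c c' hd hc' ?_
  rw [Submodule.map_le_iff_le_comap]
  exact block_le_of_pten hd fun xs hxs hx0 => hall xs hxs hx0

end Rigid

end CfsgLib.TWSp
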