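import Cfsg.Agent.TensorWreathSp.LongShort

/-!
# The operator parameters exhaust the matrix algebra

The right stabiliser of the short parameters is an invariant algebra; a non-scalar long parameter
puts the full algebra of one factor into it, and the factor permutations spread this to all factors.
-/

set_option autoImplicit false
set_option linter.unusedSectionVars false

namespace CfsgLib.TWSp

open Matrix CfsgLib.MaxSub CfsgLib.TWreath

variable {F : Type*} [Field F] [Finite F] {ι : Type} [Fintype ι] [DecidableEq ι] {m : ℕ}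
  {G : Matrix (Fin m) (Fin m) F} {M : Subgroup (GL (ι → Fin m) F)}

theorem exists_indep_ortho_four {G : Matrix (Fin m) (Fin m) F} (hG : SpForm G) (hm : 6 ≤ m)
    {c e f : Fin m → F} {d : Fin m → F} (hd : om G d c = 1) :
    ∃ g, om G g c = 0 ∧ om G g e = 0 ∧ om G g f = 0 ∧ ∀ k : F, k • c ≠ g := by
  let fn : (Fin m → F) →ₗ[F] (Fin 4 → F) :=
    { toFun := fun x => ![(G *ᵥ c) ⬝ᵥ x, (G *ᵥ e) ⬝ᵥ x, (G *ᵥ f) ⬝ᵥ x, (G *ᵥ d) ⬝ᵥ x]
      map_add' := fun x y => by funext q; fin_cases q <;> simp [dotProduct_add]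
      map_smul' := fun k x => by funext q; fin_cases q <;> simp [dotProduct_smul] }
  obtain ⟨g, hg, hg0⟩ := Submodule.exists_mem_ne_zero_of_ne_bot (LinearMap.ker_ne_bot_of_finrank_lt (f := fn)
    (by rw [Module.finrank_fin_fun, Module.finrank_fin_fun]; omega))
  have k1 : om G g c = 0 := by rw [← axis_dot]; exact congrFun hg 0
  have k2 : om G g e = 0 := by rw [← axis_dot]; exact congrFun hg 1
  have k3 : om G g f = 0 := by rw [← axis_dot]; exact congrFun hg 2
  have k4 : om G g d = 0 := by rw [← axis_dot]; exact congrFun hg 3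
  refine ⟨g, k1, k2, k3, fun k hk => hg0 ?_⟩
  rw [← hk, om_smul_left, hG.skew d c, hd, mul_neg_one, neg_eq_zero] at k4
  rw [← hk, k4, zero_smul]

theorem adj_emb (hG : SpForm G) (k : ι) (A : Matrix (Fin m) (Fin m) F) :
    adj (gram ι G) (emb k A) = emb k (adj G A) := by
  rw [emb, adj_Pt hG, emb]
  congr 1
  funext q
  rcases eq_or_ne q k with rfl | hk
  · simp
  · simp [hk, adj_one hG.det]

section long

variable (hS : LongSetting G M)

include hS

/-- The long parameters as a space. -/
def LongSetting.longSub (i : ι) : Submodule F (Matrix (Rest i m) (Rest i m) F) where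
  carrier := longSet G M i
  add_mem' := hS.long_add
  zero_mem' := fun c => by rw [kr_zero_right, add_zero]; exact InM.one
  smul_mem' := fun k _ hb => hS.long_smul hb k

theorem LongSetting.longSub_inv (i : ι) : InvSub G (hS.longSub i) := fun l _ hh _ hb => hS.long_conj l hh hb

end long

variable (hS : EndSetting G M)

include hS

/-- Products of short and long parameters. -/
theorem EndSetting.short_mul_long [NeZero m] {i : ι} {a b : Matrix (Rest i m) (Rest i m) F}
    (ha : a ∈ shortSet G M i) (hb : b ∈ longSet G M i) :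
    a * b ∈ shortSet G M i ∧ -(a * b * adj (gram {j // j ≠ i} G) a) ∈ longSet G M i := by
  have hG := hS.sp
  set c : Fin m → F := Pi.single 0 1
  have hc : c ≠ 0 := by simp [c]
  obtain ⟨e, hce, hei⟩ := hG.exists_ortho_indep (by have := hS.four; omega) (c := c)
  obtain ⟨f, hf1, hf2⟩ := exists_dot_eq_zero_one (hG.axis_indep hei)
  rw [axis_dot] at hf1 hf2
  have hef : om G e (-f) = 1 := by rw [← neg_one_smul F f, om_smul_right, hG.skew, hf2]; ring
  set f' := -f
  have hfc : om G f' c = 0 := by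
    rw [show f' = (-1 : F) • f from (neg_one_smul F f).symm, om_smul_left, hf1, mul_zero]
  have hcf : om G c f' = 0 := hG.axis_zero_iff.mp hfc
  have hfi : ∀ k : F, k • c ≠ f' := fun k hk => by
    have h1 := hef
    rw [← hk, om_smul_right, hG.axis_zero_iff.mp hce, mul_zero] at h1
    exact zero_ne_one h1
  have hb' := hS.long_adj hb
  set z := a * b
  set y := -(a * b * adj (gram {j // j ≠ i} G) a)
  have hC : InM M (1 + XX G i c f' z + kr i (cen G c) y) := hS.short_long_comm hce hfc hef ha hb hb'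
  have hPP : ∀ {g : Fin m → F}, om G c g = 0 → XX G i c g z * XX G i c g z = 0 := fun {g} hg =>
    XX_mul hG i hg hg (hG.self g) z z
  have hQQ : kr i (cen G c) y * kr i (cen G c) y = 0 := kr_cen_mul hG i (hG.self c) y y
  have hz : z ∈ shortSet G M i := by
    by_cases h2 : (2 : F) = 0
    · obtain ⟨d, hd⟩ := hG.exists_partner hc
      obtain ⟨g, hgc, hge, hgf, hgi⟩ := exists_indep_ortho_four hG (hS.six h2) (e := e) (f := f') hd
      have hcg : om G c g = 0 := hG.axis_zero_iff.mp hgc
      have hC2 := hS.short_long_comm (c := c) (e := e) (f := f' + g) hce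
        (by rw [om_add_left, hfc, hgc, add_zero])
        (by rw [om_add_right, hef, hG.axis_zero_iff.mp hge, add_zero]) ha hb hb'
      change InM M (1 + XX G i c (f' + g) z + kr i (cen G c) y) at hC2
      refine hS.short_of_one hcg hgi hc ?_
      have hinv : InM M (1 - XX G i c f' z - kr i (cen G c) y) := hC.inv (by
        obtain ⟨q1, q2⟩ := cen_kr_mul hG i hcf z y
        simp only [mul_sub, add_mul, mul_one, one_mul, hPP hcf, hQQ, q1, q2]
        abel)
      have := hinv.mul hC2
      convert this using 1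
      obtain ⟨q1, q2⟩ := cen_kr_mul hG i hcf z y
      obtain ⟨q3, q4⟩ := cen_kr_mul hG i hcg z y
      have q5 : XX G i c f' z * XX G i c g z = 0 := XX_mul hG i hcf hcg (hG.axis_zero_iff.mp hgf) z z
      simp only [XX_split, mul_add, sub_mul, mul_one, one_mul, hPP hcf, hQQ, q1, q2, q3, q5]
      abel
    · obtain ⟨d, hd1, hd2⟩ := exists_dot_eq_zero_one (a := G *ᵥ f') (b := G *ᵥ c) (hG.axis_indep fun k hk => by
        rcases eq_or_ne k 0 with rfl | hk0
        · exact hc (by rw [← hk, zero_smul])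
        · exact hfi k⁻¹ (by rw [← hk, smul_smul, inv_mul_cancel₀ hk0, one_smul]))
      rw [axis_dot] at hd1 hd2
      obtain ⟨T, hT, hTc, hTfix⟩ := exists_torus hG hd2 (l := (-1 : F)) (neg_ne_zero.mpr one_ne_zero)
      have hTf : (T : Matrix (Fin m) (Fin m) F) *ᵥ f' = f' := hTfix f' hfc (hG.axis_zero_iff.mp hd1)
      have hC' := hS.inM_emb (i := i) hC hT
      rw [add_assoc, conj_one_add, mul_add, add_mul, XX, mul_add, add_mul, conj_kr, conj_kr, conj_kr, conj_cen hT,
        mul_vecMulVec, vecMulVec_mul, mul_vecMulVec, vecMulVec_mul, vecMul_inv_of_mem_spG hT,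
        vecMul_inv_of_mem_spG hT, hTc, hTf] at hC'
      have e1 : cen G ((-1 : F) • c) = cen G c := by
        rw [cen, cen, mulVec_smul, smul_vecMulVec, vecMulVec_smul, smul_smul]; simp
      rw [e1, mulVec_smul, smul_vecMulVec, vecMulVec_smul, kr_smul_left, kr_smul_left, ← smul_add,
        neg_one_smul, ← XX, ← sub_eq_neg_add, ← add_sub_assoc] at hC'
      obtain ⟨q1, q2⟩ := cen_kr_mul hG i hcf z y
      have hinv : InM M (1 - kr i (cen G c) y + XX G i c f' z) := hC'.inv (by
        simp only [mul_add, mul_sub, add_mul, sub_mul, mul_one, one_mul, hPP hcf, hQQ, q1, q2]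
        abel)
      have h3 := hC.mul hinv
      have h4 : z + z ∈ shortSet G M i := hS.short_of_one hcf hfi hc (by
        rw [XX_add]
        convert h3 using 1
        simp only [mul_add, mul_sub, add_mul, mul_one, one_mul, hPP hcf, hQQ, q1, q2]
        abel)
      have := hS.short_smul h4 (2 : F)⁻¹
      rwa [← two_smul F, smul_smul, inv_mul_cancel₀ h2, one_smul] at this
  refine ⟨hz, hS.long_of_one hc ?_⟩
  obtain ⟨q1, q2⟩ := cen_kr_mul hG i hcf z y
  have h5 : InM M (1 - XX G i c f' z) := (hz c f' hcf).inv (by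
    rw [add_mul, one_mul, mul_sub, mul_one, hPP hcf, sub_zero, sub_add_cancel])
  convert h5.mul hC using 1
  simp only [mul_add, sub_mul, mul_one, one_mul, hPP hcf, q2]
  abel

/-- The short parameters as a space. -/
def EndSetting.shortSub (i : ι) : Submodule F (Matrix (Rest i m) (Rest i m) F) where
  carrier := shortSet G M i
  add_mem' := hS.short_add
  zero_mem' := fun c e _ => by rw [XX_zero_right, add_zero]; exact InM.one
  smul_mem' := fun k _ hb => hS.short_smul hb k

/-- The right stabiliser of the short parameters. -/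
def EndSetting.rightAlg (i : ι) : Subalgebra F (Matrix (Rest i m) (Rest i m) F) where
  carrier := {z | ∀ a ∈ shortSet G M i, a * z ∈ shortSet G M i}
  mul_mem' := fun {y z} hy hz a ha => by rw [← mul_assoc]; exact hz _ (hy a ha)
  one_mem' := fun a ha => by rw [mul_one]; exact ha
  add_mem' := fun {y z} hy hz a ha => by rw [mul_add]; exact hS.short_add (hy a ha) (hz a ha)
  zero_mem' := fun a _ => by rw [mul_zero]; exact (hS.shortSub i).zero_mem
  algebraMap_mem' := fun k a ha => by
    rw [Algebra.algebraMap_eq_smul_one, mul_smul_comm, mul_one]; exact hS.short_smul ha k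

theorem EndSetting.mem_rightAlg {i : ι} {z : Matrix (Rest i m) (Rest i m) F} :
    z ∈ hS.rightAlg i ↔ ∀ a ∈ shortSet G M i, a * z ∈ shortSet G M i := Iff.rfl

theorem EndSetting.rightAlg_inv (i : ι) : InvAlg G (hS.rightAlg i) := by
  intro l h hh z hz a ha
  set H := embG (F := F) (m := m) l h
  have h1 := hS.short_conj l ((spG G).inv_mem hh) ha
  rw [map_inv, inv_inv] at h1
  have h2 := hS.short_conj l hh (hz _ h1)
  simp only [← mul_assoc, Units.mul_inv_cancel_left] at h2 ⊢
  rwa [Units.mul_inv, one_mul] at h2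

theorem EndSetting.long_mem_rightAlg [NeZero m] {i : ι} {b : Matrix (Rest i m) (Rest i m) F}
    (hb : b ∈ longSet G M i) : b ∈ hS.rightAlg i := fun _ ha => (hS.short_mul_long ha hb).1

theorem EndSetting.rightAlg_le_short [NeZero m] {i : ι} {z : Matrix (Rest i m) (Rest i m) F}
    (hz : z ∈ hS.rightAlg i) : z ∈ shortSet G M i := by
  have := hz 1 (hS.long_le_short (hS.one_long i))
  rwa [one_mul] at this

/-- All operators of the factor `l` are available at the factor `i`. -/
def EndSetting.Rel (i l : ι) : Prop := ∃ h : l ≠ i, ∀ A, emb (⟨l, h⟩ : {j // j ≠ i}) A ∈ hS.rightAlg i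

/-- A pure long parameter gives related factors. -/
theorem EndSetting.rel_of_pure [NeZero m] {i : ι} {gs : {j // j ≠ i} → Matrix (Fin m) (Fin m) F}
    (hP : Pt gs ∈ longSet G M i) (hty : ∀ k, gs k = 1 ∨ LowType G (gs k)) {l : {j // j ≠ i}} (hl : gs l ≠ 1) :
    hS.Rel i l :=
  ⟨l.2, fun A => emb_mem_of_pure hS.four hS.sp (hS.rightAlg_inv i) (hS.long_mem_rightAlg hP) hty hl A⟩

theorem EndSetting.exists_rel [NeZero m] {i : ι} {b : Matrix (Rest i m) (Rest i m) F} (hb : b ∈ longSet G M i)
    (hns : ∀ s : F, b ≠ s • 1) : ∃ l, hS.Rel i l := by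
  obtain ⟨gs, hP, hty, l, hl⟩ := lowering (by have := hS.four; omega) hS.sp _ {j // j ≠ i} rfl (hS.longSub i)
    (hS.longSub_inv i) b hb hns
  exact ⟨l, hS.rel_of_pure hP hty hl⟩

omit hS in
theorem wedge_lowType (hG : SpForm G) (hm : 3 ≤ m) [NeZero m] :
    ∃ c e, om G c e = 0 ∧ LowType G (wedge G c e) := by
  obtain ⟨e, he, hei⟩ := hG.exists_ortho_indep hm (c := Pi.single 0 1)
  exact ⟨_, e, he, Or.inr ⟨_, e, he, hei, by simp, rfl⟩⟩

/-- A short element with an alternating-symmetrical parameter in the factor `l`. -/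
theorem EndSetting.long_of_short {i l : ι} (h : l ≠ i) {c e : Fin m → F} (hce : om G c e = 0) {f : Fin m → F}
    {a : Matrix (Rest i m) (Rest i m) F} (ha : a ∈ shortSet G M i) {B : Matrix (Rest l m) (Rest l m) F}
    (hadj : adj (gram {j // j ≠ i} G) a = -a)
    (he : kr i (wedge G c e) a = kr l (cen G f) B) : InM M (1 + kr l (cen G f) B) := by
  have := ha c e hce
  rwa [XX, hadj, kr_neg_right, ← sub_eq_add_neg, ← kr_sub_left, ← wedge, he] at this

theorem EndSetting.rel_symm [NeZero m] {i l : ι} (h : hS.Rel i l) : hS.Rel l i := by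
  obtain ⟨hli, hl⟩ := h
  obtain ⟨c, e, hce, hW⟩ := wedge_lowType hS.sp (by have := hS.four; omega)
  have hmem : emb (⟨i, Ne.symm hli⟩ : {j // j ≠ l}) (wedge G c e) ∈ longSet G M l := fun f => by
    refine hS.long_of_short hli hce (hS.rightAlg_le_short (hl (cen G f))) ?_ ?_
    · rw [adj_emb hS.sp, adj_cen hS.sp, ← neg_one_smul F (cen G f), emb_smul, neg_one_smul]
    · rw [← mul_one (wedge G c e), ← one_mul (emb _ (cen G f)), ← kr_mul, ← emb_eq_kr, ← emb_rest,
        emb_comm (Ne.symm hli), emb_eq_kr l, emb_rest l ⟨i, Ne.symm hli⟩, kr_mul, mul_one, one_mul, mul_one]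
  refine hS.rel_of_pure hmem (fun k => ?_) (l := ⟨i, Ne.symm hli⟩) ?_
  · rcases eq_or_ne k ⟨i, Ne.symm hli⟩ with rfl | hk
    · exact Or.inr (by simpa using hW)
    · exact Or.inl (by simp [hk])
  · simpa using hW.ne_one hS.sp

theorem EndSetting.rel_trans [NeZero m] {i l j : ι} (h : hS.Rel i l) (h' : hS.Rel i j) (hlj : l ≠ j) :
    hS.Rel l j := by
  obtain ⟨hli, hl⟩ := h
  obtain ⟨hji, hj⟩ := h'
  obtain ⟨c, e, hce, hW⟩ := wedge_lowType hS.sp (by have := hS.four; omega)
  set I : {k // k ≠ l} := ⟨i, Ne.symm hli⟩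
  set J : {k // k ≠ l} := ⟨j, Ne.symm hlj⟩
  have hJdet : IsUnit (gram {k // k ≠ i} G).det := gram_det_unit hS.sp.det
  have hne : (⟨l, hli⟩ : {k // k ≠ i}) ≠ ⟨j, hji⟩ := fun e => hlj (congrArg Subtype.val e)
  have hmem : emb I (wedge G c e) * emb J (wedge G c e) ∈ longSet G M l := fun f => by
    have hA : emb (⟨l, hli⟩ : {k // k ≠ i}) (cen G f) * emb ⟨j, hji⟩ (wedge G c e) ∈ shortSet G M i :=
      hS.mem_rightAlg.mp (hj (wedge G c e)) _ (hS.rightAlg_le_short (hl (cen G f)))
    refine hS.long_of_short (i := i) (l := l) hli hce (B := emb I (wedge G c e) * emb J (wedge G c e)) hA ?_ ?_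
    · rw [adj_mul hJdet, adj_emb hS.sp, adj_emb hS.sp, adj_cen hS.sp, adj_wedge hS.sp, ← neg_one_smul F (cen G f), emb_smul,
        neg_one_smul, mul_neg, emb_comm hne.symm]
    · have e1 : kr i (wedge G c e) (emb (⟨l, hli⟩ : {k // k ≠ i}) (cen G f) * emb ⟨j, hji⟩ (wedge G c e)) =
          emb i (wedge G c e) * (emb l (cen G f) * emb j (wedge G c e)) := by
        rw [emb_eq_kr i, show emb l (cen G f) = kr i 1 (emb (⟨l, hli⟩ : {k // k ≠ i}) (cen G f)) from emb_rest i ⟨l, hli⟩ _,
          show emb j (wedge G c e) = kr i 1 (emb (⟨j, hji⟩ : {k // k ≠ i}) (wedge G c e)) from emb_rest i ⟨j, hji⟩ _,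
          kr_mul, kr_mul, mul_one, mul_one, one_mul]
      rw [e1, ← mul_assoc, emb_comm (Ne.symm hli), mul_assoc, emb_eq_kr l,
        show emb i (wedge G c e) = kr l 1 (emb I (wedge G c e)) from emb_rest l I _,
        show emb j (wedge G c e) = kr l 1 (emb J (wedge G c e)) from emb_rest l J _,
        kr_mul, kr_mul, one_mul, mul_one, one_mul]
  have hIJ : I ≠ J := fun e => hji (congrArg Subtype.val e).symm
  rw [emb, emb, Pt_mul] at hmem
  refine hS.rel_of_pure hmem (fun k => ?_) (l := J) ?_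
  · rcases eq_or_ne k I with rfl | hk
    · exact Or.inr (by simpa [hIJ] using hW)
    rcases eq_or_ne k J with rfl | hk'
    · exact Or.inr (by simpa [hk] using hW)
    · exact Or.inl (by simp [hk, hk'])
  · simpa [hIJ.symm] using hW.ne_one hS.sp

theorem EndSetting.rel_perm [NeZero m] {σ : Equiv.Perm ι} (hσ : pmG σ ∈ M) {i l : ι} (h : hS.Rel i l) :
    hS.Rel (σ i) (σ l) := by
  obtain ⟨hil, hi⟩ := hS.rel_symm h
  obtain ⟨hli, -⟩ := h
  obtain ⟨c, e, hce, hW⟩ := wedge_lowType hS.sp (by have := hS.four; omega)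
  have hli' : σ l ≠ σ i := fun e => hli (σ.injective e)
  have hmem : emb (⟨σ l, hli'⟩ : {j // j ≠ σ i}) (wedge G c e) ∈ longSet G M (σ i) := fun f => by
    have hlong : InM M (1 + emb i (cen G f) * emb l (wedge G c e)) := by
      have h1 : InM M (1 + kr i (cen G f) (emb (⟨l, hli⟩ : {j // j ≠ i}) (wedge G c e))) := by
        refine hS.long_of_short hil hce (hS.rightAlg_le_short (hi (cen G f))) ?_ ?_
        · rw [adj_emb hS.sp, adj_cen hS.sp, ← neg_one_smul F (cen G f), emb_smul, neg_one_smul]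
        · rw [← mul_one (wedge G c e), ← one_mul (emb _ (cen G f)), ← kr_mul, ← emb_eq_kr, ← emb_rest,
            emb_comm (Ne.symm hil), emb_eq_kr i, emb_rest i ⟨l, hli⟩, kr_mul, mul_one, one_mul, mul_one]
      rwa [← mul_one (cen G f), ← one_mul (emb (⟨l, hli⟩ : {j // j ≠ i}) (wedge G c e)), ← kr_mul, ← emb_eq_kr,
        ← emb_rest] at h1
    have h2 := hlong.conj hσ
    have h3 : ((pmG σ : GL (ι → Fin m) F) : Matrix (ι → Fin m) (ι → Fin m) F) * (emb i (cen G f) * emb l (wedge G c e)) =
        emb (σ i) (cen G f) * emb (σ l) (wedge G c e) * ((pmG σ : GL (ι → Fin m) F) : Matrix (ι → Fin m) (ι → Fin m) F) := by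
      rw [pmG_val, ← mul_assoc, pm_mul_emb, mul_assoc, pm_mul_emb, ← mul_assoc]
    rw [mul_add, add_mul, mul_one, Units.mul_inv, h3, mul_assoc (emb (σ i) (cen G f) * _), Units.mul_inv, mul_one,
      emb_eq_kr (σ i), show emb (σ l) (wedge G c e) =
        kr (σ i) 1 (emb (⟨σ l, hli'⟩ : {j // j ≠ σ i}) (wedge G c e)) from emb_rest (σ i) ⟨σ l, hli'⟩ _,
      kr_mul, mul_one, one_mul] at h2
    exact h2
  refine hS.rel_of_pure hmem (fun k => ?_) (l := ⟨σ l, hli'⟩) ?_
  · rcases eq_or_ne k ⟨σ l, hli'⟩ with rfl | hk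
    · exact Or.inr (by simpa using hW)
    · exact Or.inl (by simp [hk])
  · simpa using hW.ne_one hS.sp

/-- All factors are related. -/
theorem EndSetting.rel_all [NeZero m] (hperm : ∀ a b x : ι, a ≠ b → x ≠ a → x ≠ b →
      ∃ σ : Equiv.Perm ι, σ a = b ∧ σ b = x ∧ pmG (F := F) (m := m) σ ∈ M)
    {a b : ι} (hab : hS.Rel a b) {i l : ι} (hil : l ≠ i) : hS.Rel i l := by
  have hne : a ≠ b := Ne.symm hab.1
  have hb : ∀ x, x ≠ b → hS.Rel b x := fun x hx => by
    rcases eq_or_ne x a with rfl | hxa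
    · exact hS.rel_symm hab
    · obtain ⟨σ, hσa, hσb, hσ⟩ := hperm a b x hne hxa hx
      have := hS.rel_perm hσ hab
      rwa [hσa, hσb] at this
  rcases eq_or_ne i b with rfl | hib
  · exact hb l hil
  rcases eq_or_ne l b with rfl | hlb
  · exact hS.rel_symm (hb i hib)
  exact hS.rel_trans (hb i hib) (hb l hlb) (Ne.symm hil)

/-- All operators are short parameters. -/
theorem EndSetting.short_all [NeZero m] (hperm : ∀ a b x : ι, a ≠ b → x ≠ a → x ≠ b →
      ∃ σ : Equiv.Perm ι, σ a = b ∧ σ b = x ∧ pmG (F := F) (m := m) σ ∈ M)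
    (hnc : ¬ NoCen G M) :
    (∀ (i : ι) a, a ∈ shortSet G M i) ∧
      ∀ (i : ι) a, a * adj (gram {j // j ≠ i} G) a ∈ longSet G M i := by
  classical
  obtain ⟨i₀, c, hc, x, hx, b, hb, hns⟩ : ∃ i₀ c, c ≠ 0 ∧ ∃ x ∈ M, ∃ b : Matrix (Rest i₀ m) (Rest i₀ m) F,
      (x : Matrix (ι → Fin m) (ι → Fin m) F) = 1 + kr i₀ (cen G c) b ∧ ∀ s : F, b ≠ s • 1 := by
    simp only [NoCen, not_forall, not_exists] at hnc
    obtain ⟨i, c, hc, x, hx, b, hb, hns⟩ := hnc
    exact ⟨i, c, hc, x, hx, b, hb, hns⟩
  obtain ⟨l₀, hl₀⟩ := hS.exists_rel (hS.long_of_one hc ⟨x, hx, hb⟩) hns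
  have hall : ∀ (i : ι) (z : Matrix (Rest i m) (Rest i m) F), z ∈ hS.rightAlg i := by
    intro i z
    have hPt : ∀ (S : Finset {j // j ≠ i}) (gs : {j // j ≠ i} → Matrix (Fin m) (Fin m) F),
        (∀ k, k ∉ S → gs k = 1) → Pt gs ∈ hS.rightAlg i := by
      intro S
      induction S using Finset.induction with
      | empty =>
        intro gs h1
        rw [show gs = 1 from funext fun k => h1 k (Finset.notMem_empty k), Pt_one]
        exact (hS.rightAlg i).one_mem
      | insert k S hk ih =>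
        intro gs h1
        rw [Pt_eq_emb_mul gs k]
        obtain ⟨_, hk'⟩ := hS.rel_all hperm hl₀ k.2
        refine (hS.rightAlg i).mul_mem (hk' _) (ih _ fun q hq => ?_)
        rcases eq_or_ne q k with rfl | hqk
        · simp
        · rw [Function.update_of_ne hqk]
          exact h1 q (by simp [hq, hqk])
    have hsum : z = ∑ r, ∑ s, z r s • Pt (fun k => Matrix.single (r k) (s k) (1 : F)) := by
      have hsingle : ∀ r s : Rest i m,
          Pt (fun k => Matrix.single (r k) (s k) (1 : F)) = Matrix.single r s 1 := fun r s => by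
        ext p q
        show ∏ k, Matrix.single (r k) (s k) (1 : F) (p k) (q k) = _
        by_cases h : r = p ∧ s = q
        · obtain ⟨rfl, rfl⟩ := h
          simp
        · rw [Matrix.single_apply, if_neg h]
          rw [not_and_or] at h
          rcases h with h | h <;> obtain ⟨k, hk⟩ := Function.ne_iff.mp h <;>
            exact Finset.prod_eq_zero (Finset.mem_univ k) (by simp [hk])
      simp only [hsingle, Matrix.smul_single, smul_eq_mul, mul_one]
      exact matrix_eq_sum_single z
    rw [hsum]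
    exact (hS.rightAlg i).sum_mem fun r _ => (hS.rightAlg i).sum_mem fun s _ =>
      (hS.rightAlg i).smul_mem (hPt Finset.univ _ fun k hk => absurd (Finset.mem_univ k) hk) _
  refine ⟨fun i a => hS.rightAlg_le_short (hall i a), fun i a => ?_⟩
  have := (hS.short_mul_long (hS.rightAlg_le_short (hall i a)) (hS.one_long i)).2
  rw [mul_one] at this
  have h2 := (hS.longSub i).neg_mem this
  rwa [neg_neg] at h2

/-- Symmetrised operators are long parameters. -/
theorem EndSetting.long_symm {i : ι} {a : Matrix (Rest i m) (Rest i m) F} (ha : a ∈ shortSet G M i) :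
    a + adj (gram {j // j ≠ i} G) a ∈ longSet G M i := fun c => by
  have := ha c ((1 : F) • c) (by rw [one_smul]; exact hS.sp.self c)
  rwa [XX_self, one_smul] at this

end CfsgLib.TWSp
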