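import Cfsg.Agent.TensorWreath.Pure

/-!
# Tensor powers of a symplectic space: forms, similitudes and split products

`G` is the Gram matrix of an alternating form on `F^m`; the form on the tensor power has Gram
matrix `gram G`.  `kr i A L` is `A` in the factor `i` tensor `L` on the other factors.
-/

set_option autoImplicit false
set_option linter.unusedSectionVars false

namespace CfsgLib.TWSp

open Matrix CfsgLib.MaxSub CfsgLib.TWreath

variable {F : Type*} [Field F] {ι : Type} [Fintype ι] [DecidableEq ι] {m : ℕ}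

/-- A non-degenerate alternating form on `F^m`. -/
structure SpForm (G : Matrix (Fin m) (Fin m) F) : Prop where
  alt : ∀ x, x ⬝ᵥ G *ᵥ x = 0
  det : IsUnit G.det

/-- The form. -/
def om (G : Matrix (Fin m) (Fin m) F) (x y : Fin m → F) : F := x ⬝ᵥ G *ᵥ y

section form

variable {G : Matrix (Fin m) (Fin m) F}

theorem om_add_left (x y z : Fin m → F) : om G (x + y) z = om G x z + om G y z := add_dotProduct _ _ _

theorem om_add_right (x y z : Fin m → F) : om G x (y + z) = om G x y + om G x z := by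
  rw [om, mulVec_add, dotProduct_add]; rfl

theorem om_smul_left (k : F) (x y : Fin m → F) : om G (k • x) y = k * om G x y := smul_dotProduct _ _ _

theorem om_smul_right (k : F) (x y : Fin m → F) : om G x (k • y) = k * om G x y := by
  rw [om, mulVec_smul, dotProduct_smul]; rfl

theorem axis_dot (c x : Fin m → F) : (G *ᵥ c) ⬝ᵥ x = om G x c := dotProduct_comm _ _

variable (hG : SpForm G)

include hG

theorem SpForm.self (x : Fin m → F) : om G x x = 0 := hG.alt x

theorem SpForm.skew (x y : Fin m → F) : om G y x = - om G x y := by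
  have h := hG.self (x + y)
  rw [om_add_left, om_add_right, om_add_right, hG.self, hG.self, zero_add, add_zero] at h
  exact eq_neg_of_add_eq_zero_right h

theorem SpForm.axis_self (c : Fin m → F) : (G *ᵥ c) ⬝ᵥ c = 0 := by rw [axis_dot, hG.self]

theorem SpForm.axis_ne {c : Fin m → F} (hc : c ≠ 0) : G *ᵥ c ≠ 0 := fun h =>
  hc ((mulVec_injective_iff_isUnit.mpr ((Matrix.isUnit_iff_isUnit_det G).mpr hG.det))
    (h.trans (mulVec_zero _).symm))

theorem SpForm.exists_axis (φ : Fin m → F) : ∃ c, G *ᵥ c = φ :=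
  ⟨G⁻¹ *ᵥ φ, by rw [mulVec_mulVec, mul_nonsing_inv G hG.det, one_mulVec]⟩

theorem SpForm.transpose : Gᵀ = -G := by
  refine Matrix.ext_of_mulVec_single fun j => ?_
  funext i
  have h := hG.skew (Pi.single i (1 : F)) (Pi.single j 1)
  simp only [om, single_dotProduct, mulVec_single, MulOpposite.op_one, one_smul, one_mul] at h
  simpa [mulVec_single, Matrix.col_apply] using h

theorem SpForm.vecMul (c : Fin m → F) : c ᵥ* G = -(G *ᵥ c) := by
  rw [← mulVec_transpose, hG.transpose, neg_mulVec]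

/-- A vector pairing to one with a non-zero vector. -/
theorem SpForm.exists_partner {c : Fin m → F} (hc : c ≠ 0) : ∃ d, om G d c = 1 := by
  obtain ⟨d, hd⟩ := exists_dot_eq_one (hG.axis_ne hc)
  exact ⟨d, hd⟩

end form

/-! ### Isometries of one factor -/

/-- The isometry group of the form. -/
def spG (G : Matrix (Fin m) (Fin m) F) : Subgroup (GL (Fin m) F) where
  carrier := {h | (h : Matrix (Fin m) (Fin m) F)ᵀ * G * (h : Matrix (Fin m) (Fin m) F) = G}
  one_mem' := by simp
  mul_mem' {a b} (ha : _ * G * _ = G) (hb : _ * G * _ = G) := by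
    show ((a * b : GL (Fin m) F) : Matrix (Fin m) (Fin m) F)ᵀ * G * _ = G
    rw [Units.val_mul, transpose_mul]
    conv_rhs => rw [← hb, ← ha]
    simp only [Matrix.mul_assoc]
  inv_mem' {a} (ha : _ * G * _ = G) := by
    show ((a⁻¹ : GL (Fin m) F) : Matrix (Fin m) (Fin m) F)ᵀ * G * _ = G
    conv_lhs => rw [← ha]
    simp only [Matrix.mul_assoc]
    rw [Units.mul_inv, Matrix.mul_one, ← Matrix.mul_assoc, ← transpose_mul, Units.mul_inv, transpose_one,
      Matrix.one_mul]

theorem mem_spG {G : Matrix (Fin m) (Fin m) F} {h : GL (Fin m) F} :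
    h ∈ spG G ↔ (h : Matrix (Fin m) (Fin m) F)ᵀ * G * (h : Matrix (Fin m) (Fin m) F) = G := Iff.rfl

theorem mem_spG_of_om {G : Matrix (Fin m) (Fin m) F} {h : GL (Fin m) F}
    (hh : ∀ x y, om G ((h : Matrix (Fin m) (Fin m) F) *ᵥ x) ((h : Matrix (Fin m) (Fin m) F) *ᵥ y) = om G x y) :
    h ∈ spG G := by
  have key : ∀ x y : Fin m → F,
      x ⬝ᵥ ((h : Matrix (Fin m) (Fin m) F)ᵀ * G * (h : Matrix (Fin m) (Fin m) F)) *ᵥ y = x ⬝ᵥ G *ᵥ y := fun x y => by
    rw [← mulVec_mulVec, ← mulVec_mulVec, dotProduct_mulVec, vecMul_transpose]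
    exact hh x y
  rw [mem_spG]
  ext i j
  simpa [single_dotProduct, mulVec_single] using key (Pi.single i 1) (Pi.single j 1)

theorem om_of_mem_spG {G : Matrix (Fin m) (Fin m) F} {h : GL (Fin m) F} (hh : h ∈ spG G) (x y : Fin m → F) :
    om G ((h : Matrix (Fin m) (Fin m) F) *ᵥ x) ((h : Matrix (Fin m) (Fin m) F) *ᵥ y) = om G x y := by
  rw [om, om]
  conv_rhs => rw [← mem_spG.mp hh]
  rw [← mulVec_mulVec, ← mulVec_mulVec, dotProduct_mulVec x, vecMul_transpose]

/-- A symplectic transvection. -/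
noncomputable def spt (G : Matrix (Fin m) (Fin m) F) (s : F) (c : Fin m → F) : GL (Fin m) F :=
  tv (s • c) (G *ᵥ c)

theorem SpForm.spt_val {G : Matrix (Fin m) (Fin m) F} (hG : SpForm G) (s : F) (c : Fin m → F) :
    (spt G s c : Matrix (Fin m) (Fin m) F) = 1 + vecMulVec (s • c) (G *ᵥ c) :=
  tv_coe (by rw [dotProduct_smul, hG.axis_self, smul_zero])

theorem SpForm.spt_mulVec {G : Matrix (Fin m) (Fin m) F} (hG : SpForm G) (s : F) (c x : Fin m → F) :
    (spt G s c : Matrix (Fin m) (Fin m) F) *ᵥ x = x + (s * om G x c) • c := by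
  rw [hG.spt_val, add_mulVec, one_mulVec, vecMulVec_mulVec', axis_dot, smul_smul, mul_comm]

theorem SpForm.spt_mem {G : Matrix (Fin m) (Fin m) F} (hG : SpForm G) (s : F) (c : Fin m → F) :
    spt G s c ∈ spG G := mem_spG_of_om fun x y => by
  rw [hG.spt_mulVec, hG.spt_mulVec]
  simp only [om_add_left, om_add_right, om_smul_left, om_smul_right, hG.self c]
  rw [hG.skew c y]
  ring

/-! ### Split products -/

/-- `A` in the factor `i` tensor `L` on the other factors. -/
def kr (i : ι) (A : Matrix (Fin m) (Fin m) F) (L : Matrix (Rest i m) (Rest i m) F) :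
    Matrix (ι → Fin m) (ι → Fin m) F :=
  fun a b => A (a i) (b i) * L (fun j => a j) (fun j => b j)

theorem extend_eta (i : ι) (a : ι → Fin m) : extend i (a i) (fun j => a j) = a := by
  funext j
  rcases eq_or_ne j i with rfl | hj
  · simp [extend]
  · simp [extend, hj]

/-- Splitting off a coordinate. -/
def splitEquiv (i : ι) : (ι → Fin m) ≃ Fin m × Rest i m where
  toFun a := (a i, fun j => a j)
  invFun p := extend i p.1 p.2
  left_inv a := extend_eta i a
  right_inv p := Prod.ext (extend_self i p.1 p.2) (extend_rest i p.1 p.2)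

theorem kr_mul (i : ι) (A B : Matrix (Fin m) (Fin m) F) (L K : Matrix (Rest i m) (Rest i m) F) :
    kr i A L * kr i B K = kr i (A * B) (L * K) := by
  ext a b
  rw [mul_apply, ← (splitEquiv i).symm.sum_comp, Fintype.sum_prod_type]
  simp only [kr, splitEquiv, Equiv.coe_fn_symm_mk, extend_self, extend_rest, mul_apply, Finset.sum_mul,
    Finset.mul_sum]
  rw [Finset.sum_comm]
  refine Finset.sum_congr rfl fun r _ => Finset.sum_congr rfl fun k _ => ?_
  ring

theorem kr_add_left (i : ι) (A B : Matrix (Fin m) (Fin m) F) (L : Matrix (Rest i m) (Rest i m) F) :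
    kr i (A + B) L = kr i A L + kr i B L := by
  ext a b; simp [kr, add_mul]

theorem kr_add_right (i : ι) (A : Matrix (Fin m) (Fin m) F) (L K : Matrix (Rest i m) (Rest i m) F) :
    kr i A (L + K) = kr i A L + kr i A K := by
  ext a b; simp [kr, mul_add]

theorem kr_sub_left (i : ι) (A B : Matrix (Fin m) (Fin m) F) (L : Matrix (Rest i m) (Rest i m) F) :
    kr i (A - B) L = kr i A L - kr i B L := by
  ext a b; simp [kr, sub_mul]

theorem kr_sub_right (i : ι) (A : Matrix (Fin m) (Fin m) F) (L K : Matrix (Rest i m) (Rest i m) F) :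
    kr i A (L - K) = kr i A L - kr i A K := by
  ext a b; simp [kr, mul_sub]

theorem kr_smul_left (i : ι) (k : F) (A : Matrix (Fin m) (Fin m) F) (L : Matrix (Rest i m) (Rest i m) F) :
    kr i (k • A) L = k • kr i A L := by
  ext a b; simp [kr, mul_assoc]

theorem kr_smul_right (i : ι) (k : F) (A : Matrix (Fin m) (Fin m) F) (L : Matrix (Rest i m) (Rest i m) F) :
    kr i A (k • L) = k • kr i A L := by
  ext a b; simp [kr, mul_left_comm]

theorem kr_neg_right (i : ι) (A : Matrix (Fin m) (Fin m) F) (L : Matrix (Rest i m) (Rest i m) F) :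
    kr i A (-L) = - kr i A L := by
  ext a b; simp [kr]

theorem kr_zero_left (i : ι) (L : Matrix (Rest i m) (Rest i m) F) : kr i 0 L = 0 := by
  ext a b; simp [kr]

theorem kr_zero_right (i : ι) (A : Matrix (Fin m) (Fin m) F) : kr i A 0 = 0 := by
  ext a b; simp [kr]

theorem kr_transpose (i : ι) (A : Matrix (Fin m) (Fin m) F) (L : Matrix (Rest i m) (Rest i m) F) :
    (kr i A L)ᵀ = kr i Aᵀ Lᵀ := rfl

theorem kr_mulVec_lift (i : ι) (A : Matrix (Fin m) (Fin m) F) (L : Matrix (Rest i m) (Rest i m) F)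
    (x : Fin m → F) (w : Rest i m → F) : kr i A L *ᵥ lift i x w = lift i (A *ᵥ x) (L *ᵥ w) := by
  funext a
  show ∑ b, kr i A L a b * lift i x w b = _
  rw [← (splitEquiv i).symm.sum_comp, Fintype.sum_prod_type]
  simp only [kr, splitEquiv, Equiv.coe_fn_symm_mk, lift_apply, extend_self, extend_rest, mulVec, dotProduct,
    Finset.sum_mul, Finset.mul_sum]
  rw [Finset.sum_comm]
  refine Finset.sum_congr rfl fun r _ => Finset.sum_congr rfl fun k _ => ?_
  ring

theorem Pt_eq_kr (gs : ι → Matrix (Fin m) (Fin m) F) (i : ι) :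
    Pt gs = kr i (gs i) (Pt fun j : {j // j ≠ i} => gs j) := by
  ext a b
  show ∏ k, gs k (a k) (b k) = gs i (a i) (b i) * ∏ j : {j // j ≠ i}, gs j (a j) (b j)
  rw [← Finset.mul_prod_erase Finset.univ _ (Finset.mem_univ i),
    Finset.prod_subtype (Finset.univ.erase i) (p := fun j => j ≠ i) (by simp)]

theorem kr_one (i : ι) : kr i (1 : Matrix (Fin m) (Fin m) F) (1 : Matrix (Rest i m) (Rest i m) F) = 1 := by
  rw [← Pt_one (ι := ι), Pt_eq_kr _ i]
  congr 1
  rw [← Pt_one (ι := {j // j ≠ i})]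
  rfl

theorem emb_eq_kr (i : ι) (A : Matrix (Fin m) (Fin m) F) : emb i A = kr i A 1 := by
  rw [emb, Pt_eq_kr _ i, Function.update_self]
  congr 1
  rw [← Pt_one (ι := {j // j ≠ i})]
  congr 1
  funext j
  simp [j.2]

theorem emb_rest (i : ι) (j : {j // j ≠ i}) (A : Matrix (Fin m) (Fin m) F) :
    emb (j : ι) A = kr i 1 (emb j A) := by
  rw [emb, Pt_eq_kr _ i, Function.update_of_ne (Ne.symm j.2)]
  congr 1
  rw [emb]
  congr 1
  funext l
  rcases eq_or_ne l j with rfl | hl
  · simp
  · have : (l : ι) ≠ j := fun h => hl (Subtype.ext h)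
    simp [hl, this]

theorem kr_left_injective {i : ι} {A : Matrix (Fin m) (Fin m) F} (hA : A ≠ 0) :
    Function.Injective (kr i A) := by
  intro L K h
  obtain ⟨p, q, hpq⟩ : ∃ p q, A p q ≠ 0 := by
    by_contra hc
    push Not at hc
    exact hA (Matrix.ext fun p q => hc p q)
  ext r s
  have := congrFun (congrFun h (extend i p r)) (extend i q s)
  simp only [kr, extend_self, extend_rest] at this
  exact mul_left_cancel₀ hpq this

theorem kr_right_injective {i : ι} {L : Matrix (Rest i m) (Rest i m) F} (hL : L ≠ 0) :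
    Function.Injective fun A => kr i A L := by
  intro A B h
  obtain ⟨r, s, hrs⟩ : ∃ r s, L r s ≠ 0 := by
    by_contra hc
    push Not at hc
    exact hL (Matrix.ext fun p q => hc p q)
  ext p q
  have := congrFun (congrFun h (extend i p r)) (extend i q s)
  simp only [kr, extend_self, extend_rest] at this
  exact mul_right_cancel₀ hrs this

theorem kr_eq_zero {i : ι} {A : Matrix (Fin m) (Fin m) F} {L : Matrix (Rest i m) (Rest i m) F} :
    kr i A L = 0 ↔ A = 0 ∨ L = 0 := by
  constructor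
  · intro h
    by_contra hc
    push Not at hc
    exact hc.2 (kr_left_injective hc.1 (h.trans (kr_zero_right i A).symm))
  · rintro (rfl | rfl)
    · exact kr_zero_left i L
    · exact kr_zero_right i A

/-! ### The form on the power -/

/-- The Gram matrix of the power. -/
def gram (ι : Type) [Fintype ι] [DecidableEq ι] (G : Matrix (Fin m) (Fin m) F) :
    Matrix (ι → Fin m) (ι → Fin m) F := Pt fun _ => G

theorem gram_eq_kr (G : Matrix (Fin m) (Fin m) F) (i : ι) :
    gram ι G = kr i G (gram {j // j ≠ i} G) := Pt_eq_kr _ i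

theorem gram_det_unit {G : Matrix (Fin m) (Fin m) F} (hG : IsUnit G.det) : IsUnit (gram ι G).det := by
  refine Matrix.isUnit_det_of_left_inverse (B := gram ι G⁻¹) ?_
  rw [gram, gram, Pt_mul, ← Pt_one (ι := ι)]
  congr 1
  funext k
  exact nonsing_inv_mul G hG

/-- The similitudes of the power. -/
def gsim (ι : Type) [Fintype ι] [DecidableEq ι] (G : Matrix (Fin m) (Fin m) F) :
    Subgroup (GL (ι → Fin m) F) where
  carrier := {g | ∃ μ : F, μ ≠ 0 ∧ (g : Matrix (ι → Fin m) (ι → Fin m) F)ᵀ * gram ι G * g = μ • gram ι G}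
  one_mem' := ⟨1, one_ne_zero, by simp⟩
  mul_mem' {a b} := by
    rintro ⟨μ, hμ, ha⟩ ⟨ν, hν, hb⟩
    refine ⟨μ * ν, mul_ne_zero hμ hν, ?_⟩
    rw [Units.val_mul, transpose_mul,
      show (b : Matrix (ι → Fin m) (ι → Fin m) F)ᵀ * (a : Matrix (ι → Fin m) (ι → Fin m) F)ᵀ * gram ι G *
        ((a : Matrix (ι → Fin m) (ι → Fin m) F) * (b : Matrix (ι → Fin m) (ι → Fin m) F)) =
        (b : Matrix (ι → Fin m) (ι → Fin m) F)ᵀ * ((a : Matrix (ι → Fin m) (ι → Fin m) F)ᵀ * gram ι G *
          (a : Matrix (ι → Fin m) (ι → Fin m) F)) * (b : Matrix (ι → Fin m) (ι → Fin m) F) by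
        simp only [Matrix.mul_assoc],
      ha, Matrix.mul_smul, Matrix.smul_mul, hb, smul_smul]
  inv_mem' {a} := by
    rintro ⟨μ, hμ, ha⟩
    refine ⟨μ⁻¹, inv_ne_zero hμ, ?_⟩
    have : μ⁻¹ • ((a : Matrix (ι → Fin m) (ι → Fin m) F)ᵀ * gram ι G * a) = gram ι G := by
      rw [ha, smul_smul, inv_mul_cancel₀ hμ, one_smul]
    conv_lhs => rw [← this]
    rw [Matrix.mul_smul, Matrix.smul_mul]
    congr 1
    simp only [Matrix.mul_assoc]
    rw [Units.mul_inv, Matrix.mul_one, ← Matrix.mul_assoc, ← transpose_mul, Units.mul_inv, transpose_one,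
      Matrix.one_mul]

theorem mem_gsim {G : Matrix (Fin m) (Fin m) F} {g : GL (ι → Fin m) F} :
    g ∈ gsim ι G ↔ ∃ μ : F, μ ≠ 0 ∧
      (g : Matrix (ι → Fin m) (ι → Fin m) F)ᵀ * gram ι G * g = μ • gram ι G := Iff.rfl

theorem embG_mem_gsim {G : Matrix (Fin m) (Fin m) F} (i : ι) {h : GL (Fin m) F} (hh : h ∈ spG G) :
    embG i h ∈ gsim ι G := by
  refine ⟨1, one_ne_zero, ?_⟩
  rw [one_smul, embG_val, emb_eq_kr, gram_eq_kr G i, kr_transpose, transpose_one, kr_mul, kr_mul,
    Matrix.one_mul, Matrix.mul_one, mem_spG.mp hh]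

/-- A symplectic root element in the factor `i`. -/
noncomputable def rt (G : Matrix (Fin m) (Fin m) F) (i : ι) (s : F) (c : Fin m → F) :
    GL (ι → Fin m) F := embG i (spt G s c)

theorem rt_eq_root (G : Matrix (Fin m) (Fin m) F) (i : ι) (s : F) (c : Fin m → F) :
    rt G i s c = root i (s • c) (G *ᵥ c) := rfl

/-- The rank-one nilpotent matrix of a root. -/
def cen (G : Matrix (Fin m) (Fin m) F) (c : Fin m → F) : Matrix (Fin m) (Fin m) F :=
  vecMulVec c (G *ᵥ c)

theorem cen_mulVec (G : Matrix (Fin m) (Fin m) F) (c x : Fin m → F) : cen G c *ᵥ x = om G x c • c := by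
  rw [cen, vecMulVec_mulVec', axis_dot]

theorem SpForm.cen_ne {G : Matrix (Fin m) (Fin m) F} (hG : SpForm G) {c : Fin m → F} (hc : c ≠ 0) :
    cen G c ≠ 0 := by
  obtain ⟨d, hd⟩ := hG.exists_partner hc
  intro h
  have := congrArg (· *ᵥ d) h
  rw [cen_mulVec, hd, one_smul, zero_mulVec] at this
  exact hc this

theorem SpForm.rt_val {G : Matrix (Fin m) (Fin m) F} (hG : SpForm G) (i : ι) (s : F) (c : Fin m → F) :
    (rt G i s c : Matrix (ι → Fin m) (ι → Fin m) F) = 1 + kr i (cen G c) (s • 1) := by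
  rw [rt, embG_val, hG.spt_val, emb_add, emb_one, emb_eq_kr, smul_vecMulVec, kr_smul_left, kr_smul_right]
  rfl

/-- `M` contains the isometries of every factor. -/
def HasFactors (G : Matrix (Fin m) (Fin m) F) (M : Subgroup (GL (ι → Fin m) F)) : Prop :=
  ∀ (i : ι), ∀ h ∈ spG G, embG i h ∈ M

theorem HasFactors.rt_mem {G : Matrix (Fin m) (Fin m) F} (hG : SpForm G) {M : Subgroup (GL (ι → Fin m) F)}
    (hM : HasFactors G M) (i : ι) (s : F) (c : Fin m → F) : rt G i s c ∈ M :=
  hM i _ (hG.spt_mem s c)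

end CfsgLib.TWSp
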