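import Cfsg.Agent.TensorWreathSp.Algebra
import Cfsg.Agent.TensorWreathSp.Recursion

/-!
# Long and short root elements with operator parameters

For a group of isometries containing all factors the parameters of the elements
`1 + cen c ⊗ b` and `1 + (c e* ⊗ a + e c* ⊗ a^⋆)` form subspaces `lng` and `sht`, and
`sht · lng ⊆ sht`.
-/

set_option autoImplicit false
set_option linter.unusedSectionVars false

namespace CfsgLib.TWSp

open Matrix CfsgLib.MaxSub CfsgLib.TWreath

variable {F : Type*} [Field F] {ι : Type} [Fintype ι] [DecidableEq ι] {m : ℕ}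
  {G : Matrix (Fin m) (Fin m) F}

theorem adj_mul {n : Type*} [Fintype n] [DecidableEq n] {J : Matrix n n F} (hJ : IsUnit J.det)
    (a b : Matrix n n F) : adj J (a * b) = adj J b * adj J a := by
  rw [adj, adj, adj, transpose_mul]
  simp only [Matrix.mul_assoc, mul_nonsing_inv_cancel_left J _ hJ]

theorem gram_transpose (hG : SpForm G) : (gram ι G)ᵀ = (-1 : F) ^ Fintype.card ι • gram ι G := by
  have h : (gram ι G)ᵀ = Pt fun _ => Gᵀ := rfl
  rw [h, hG.transpose, gram, ← Finset.card_univ, ← Finset.prod_const, ← Pt_smul]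
  simp only [neg_one_smul]

theorem adj_adj (hG : SpForm G) (a : Matrix (ι → Fin m) (ι → Fin m) F) :
    adj (gram ι G) (adj (gram ι G) a) = a := by
  set J := gram ι G with hJdef
  have hJ : IsUnit J.det := gram_det_unit hG.det
  set ε : F := (-1 : F) ^ Fintype.card ι
  have ht : Jᵀ = ε • J := gram_transpose hG
  have hti : (J⁻¹)ᵀ * J = ε • (1 : Matrix (ι → Fin m) (ι → Fin m) F) := by
    have h1 : (J⁻¹)ᵀ * Jᵀ = 1 := by rw [← transpose_mul, mul_nonsing_inv J hJ, transpose_one]
    rw [ht, Matrix.mul_smul] at h1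
    have hε : ε * ε = 1 := by
      show (-1 : F) ^ Fintype.card ι * (-1) ^ Fintype.card ι = 1
      rw [← mul_pow]; simp
    have h2 := congrArg (ε • ·) h1
    simp only [smul_smul, hε, one_smul] at h2
    exact h2
  have hε : ε * ε = 1 := by
    show (-1 : F) ^ Fintype.card ι * (-1) ^ Fintype.card ι = 1
    rw [← mul_pow]; simp
  rw [adj, adj, transpose_mul, transpose_mul, transpose_transpose, ht, Matrix.smul_mul, Matrix.mul_smul,
    Matrix.smul_mul, Matrix.mul_assoc, Matrix.mul_assoc J, Matrix.mul_assoc a, hti, Matrix.mul_smul,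
    Matrix.mul_one, Matrix.mul_smul, Matrix.mul_smul, smul_smul, hε, one_smul, ← Matrix.mul_assoc,
    nonsing_inv_mul J hJ, Matrix.one_mul]

theorem adj_isIso (hG : SpForm G) {x : GL (ι → Fin m) F} (hx : IsIso G x) :
    adj (gram ι G) (x : Matrix (ι → Fin m) (ι → Fin m) F) =
      ((x⁻¹ : GL (ι → Fin m) F) : Matrix (ι → Fin m) (ι → Fin m) F) := by
  refine (Units.inv_eq_of_mul_eq_one_left ?_).symm
  rw [adj, Matrix.mul_assoc, Matrix.mul_assoc, ← Matrix.mul_assoc _ (gram ι G),
    show (x : Matrix (ι → Fin m) (ι → Fin m) F)ᵀ * gram ι G * (x : Matrix (ι → Fin m) (ι → Fin m) F) = gram ι G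
      from hx, nonsing_inv_mul _ (gram_det_unit hG.det)]

/-- The isometry group is transitive on non-zero vectors. -/
theorem SpForm.exists_trans (hG : SpForm G) {c c' : Fin m → F} (hc : c ≠ 0) (hc' : c' ≠ 0) :
    ∃ h ∈ spG G, (h : Matrix (Fin m) (Fin m) F) *ᵥ c = c' := by
  obtain ⟨z, hz1, hz2⟩ := exists_dot_both (hG.axis_ne hc) (hG.axis_ne hc')
  rw [dotProduct_comm, axis_dot] at hz1 hz2
  obtain ⟨t1, ht1, ht1', -⟩ := hG.exists_move (c := c) (f := z) (fun h => hz1 (hG.axis_zero_iff.mp h))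
  obtain ⟨t2, ht2, ht2', -⟩ := hG.exists_move (c := z) (f := c') hz2
  exact ⟨t2 * t1, (spG G).mul_mem ht2 ht1, by rw [Units.val_mul, ← mulVec_mulVec, ht1', ht2']⟩

/-- The isometry group is transitive on independent orthogonal pairs. -/
theorem SpForm.exists_trans_pair (hG : SpForm G) {c e c' e' : Fin m → F} (hce : om G c e = 0)
    (hind : ∀ k : F, k • c ≠ e) (hc : c ≠ 0) (hce' : om G c' e' = 0) (hind' : ∀ k : F, k • c' ≠ e')
    (hc' : c' ≠ 0) :
    ∃ h ∈ spG G, (h : Matrix (Fin m) (Fin m) F) *ᵥ c = c' ∧ (h : Matrix (Fin m) (Fin m) F) *ᵥ e = e' := by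
  obtain ⟨h₁, hh₁, h₁c⟩ := hG.exists_trans hc hc'
  set e₁ := (h₁ : Matrix (Fin m) (Fin m) F) *ᵥ e with he₁
  have hce₁ : om G c' e₁ = 0 := by rw [he₁, ← h₁c, om_of_mem_spG hh₁, hce]
  have hind₁ : ∀ k : F, k • c' ≠ e₁ := fun k hk => by
    refine hind k (mulVec_injective_iff_isUnit.mpr h₁.isUnit ?_)
    rw [mulVec_smul, h₁c, hk, he₁]
  -- a vector pairing with both
  obtain ⟨u, hu1, hu2⟩ := exists_dot_eq_zero_one (hG.axis_indep hind₁)
  obtain ⟨v, hv1, hv2⟩ := exists_dot_eq_zero_one (hG.axis_indep hind')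
  rw [axis_dot] at hu1 hu2 hv1 hv2
  obtain ⟨z, hz, hz1, hz2⟩ : ∃ z, om G z c' = 0 ∧ om G z e₁ ≠ 0 ∧ om G z e' ≠ 0 := by
    by_cases h1 : om G u e' = 0
    · by_cases h2 : om G v e₁ = 0
      · exact ⟨u + v, by rw [om_add_left, hu1, hv1, add_zero], by rw [om_add_left, hu2, h2, add_zero]; exact one_ne_zero,
          by rw [om_add_left, h1, hv2, zero_add]; exact one_ne_zero⟩
      · exact ⟨v, hv1, h2, by rw [hv2]; exact one_ne_zero⟩
    · exact ⟨u, hu1, by rw [hu2]; exact one_ne_zero, h1⟩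
  have osub : ∀ a b x, om G x (a - b) = om G x a - om G x b := fun a b x => by
    rw [sub_eq_add_neg, ← neg_one_smul F b, om_add_right, om_smul_right]; ring
  obtain ⟨t1, ht1, ht1', hfix1⟩ := hG.exists_move (c := e₁) (f := z) (fun h => hz1 (hG.axis_zero_iff.mp h))
  obtain ⟨t2, ht2, ht2', hfix2⟩ := hG.exists_move (c := z) (f := e') hz2
  refine ⟨t2 * t1 * h₁, (spG G).mul_mem ((spG G).mul_mem ht2 ht1) hh₁, ?_, ?_⟩
  · rw [Units.val_mul, Units.val_mul, ← mulVec_mulVec, ← mulVec_mulVec, h₁c,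
      hfix1 c' (by rw [osub, hG.axis_zero_iff.mp hz, hce₁, sub_zero]),
      hfix2 c' (by rw [osub, hce', hG.axis_zero_iff.mp hz, sub_zero])]
  · rw [Units.val_mul, Units.val_mul, ← mulVec_mulVec, ← mulVec_mulVec, ← he₁, ht1', ht2']

/-- An independent orthogonal partner. -/
theorem SpForm.exists_ortho_indep (hG : SpForm G) (hm : 3 ≤ m) {c : Fin m → F} :
    ∃ e, om G c e = 0 ∧ ∀ k : F, k • c ≠ e := by
  obtain ⟨f, g, hf, hg, hf0, hfg⟩ := exists_two_in_kerDot hm (G *ᵥ c)
  rw [axis_dot] at hf hg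
  by_cases h1 : ∀ l : F, l • c ≠ f
  · exact ⟨f, hG.axis_zero_iff.mp hf, h1⟩
  push Not at h1
  obtain ⟨l, hl⟩ := h1
  refine ⟨g, hG.axis_zero_iff.mp hg, fun l' hl' => ?_⟩
  have hl0 : l ≠ 0 := fun e => hf0 (by rw [← hl, e, zero_smul])
  exact hfg (l' / l) (by rw [← hl, smul_smul, div_mul_cancel₀ _ hl0, hl'])

/-! ### The setting -/

/-- A group of isometries containing all factors, in any dimension of the factors. -/
structure LongSetting (G : Matrix (Fin m) (Fin m) F) (M : Subgroup (GL (ι → Fin m) F)) : Prop where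
  sp : SpForm G
  iso : ∀ x ∈ M, IsIso G x
  fac : HasFactors G M

/-- A group of isometries containing all factors. -/
structure EndSetting (G : Matrix (Fin m) (Fin m) F) (M : Subgroup (GL (ι → Fin m) F)) : Prop
    extends LongSetting G M where
  four : 4 ≤ m
  six : (2 : F) = 0 → 6 ≤ m

/-- `X` is the matrix of an element of `M`. -/
def InM (M : Subgroup (GL (ι → Fin m) F)) (X : Matrix (ι → Fin m) (ι → Fin m) F) : Prop :=
  ∃ x ∈ M, (x : Matrix (ι → Fin m) (ι → Fin m) F) = X

variable {M : Subgroup (GL (ι → Fin m) F)}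

theorem InM.one : InM M (1 : Matrix (ι → Fin m) (ι → Fin m) F) := ⟨1, M.one_mem, rfl⟩

theorem InM.mul {X Y : Matrix (ι → Fin m) (ι → Fin m) F} (hX : InM M X) (hY : InM M Y) : InM M (X * Y) := by
  obtain ⟨x, hx, rfl⟩ := hX
  obtain ⟨y, hy, rfl⟩ := hY
  exact ⟨x * y, M.mul_mem hx hy, rfl⟩

theorem InM.inv {X Y : Matrix (ι → Fin m) (ι → Fin m) F} (hX : InM M X) (h : X * Y = 1) : InM M Y := by
  obtain ⟨x, hx, rfl⟩ := hX
  exact ⟨x⁻¹, M.inv_mem hx, Units.inv_eq_of_mul_eq_one_right h⟩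

theorem InM.conj {X : Matrix (ι → Fin m) (ι → Fin m) F} (hX : InM M X) {g : GL (ι → Fin m) F} (hg : g ∈ M) :
    InM M ((g : Matrix (ι → Fin m) (ι → Fin m) F) * X * ((g⁻¹ : GL (ι → Fin m) F) : Matrix (ι → Fin m) (ι → Fin m) F)) :=
  (InM.mul ⟨g, hg, rfl⟩ hX).mul ⟨g⁻¹, M.inv_mem hg, rfl⟩

/-- The long and short matrices. -/
noncomputable def XX (G : Matrix (Fin m) (Fin m) F) (i : ι) (c e : Fin m → F)
    (a : Matrix (Rest i m) (Rest i m) F) : Matrix (ι → Fin m) (ι → Fin m) F :=
  kr i (vecMulVec c (G *ᵥ e)) a + kr i (vecMulVec e (G *ᵥ c)) (adj (gram {j // j ≠ i} G) a)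

theorem XX_add (i : ι) (c e : Fin m → F) (a b : Matrix (Rest i m) (Rest i m) F) :
    XX G i c e (a + b) = XX G i c e a + XX G i c e b := by
  rw [XX, XX, XX, adj_add, kr_add_right, kr_add_right]; abel

theorem XX_smul (i : ι) (c e : Fin m → F) (k : F) (a : Matrix (Rest i m) (Rest i m) F) :
    XX G i c e (k • a) = XX G i c (k • e) a := by
  rw [XX, XX, adj_smul, kr_smul_right, kr_smul_right, mulVec_smul, vecMulVec_smul, smul_vecMulVec, kr_smul_left,
    kr_smul_left]

theorem XX_zero_right (i : ι) (c e : Fin m → F) : XX G i c e (0 : Matrix (Rest i m) (Rest i m) F) = 0 := by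
  have := XX_smul (G := G) i c e (0 : F) (0 : Matrix (Rest i m) (Rest i m) F)
  rw [zero_smul, zero_smul] at this
  rw [this, XX, mulVec_zero, vecMulVec_zero, zero_vecMulVec, kr_zero_left, kr_zero_left, add_zero]

theorem XX_swap (hG : SpForm G) (i : ι) (c e : Fin m → F) (a : Matrix (Rest i m) (Rest i m) F) :
    XX G i e c (adj (gram {j // j ≠ i} G) a) = XX G i c e a := by
  rw [XX, XX, adj_adj hG, add_comm]

theorem XX_self (i : ι) (c : Fin m → F) (k : F) (a : Matrix (Rest i m) (Rest i m) F) :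
    XX G i c (k • c) a = kr i (cen G c) (k • (a + adj (gram {j // j ≠ i} G) a)) := by
  rw [XX, mulVec_smul, vecMulVec_smul, smul_vecMulVec, ← cen, kr_smul_right, kr_smul_left, kr_smul_left,
    kr_add_right, smul_add]

theorem XX_split (i : ι) (c e e' : Fin m → F) (a : Matrix (Rest i m) (Rest i m) F) :
    XX G i c (e + e') a = XX G i c e a + XX G i c e' a := by
  rw [XX, XX, XX, mulVec_add, vecMulVec_add, add_vecMulVec, kr_add_left, kr_add_left]; abel

theorem XX_mul (hG : SpForm G) (i : ι) {c e e' : Fin m → F} (hce : om G c e = 0) (hce' : om G c e' = 0)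
    (hee : om G e e' = 0) (a b : Matrix (Rest i m) (Rest i m) F) : XX G i c e a * XX G i c e' b = 0 := by
  rw [XX, XX, add_mul, mul_add, mul_add, kr_mul, kr_mul, kr_mul, kr_mul, vecMulVec_mul_vecMulVec,
    vecMulVec_mul_vecMulVec, vecMulVec_mul_vecMulVec, vecMulVec_mul_vecMulVec, axis_dot, axis_dot, axis_dot,
    axis_dot, hce, hG.self, hG.axis_zero_iff.mp hee, hG.axis_zero_iff.mp hce']
  simp [kr_zero_left]

theorem cen_kr_mul (hG : SpForm G) (i : ι) {c e : Fin m → F} (hce : om G c e = 0)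
    (a b : Matrix (Rest i m) (Rest i m) F) :
    kr i (cen G c) b * XX G i c e a = 0 ∧ XX G i c e a * kr i (cen G c) b = 0 := by
  constructor
  · rw [XX, mul_add, kr_mul, kr_mul, cen, vecMulVec_mul_vecMulVec, vecMulVec_mul_vecMulVec, axis_dot, axis_dot,
      hG.self, hG.axis_zero_iff.mp hce]
    simp [kr_zero_left]
  · rw [XX, add_mul, kr_mul, kr_mul, cen, vecMulVec_mul_vecMulVec, vecMulVec_mul_vecMulVec, axis_dot, axis_dot,
      hG.self, hce]
    simp [kr_zero_left]

theorem kr_cen_mul (hG : SpForm G) (i : ι) {c e : Fin m → F} (hce : om G e c = 0)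
    (a b : Matrix (Rest i m) (Rest i m) F) : kr i (cen G c) a * kr i (cen G e) b = 0 := by
  rw [kr_mul, cen, cen, vecMulVec_mul_vecMulVec, axis_dot, hce, zero_smul, vecMulVec_zero, kr_zero_left]

section long

variable (hS : LongSetting G M)

include hS

theorem LongSetting.inM_emb {i : ι} {X : Matrix (ι → Fin m) (ι → Fin m) F} (hX : InM M X) {h : GL (Fin m) F}
    (hh : h ∈ spG G) :
    InM M (emb i (h : Matrix (Fin m) (Fin m) F) * X * emb i ((h⁻¹ : GL (Fin m) F) : Matrix (Fin m) (Fin m) F)) := by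
  have := hX.conj (hS.fac i h hh)
  rwa [← map_inv, embG_val, embG_val] at this

omit hS in
theorem conj_kr (i : ι) (h : GL (Fin m) F) (A : Matrix (Fin m) (Fin m) F) (L : Matrix (Rest i m) (Rest i m) F) :
    emb i (h : Matrix (Fin m) (Fin m) F) * kr i A L * emb i ((h⁻¹ : GL (Fin m) F) : Matrix (Fin m) (Fin m) F) =
      kr i ((h : Matrix (Fin m) (Fin m) F) * A * ((h⁻¹ : GL (Fin m) F) : Matrix (Fin m) (Fin m) F)) L := by
  rw [emb_eq_kr, emb_eq_kr, kr_mul, kr_mul, Matrix.one_mul, Matrix.mul_one]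

omit hS in
theorem conj_one_add (i : ι) (h : GL (Fin m) F) (X : Matrix (ι → Fin m) (ι → Fin m) F) :
    emb i (h : Matrix (Fin m) (Fin m) F) * (1 + X) * emb i ((h⁻¹ : GL (Fin m) F) : Matrix (Fin m) (Fin m) F) =
      1 + emb i (h : Matrix (Fin m) (Fin m) F) * X * emb i ((h⁻¹ : GL (Fin m) F) : Matrix (Fin m) (Fin m) F) := by
  rw [mul_add, add_mul, mul_one, ← emb_mul, Units.mul_inv, emb_one]

/-- The parameters of the long elements. -/
def longSet (G : Matrix (Fin m) (Fin m) F) (M : Subgroup (GL (ι → Fin m) F)) (i : ι) :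
    Set (Matrix (Rest i m) (Rest i m) F) := {b | ∀ c, InM M (1 + kr i (cen G c) b)}

theorem LongSetting.long_of_one {i : ι} {c : Fin m → F} (hc : c ≠ 0) {b : Matrix (Rest i m) (Rest i m) F}
    (h : InM M (1 + kr i (cen G c) b)) : b ∈ longSet G M i := by
  intro c'
  rcases eq_or_ne c' 0 with rfl | hc'
  · rw [cen, zero_vecMulVec, kr_zero_left, add_zero]; exact InM.one
  obtain ⟨t, ht, htc⟩ := hS.sp.exists_trans hc hc'
  have := hS.inM_emb (i := i) h ht
  rwa [conj_one_add, conj_kr, conj_cen ht, htc] at this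

theorem LongSetting.one_long (i : ι) : (1 : Matrix (Rest i m) (Rest i m) F) ∈ longSet G M i := fun c =>
  ⟨rt G i 1 c, hS.fac.rt_mem hS.sp i 1 c, by rw [hS.sp.rt_val, one_smul]⟩

theorem LongSetting.long_adj [NeZero m] {i : ι} {b : Matrix (Rest i m) (Rest i m) F} (hb : b ∈ longSet G M i) :
    adj (gram {j // j ≠ i} G) b = b := by
  set J := gram {j // j ≠ i} G with hJdef
  have hJ : IsUnit J.det := gram_det_unit hS.sp.det
  set c : Fin m → F := Pi.single 0 1
  have hc : c ≠ 0 := by simp [c]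
  obtain ⟨x, hx, hxv⟩ := hb c
  have hiso := hS.iso x hx
  rw [IsIso, hxv, gram_eq_kr G i, transpose_add, transpose_one, kr_transpose, add_mul, one_mul, add_mul, mul_add,
    mul_one, mul_add, mul_one, kr_mul, kr_mul, kr_mul] at hiso
  set S : Matrix (Fin m) (Fin m) F := vecMulVec (G *ᵥ c) (G *ᵥ c) with hSdef
  have e1 : G * cen G c = S := by rw [cen, mul_vecMulVec]
  have e2 : (cen G c)ᵀ * G = -S := by
    rw [cen, transpose_vecMulVec, vecMulVec_mul, hS.sp.vecMul, vecMulVec_neg]
  have e3 : (cen G c)ᵀ * G * cen G c = 0 := by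
    rw [e2, Matrix.neg_mul, hSdef, cen, vecMulVec_mul_vecMulVec, hS.sp.axis_self, zero_smul, vecMulVec_zero,
      neg_zero]
  rw [e3, kr_zero_left, add_zero, e1, e2, ← neg_one_smul F S, kr_smul_left, ← kr_smul_right, add_assoc,
    add_eq_left, ← kr_add_right] at hiso
  have hS0 : S ≠ 0 := fun h0 => by
    obtain ⟨d, hd⟩ := hS.sp.exists_partner hc
    have := congrArg (· *ᵥ d) h0
    simp only [hSdef, vecMulVec_mulVec', axis_dot, hd, one_smul, zero_mulVec] at this
    exact hS.sp.axis_ne hc this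
  have h1 := (kr_eq_zero.mp hiso).resolve_left hS0
  rw [neg_one_smul, add_neg_eq_zero] at h1
  rw [adj, Matrix.mul_assoc, ← h1, ← Matrix.mul_assoc, nonsing_inv_mul J hJ, Matrix.one_mul]

theorem LongSetting.long_add {i : ι} {a b : Matrix (Rest i m) (Rest i m) F} (ha : a ∈ longSet G M i)
    (hb : b ∈ longSet G M i) : a + b ∈ longSet G M i := fun c => by
  have := (ha c).mul (hb c)
  rwa [add_mul, one_mul, mul_add, mul_one, kr_cen_mul hS.sp i (hS.sp.self c), add_zero, add_assoc,
    ← kr_add_right, add_comm b] at this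

theorem LongSetting.long_sq {i : ι} {b : Matrix (Rest i m) (Rest i m) F} (hb : b ∈ longSet G M i) (k : F) :
    (k * k) • b ∈ longSet G M i := fun c => by
  have := hb (k • c)
  rwa [cen, mulVec_smul, smul_vecMulVec, vecMulVec_smul, smul_smul, ← cen, kr_smul_left, ← kr_smul_right] at this

theorem LongSetting.long_smul [Finite F] {i : ι} {b : Matrix (Rest i m) (Rest i m) F} (hb : b ∈ longSet G M i)
    (k : F) : k • b ∈ longSet G M i := by
  obtain ⟨u, v, huv⟩ : ∃ u v : F, u * u + v * v = k := by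
    cases nonempty_fintype F
    by_cases h2 : ringChar F = 2
    · obtain ⟨u, hu⟩ := FiniteField.isSquare_of_char_two h2 k
      exact ⟨u, 0, by rw [mul_zero, add_zero, hu]⟩
    · obtain ⟨u, v, h⟩ := FiniteField.exists_root_sum_quadratic (R := F) (f := Polynomial.X ^ 2)
        (g := Polynomial.X ^ 2 - Polynomial.C k) (Polynomial.degree_X_pow 2)
        (Polynomial.degree_X_pow_sub_C (by decide) _) (FiniteField.odd_card_of_char_ne_two h2)
      refine ⟨u, v, ?_⟩
      simp at h
      linear_combination h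
  rw [← huv, add_smul]
  exact hS.long_add (hS.long_sq hb u) (hS.long_sq hb v)

/-- Conjugation by the other factors. -/
theorem LongSetting.long_conj {i : ι} (l : {j // j ≠ i}) {h : GL (Fin m) F} (hh : h ∈ spG G)
    {b : Matrix (Rest i m) (Rest i m) F} (hb : b ∈ longSet G M i) :
    (embG l h : Matrix (Rest i m) (Rest i m) F) * b *
      (((embG l h)⁻¹ : GL (Rest i m) F) : Matrix (Rest i m) (Rest i m) F) ∈ longSet G M i := fun c => by
  have := hS.inM_emb (i := (l : ι)) (hb c) hh
  rw [conj_one_add, emb_rest i l, emb_rest i l, kr_mul, kr_mul, Matrix.one_mul, Matrix.mul_one] at this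
  rwa [← map_inv, embG_val, embG_val]

end long

/-- The parameters of the short elements. -/
def shortSet (G : Matrix (Fin m) (Fin m) F) (M : Subgroup (GL (ι → Fin m) F)) (i : ι) :
    Set (Matrix (Rest i m) (Rest i m) F) := {a | ∀ c e, om G c e = 0 → InM M (1 + XX G i c e a)}

variable (hS : EndSetting G M)

include hS

theorem EndSetting.short_of_one {i : ι} {c e : Fin m → F} (hce : om G c e = 0) (hind : ∀ k : F, k • c ≠ e)
    (hc : c ≠ 0) {a : Matrix (Rest i m) (Rest i m) F} (h : InM M (1 + XX G i c e a)) :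
    a ∈ shortSet G M i := by
  have key : ∀ c' e', om G c' e' = 0 → (∀ k : F, k • c' ≠ e') → c' ≠ 0 → InM M (1 + XX G i c' e' a) := by
    intro c' e' h1 h2 h3
    obtain ⟨t, ht, htc, hte⟩ := hS.sp.exists_trans_pair hce hind hc h1 h2 h3
    have := hS.inM_emb (i := i) h ht
    rwa [conj_one_add, XX, mul_add, add_mul, conj_kr, conj_kr, mul_vecMulVec, vecMulVec_mul, mul_vecMulVec,
      vecMulVec_mul, vecMul_inv_of_mem_spG ht, vecMul_inv_of_mem_spG ht, htc, hte] at this
  intro c' e' h1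
  rcases eq_or_ne c' 0 with rfl | hc'
  · rw [XX, mulVec_zero, vecMulVec_zero, zero_vecMulVec, kr_zero_left, kr_zero_left, add_zero, add_zero]
    exact InM.one
  by_cases h2 : ∀ k : F, k • c' ≠ e'
  · exact key c' e' h1 h2 hc'
  push Not at h2
  obtain ⟨k, rfl⟩ := h2
  obtain ⟨e₀, h0, h0i⟩ := hS.sp.exists_ortho_indep (by have := hS.four; omega) (c := c')
  have hn : ∀ l : F, l • c' ≠ e₀ + k • c' := fun l hl => h0i (l - k) (by rw [sub_smul, hl, add_sub_cancel_right])
  have hneg : ∀ l : F, l • c' ≠ -e₀ := fun l hl => h0i (-l) (by rw [neg_smul, hl, neg_neg])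
  have h0n : om G c' (-e₀) = 0 := by rw [← neg_one_smul F e₀, om_smul_right, h0, mul_zero]
  have h0k : om G c' (e₀ + k • c') = 0 := by rw [om_add_right, h0, om_smul_right, hS.sp.self, mul_zero, add_zero]
  have hmul : XX G i c' (e₀ + k • c') a * XX G i c' (-e₀) a = 0 := by
    refine XX_mul hS.sp i h0k h0n ?_ a a
    rw [← neg_one_smul F e₀, om_smul_right, om_add_left, hS.sp.self, om_smul_left, h0, mul_zero, add_zero, mul_zero]
  have := (key c' _ h0k hn hc').mul (key c' _ h0n hneg hc')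
  rw [add_mul, one_mul, mul_add, mul_one, hmul, add_zero, add_assoc, ← XX_split] at this
  rwa [show -e₀ + (e₀ + k • c') = k • c' by abel] at this

theorem EndSetting.short_add {i : ι} {a b : Matrix (Rest i m) (Rest i m) F} (ha : a ∈ shortSet G M i)
    (hb : b ∈ shortSet G M i) : a + b ∈ shortSet G M i := by
  obtain ⟨e, he, hei⟩ := hS.sp.exists_ortho_indep (by have := hS.four; omega) (c := Pi.single ⟨0, by have := hS.four; omega⟩ (1 : F))
  refine hS.short_of_one he hei (by simp) ?_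
  have := (ha _ _ he).mul (hb _ _ he)
  rwa [add_mul, one_mul, mul_add, mul_one, XX_mul hS.sp i he he (hS.sp.self e), add_zero, add_assoc, ← XX_add,
    add_comm b] at this

theorem EndSetting.short_smul {i : ι} {a : Matrix (Rest i m) (Rest i m) F} (ha : a ∈ shortSet G M i) (k : F) :
    k • a ∈ shortSet G M i := fun c e h => by
  rw [XX_smul]
  exact ha c (k • e) (by rw [om_smul_right, h, mul_zero])

theorem EndSetting.short_adj {i : ι} {a : Matrix (Rest i m) (Rest i m) F} (ha : a ∈ shortSet G M i) :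
    adj (gram {j // j ≠ i} G) a ∈ shortSet G M i := fun c e h => by
  have := ha e c (hS.sp.axis_zero_iff.mp h)
  rwa [← XX_swap hS.sp i e c a] at this

theorem EndSetting.long_le_short [NeZero m] {i : ι} {b : Matrix (Rest i m) (Rest i m) F}
    (hb : b ∈ longSet G M i) : b ∈ shortSet G M i := by
  set c : Fin m → F := Pi.single 0 1
  have hc : c ≠ 0 := by simp [c]
  obtain ⟨e, he, hei⟩ := hS.sp.exists_ortho_indep (by have := hS.four; omega) (c := c)
  refine hS.short_of_one he hei hc ?_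
  have hec : om G e c = 0 := hS.sp.axis_zero_iff.mp he
  have hn : ∀ d, InM M (1 - kr i (cen G d) b) := fun d => (hb d).inv (by
    rw [add_mul, one_mul, mul_sub, mul_one, kr_cen_mul hS.sp i (hS.sp.self d), sub_zero, sub_add_cancel])
  have := ((hb (c + e)).mul (hn c)).mul (hn e)
  have h3 : cen G (c + e) = cen G c + cen G e + (vecMulVec c (G *ᵥ e) + vecMulVec e (G *ᵥ c)) := by
    rw [cen, cen, cen, mulVec_add, vecMulVec_add, add_vecMulVec, add_vecMulVec]; abel
  convert this using 1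
  have z1 : kr i (cen G (c + e)) b * kr i (cen G c) b = 0 :=
    kr_cen_mul hS.sp i (by rw [om_add_right, hS.sp.self, he, add_zero]) _ _
  have z2 : kr i (cen G (c + e)) b * kr i (cen G e) b = 0 :=
    kr_cen_mul hS.sp i (by rw [om_add_right, hS.sp.self, hec, add_zero]) _ _
  have z3 : kr i (cen G c) b * kr i (cen G e) b = 0 := kr_cen_mul hS.sp i hec _ _
  simp only [mul_sub, sub_mul, add_mul, mul_one, one_mul, z1, z2, z3, sub_zero, add_zero]
  rw [h3, kr_add_left, kr_add_left, kr_add_left, XX, hS.long_adj hb]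
  abel

theorem EndSetting.short_conj {i : ι} (l : {j // j ≠ i}) {h : GL (Fin m) F} (hh : h ∈ spG G)
    {a : Matrix (Rest i m) (Rest i m) F} (ha : a ∈ shortSet G M i) :
    (embG l h : Matrix (Rest i m) (Rest i m) F) * a *
      (((embG l h)⁻¹ : GL (Rest i m) F) : Matrix (Rest i m) (Rest i m) F) ∈ shortSet G M i := fun c e hce => by
  have hJ : IsUnit (gram {j // j ≠ i} G).det := gram_det_unit hS.sp.det
  have := hS.inM_emb (i := (l : ι)) (ha c e hce) hh
  rw [conj_one_add, XX, mul_add, add_mul, emb_rest i l, emb_rest i l, kr_mul, kr_mul, kr_mul, kr_mul, Matrix.one_mul,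
    Matrix.mul_one, Matrix.one_mul, Matrix.mul_one] at this
  rwa [XX, adj_mul hJ, adj_mul hJ, adj_isIso hS.sp (isIso_embG l hh), adj_isIso hS.sp (isIso_embG l hh).inv, inv_inv,
    ← Matrix.mul_assoc, ← map_inv, embG_val, embG_val]

/-- The commutator of a short element and a long one. -/
theorem EndSetting.short_long_comm {i : ι} {c e f : Fin m → F} (hce : om G c e = 0) (hfc : om G f c = 0)
    (hef : om G e f = 1) {a b : Matrix (Rest i m) (Rest i m) F} (ha : a ∈ shortSet G M i)
    (hb : b ∈ longSet G M i) (hb' : adj (gram {j // j ≠ i} G) b = b) :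
    InM M (1 + XX G i c f (a * b) + kr i (cen G c) (-(a * b * adj (gram {j // j ≠ i} G) a))) := by
  have hJ : IsUnit (gram {j // j ≠ i} G).det := gram_det_unit hS.sp.det
  have hG := hS.sp
  have hec : om G e c = 0 := hG.axis_zero_iff.mp hce
  have hcf : om G c f = 0 := hG.axis_zero_iff.mp hfc
  have hfe : om G f e = -1 := by rw [hG.skew, hef]
  set X := XX G i c e a with hX
  set N := kr i (cen G f) b with hN
  have hXX : X * X = 0 := XX_mul hG i hce hce (hG.self e) a a
  have hNN : N * N = 0 := kr_cen_mul hG i (hG.self f) b b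
  have hXn : InM M (1 - X) := (ha c e hce).inv (by
    rw [← hX, add_mul, one_mul, mul_sub, mul_one, hXX, sub_zero, sub_add_cancel])
  have hNn : InM M (1 - N) := (hb f).inv (by
    rw [← hN, add_mul, one_mul, mul_sub, mul_one, hNN, sub_zero, sub_add_cancel])
  have hC := (((hb f).mul (ha c e hce)).mul hNn).mul hXn
  have hNX : N * X = kr i (vecMulVec f (G *ᵥ c)) (b * adj (gram {j // j ≠ i} G) a) := by
    rw [hN, hX, XX, mul_add, kr_mul, kr_mul, cen, vecMulVec_mul_vecMulVec, vecMulVec_mul_vecMulVec, axis_dot,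
      axis_dot, hcf, hef, zero_smul, vecMulVec_zero, kr_zero_left, one_smul, zero_add]
  have hXN : X * N = -kr i (vecMulVec c (G *ᵥ f)) (a * b) := by
    rw [hN, hX, XX, add_mul, kr_mul, kr_mul, cen, vecMulVec_mul_vecMulVec, vecMulVec_mul_vecMulVec, axis_dot,
      axis_dot, hfe, hfc, zero_smul, vecMulVec_zero, kr_zero_left, vecMulVec_smul, neg_one_smul, add_zero,
      ← neg_one_smul F (vecMulVec c (G *ᵥ f)), kr_smul_left, neg_one_smul]
  have hNXN : N * X * N = 0 := by
    rw [hNX, hN, kr_mul, cen, vecMulVec_mul_vecMulVec, axis_dot, hfc, zero_smul, vecMulVec_zero, kr_zero_left]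
  have hXNX : X * N * X = kr i (cen G c) (-(a * b * adj (gram {j // j ≠ i} G) a)) := by
    rw [hXN, hX, XX, neg_mul, mul_add, kr_mul, kr_mul, vecMulVec_mul_vecMulVec, vecMulVec_mul_vecMulVec, axis_dot,
      axis_dot, hcf, hef, zero_smul, vecMulVec_zero, kr_zero_left, one_smul, zero_add, kr_neg_right, cen]
  rw [← hN, ← hX] at hC
  convert hC using 1
  rw [show XX G i c f (a * b) = N * X - X * N by
    rw [hNX, hXN, sub_neg_eq_add, XX, adj_mul hJ, hb', add_comm], ← hXNX]
  simp only [add_mul, mul_sub, mul_add, sub_mul, mul_one, one_mul]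
  simp only [mul_assoc] at hNXN ⊢
  simp only [hXX, hNN, hNXN, mul_zero, sub_zero, add_zero]
  rw [← mul_assoc N N X, hNN, zero_mul]
  rw [show N * (X * (N * X)) = N * (X * N) * X by simp only [mul_assoc], hNXN, zero_mul]
  abel

end CfsgLib.TWSp
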