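import Cfsg.Agent.TensorWreathSp.Unipotent

/-!
# Pure nilpotent elements in invariant spaces of operators

A space of operators invariant under the symplectic groups of all factors which contains an operator
not commuting with all of them contains a non-trivial product of the standard nilpotent matrices.
-/

set_option autoImplicit false
set_option linter.unusedSectionVars false

namespace CfsgLib.TWSp

open Matrix CfsgLib.MaxSub CfsgLib.TWreath

variable {F : Type*} [Field F] {ι : Type} [Fintype ι] [DecidableEq ι] {m : ℕ}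
  {G : Matrix (Fin m) (Fin m) F}

/-- A bilinear map vanishing on orthogonal pairs is a multiple of the form. -/
theorem exists_eq_om_smul {V : Type*} [AddCommGroup V] [Module F V] (hG : SpForm G) (hm : 0 < m)
    (B : (Fin m → F) →ₗ[F] (Fin m → F) →ₗ[F] V) (h : ∀ x y, om G x y = 0 → B x y = 0) :
    ∃ L, ∀ x y, B x y = om G x y • L := by
  obtain ⟨d, hd⟩ := hG.exists_partner (c := Pi.single ⟨0, hm⟩ (1 : F)) (by simp)
  set c : Fin m → F := Pi.single ⟨0, hm⟩ 1
  -- the value at a pair with unit product does not depend on the pair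
  have row : ∀ x y y', om G x y = 1 → om G x y' = 1 → B x y = B x y' := fun x y y' h1 h2 => by
    have := h x (y - y') (by rw [sub_eq_add_neg, ← neg_one_smul F y', om_add_right, om_smul_right, h1, h2]; ring)
    rwa [map_sub, sub_eq_zero] at this
  have col : ∀ x x' y, om G x y = 1 → om G x' y = 1 → B x y = B x' y := fun x x' y h1 h2 => by
    have := h (x - x') y (by rw [sub_eq_add_neg, ← neg_one_smul F x', om_add_left, om_smul_left, h1, h2]; ring)
    rwa [map_sub, LinearMap.sub_apply, sub_eq_zero] at this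
  refine ⟨B d c, fun x y => ?_⟩
  by_cases h0 : om G x y = 0
  · rw [h x y h0, h0, zero_smul]
  have hx : x ≠ 0 := fun e => h0 (by rw [e, om, zero_dotProduct])
  set y1 := (om G x y)⁻¹ • y with hy1
  have h1 : om G x y1 = 1 := by rw [hy1, om_smul_right, inv_mul_cancel₀ h0]
  suffices B x y1 = B d c by
    rw [← this, hy1, map_smul, smul_smul, mul_inv_cancel₀ h0, one_smul]
  by_cases hp : om G x c = 0
  · -- pass through a vector pairing with both
    have hc : c ≠ 0 := by simp [c]
    obtain ⟨z, hz1, hz2⟩ := exists_dot_both (hG.axis_ne hx) (hG.axis_ne hc)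
    rw [dotProduct_comm, axis_dot] at hz1 hz2
    set z1 := (om G x z)⁻¹ • z with hz1'
    have hxz : om G x z ≠ 0 := fun e => hz1 (by rw [hG.skew, e, neg_zero])
    have e1 : om G x z1 = 1 := by rw [hz1', om_smul_right, inv_mul_cancel₀ hxz]
    set z' := (om G d c - om G x c) • (om G x z)⁻¹ • z
    have hzc : om G z c ≠ 0 := hz2
    set w := x + ((1 - om G x c) / om G z c) • z with hw
    have hwc : om G w c = 1 := by rw [hw, om_add_left, om_smul_left, div_mul_cancel₀ _ hzc]; ring
    have hwz : om G w z1 = 1 := by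
      rw [hw, om_add_left, e1, om_smul_left, hz1', om_smul_right, hG.self, mul_zero, mul_zero, add_zero]
    rw [row x y1 z1 h1 e1, col x w z1 e1 hwz, row w z1 c hwz hwc, col w d c hwc hd]
  · set x' := (om G x c)⁻¹ • x with hx'
    have e2 : om G x' c = 1 := by rw [hx', om_smul_left, inv_mul_cancel₀ hp]
    rw [row x y1 ((om G x c)⁻¹ • c) h1 (by rw [om_smul_right, inv_mul_cancel₀ hp]), map_smul,
      ← LinearMap.smul_apply, ← map_smul B, ← hx', col x' d c e2 hd]

/-- The standard nilpotent matrices. -/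
def LowType (G : Matrix (Fin m) (Fin m) F) (T : Matrix (Fin m) (Fin m) F) : Prop :=
  (∃ c, c ≠ 0 ∧ (2 : F) ≠ 0 ∧ T = cen G c) ∨
    ∃ c e, om G c e = 0 ∧ (∀ k : F, k • c ≠ e) ∧ c ≠ 0 ∧ T = wedge G c e

theorem wedge_mulVec (G : Matrix (Fin m) (Fin m) F) (c e x : Fin m → F) :
    wedge G c e *ᵥ x = om G x e • c - om G x c • e := by
  rw [wedge, sub_mulVec, vecMulVec_mulVec', vecMulVec_mulVec', axis_dot, axis_dot]

theorem LowType.kills (hG : SpForm G) {T : Matrix (Fin m) (Fin m) F} (h : LowType G T) :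
    ∃ x, x ≠ 0 ∧ T *ᵥ x = 0 := by
  rcases h with ⟨c, hc, -, rfl⟩ | ⟨c, e, hce, -, hc, rfl⟩
  · exact ⟨c, hc, by rw [cen_mulVec, hG.self, zero_smul]⟩
  · exact ⟨c, hc, by rw [wedge_mulVec, hce, hG.self, zero_smul, zero_smul, sub_zero]⟩

theorem LowType.ne_one (hG : SpForm G) {T : Matrix (Fin m) (Fin m) F} (h : LowType G T) : T ≠ 1 := by
  rintro rfl
  obtain ⟨x, hx, he⟩ := h.kills hG
  exact hx (by rwa [one_mulVec] at he)

theorem LowType.ne_zero (hG : SpForm G) {T : Matrix (Fin m) (Fin m) F} (h : LowType G T) : T ≠ 0 := by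
  rcases h with ⟨c, hc, -, rfl⟩ | ⟨c, e, hce, hind, hc, rfl⟩
  · exact hG.cen_ne hc
  · intro h0
    obtain ⟨d, hd⟩ := hG.exists_partner hc
    have := congrArg (· *ᵥ d) h0
    simp only [wedge_mulVec, hd, one_smul, zero_mulVec, sub_eq_zero] at this
    exact hind _ this

/-- A space of operators invariant under all factors. -/
def InvSub (G : Matrix (Fin m) (Fin m) F) (V : Submodule F (Matrix (ι → Fin m) (ι → Fin m) F)) : Prop :=
  ∀ (j : ι), ∀ h ∈ spG G, ∀ a ∈ V,
    (embG j h : Matrix (ι → Fin m) (ι → Fin m) F) * a *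
      (((embG j h)⁻¹ : GL (ι → Fin m) F) : Matrix (ι → Fin m) (ι → Fin m) F) ∈ V

/-- The contraction of an operator in one factor. -/
noncomputable def con (G : Matrix (Fin m) (Fin m) F) (j : ι) (a : Matrix (ι → Fin m) (ι → Fin m) F) :
    (Fin m → F) →ₗ[F] (Fin m → F) →ₗ[F] Matrix (Rest j m) (Rest j m) F :=
  LinearMap.mk₂ F (fun x y => LinearMap.toMatrix' (proj j (G *ᵥ x) ∘ₗ a.mulVecLin ∘ₗ lift j y))
    (fun x x' y => by
      rw [← map_add]; congr 1
      refine LinearMap.ext fun w => ?_
      simp [mulVec_add, proj_add_axis])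
    (fun k x y => by
      rw [← map_smul]; congr 1
      refine LinearMap.ext fun w => ?_
      simp [mulVec_smul, proj_smul_axis])
    (fun x y y' => by
      rw [← map_add]; congr 1
      refine LinearMap.ext fun w => ?_
      simp [lift_add_left, mulVec_add])
    (fun k x y => by
      rw [← map_smul]; congr 1
      refine LinearMap.ext fun w => ?_
      simp [lift_smul_left, mulVec_smul])

theorem con_mulVec (j : ι) (a : Matrix (ι → Fin m) (ι → Fin m) F) (x y : Fin m → F) (w : Rest j m → F) :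
    con G j a x y *ᵥ w = proj j (G *ᵥ x) (a *ᵥ lift j y w) := by
  rw [con, LinearMap.mk₂_apply, LinearMap.toMatrix'_mulVec]
  rfl

theorem emb_mul_mul_emb (j : ι) (a : Matrix (ι → Fin m) (ι → Fin m) F) (u x y v : Fin m → F) :
    emb j (vecMulVec u (G *ᵥ x)) * a * emb j (vecMulVec y (G *ᵥ v)) =
      kr j (vecMulVec u (G *ᵥ v)) (con G j a x y) := by
  refine ext_lift (i := j) fun z w => ?_
  rw [← mulVec_mulVec, ← mulVec_mulVec, emb_mulVec_lift, emb_eq_kr, kr_vecMulVec_mulVec, one_mulVec,
    vecMulVec_mulVec', lift_smul_left, mulVec_smul, map_smul, map_smul, kr_vecMulVec_mulVec, proj_lift,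
    mulVec_smul, map_smul, con_mulVec]

set_option maxHeartbeats 400000 in
/-- One step of lowering. -/
theorem lower_step (hm : 2 ≤ m) (hm3 : (2 : F) = 0 → 3 ≤ m) (hG : SpForm G) {V : Submodule F (Matrix (ι → Fin m) (ι → Fin m) F)}
    (hV : InvSub G V) {a : Matrix (ι → Fin m) (ι → Fin m) F} (ha : a ∈ V) {j : ι}
    (hna : ∃ c, emb j (cen G c) * a ≠ a * emb j (cen G c)) :
    ∃ T Q, LowType G T ∧ Q ≠ 0 ∧ kr j T Q ∈ V := by
  set B := con G j a
  -- the difference with a conjugate by a root
  have hdiff : ∀ (b : Matrix (ι → Fin m) (ι → Fin m) F), b ∈ V → ∀ c,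
      emb j (cen G c) * b - b * emb j (cen G c) - emb j (cen G c) * b * emb j (cen G c) ∈ V := by
    intro b hb c
    set N := emb j (cen G c) with hN
    have hNN : N * N = 0 := by
      rw [hN, ← emb_mul, cen_mul_cen' hG, emb_zero]
    have h1 := V.sub_mem (hV j _ (hG.spt_mem 1 c) b hb) hb
    have hval : (embG j (spt G 1 c) : Matrix (ι → Fin m) (ι → Fin m) F) = 1 + N := by
      rw [embG_val, hG.spt_val, one_smul, emb_add, emb_one]; rfl
    have hinv : (((embG j (spt G 1 c))⁻¹ : GL (ι → Fin m) F) : Matrix (ι → Fin m) (ι → Fin m) F) = 1 - N := by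
      refine Units.inv_eq_of_mul_eq_one_right ?_
      rw [hval, add_mul, one_mul, mul_sub, mul_one, hNN, sub_zero, sub_add_cancel]
    rw [hval, hinv] at h1
    convert h1 using 1
    noncomm_ring
  have hX : ∀ c e, om G c e = 0 →
      kr j (vecMulVec e (G *ᵥ c)) (B e c) + kr j (vecMulVec c (G *ᵥ e)) (B c e) ∈ V := by
    intro c e hce
    have h1 := V.neg_mem (hdiff _ (hdiff a ha c) e)
    rw [← emb_mul_mul_emb, ← emb_mul_mul_emb, ← cen, ← cen]
    set N := emb j (cen G c)
    set M' := emb j (cen G e)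
    have z1 : M' * N = 0 := by
      show emb j (cen G e) * emb j (cen G c) = 0
      rw [← emb_mul, cen_mul_om, hce, zero_smul, emb_zero]
    have z2 : N * M' = 0 := by
      show emb j (cen G c) * emb j (cen G e) = 0
      rw [← emb_mul, cen_mul_om, hG.axis_zero_iff.mp hce, zero_smul, emb_zero]
    have e1 : M' * (N * a - a * N - N * a * N) = -(M' * a * N) := by
      rw [mul_sub, mul_sub, ← mul_assoc, z1, ← mul_assoc M', ← mul_assoc M' (N * a) N, ← mul_assoc M' N a, z1]
      noncomm_ring
    have e2 : (N * a - a * N - N * a * N) * M' = N * a * M' := by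
      rw [sub_mul, sub_mul, mul_assoc a N, z2, mul_assoc (N * a) N, z2]
      noncomm_ring
    rw [e1, e2, neg_mul, mul_assoc (M' * a), z2] at h1
    convert h1 using 1
    noncomm_ring
  by_cases hd : ∃ c, B c c ≠ 0
  · obtain ⟨c, hc⟩ := hd
    have hc0 : c ≠ 0 := fun e => hc (by rw [e, map_zero])
    by_cases h2 : (2 : F) = 0
    · -- characteristic two
      obtain ⟨e, hce, hind⟩ : ∃ e, om G c e = 0 ∧ ∀ k : F, k • c ≠ e := by
        obtain ⟨f, g, hf, hg, hf0, hfg⟩ := exists_two_in_kerDot (hm3 h2) (G *ᵥ c)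
        rw [axis_dot] at hf hg
        by_cases h1 : ∀ l : F, l • c ≠ f
        · exact ⟨f, hG.axis_zero_iff.mp hf, h1⟩
        push Not at h1
        obtain ⟨l, hl⟩ := h1
        refine ⟨g, hG.axis_zero_iff.mp hg, fun l' hl' => ?_⟩
        have hl0 : l ≠ 0 := fun e => hf0 (by rw [← hl, e, zero_smul])
        exact hfg (l' / l) (by rw [← hl, smul_smul, div_mul_cancel₀ _ hl0, hl'])
      obtain ⟨g, hg1, hg2⟩ := exists_dot_eq_zero_one (a := G *ᵥ c) (b := G *ᵥ e) fun k hk =>
        hind k (mulVec_injective_iff_isUnit.mpr ((Matrix.isUnit_iff_isUnit_det _).mpr hG.det)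
          (by rw [mulVec_smul, hk]))
      rw [axis_dot] at hg1 hg2
      have heg : om G e g = -1 := by rw [hG.skew, hg2]
      have hcg : om G c g = 0 := hG.axis_zero_iff.mp hg1
      have hec : om G e c = 0 := hG.axis_zero_iff.mp hce
      have hgc : ∀ k : F, k • c ≠ g := fun k hk => one_ne_zero (α := F) (by
        rw [← hg2, ← hk, om_smul_left, hce, mul_zero])
      have hZ : kr j (sh G c e) (B c c) + kr j (cen G c) (B e c + B c e) ∈ V := by
        have h1 := V.sub_mem (V.sub_mem (hX c (e + c) (by rw [om_add_right, hce, hG.self, add_zero]))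
          (hX c e hce)) (hX c c (hG.self c))
        convert h1 using 1
        simp only [map_add, LinearMap.add_apply, mulVec_add, add_vecMulVec, vecMulVec_add, kr_add_left,
          kr_add_right, cen, sh]
        abel
      refine ⟨wedge G c g, B c c, Or.inr ⟨c, g, hcg, hgc, hc0, rfl⟩, hc, ?_⟩
      have h1 := V.neg_mem (hdiff _ hZ g)
      have k1 : cen G g * sh G c e = -(vecMulVec g (G *ᵥ c)) := by
        rw [cen, sh, mul_add, vecMulVec_mul_vecMulVec, vecMulVec_mul_vecMulVec, axis_dot, axis_dot, hcg, heg,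
          vecMulVec_smul, vecMulVec_smul, zero_smul, neg_one_smul, zero_add]
      have k2 : sh G c e * cen G g = vecMulVec c (G *ᵥ g) := by
        rw [cen, sh, add_mul, vecMulVec_mul_vecMulVec, vecMulVec_mul_vecMulVec, axis_dot, axis_dot, hg1, hg2,
          vecMulVec_smul, vecMulVec_smul, zero_smul, one_smul, add_zero]
      have k3 : cen G g * cen G c = 0 := by rw [cen_mul_om, hcg, zero_smul]
      have k4 : cen G c * cen G g = 0 := by rw [cen_mul_om, hg1, zero_smul]
      have k5 : vecMulVec g (G *ᵥ c) * cen G g = 0 := by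
        rw [cen, vecMulVec_mul_vecMulVec, axis_dot, hg1, zero_smul, vecMulVec_zero]
      simp only [mul_add, add_mul, emb_eq_kr, kr_mul, Matrix.one_mul, Matrix.mul_one, k3, k4, k1, k2,
        neg_mul, k5, neg_zero, Matrix.zero_mul, kr_zero_left, add_zero, sub_zero] at h1
      convert h1 using 1
      rw [← kr_sub_left, ← neg_one_smul F (kr j _ _), ← kr_smul_left]
      congr 1
      ext r s
      simp only [wedge, Matrix.smul_apply, Matrix.sub_apply, Matrix.neg_apply, vecMulVec_apply, smul_eq_mul]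
      linear_combination (-(g r * (G *ᵥ c) s)) * h2
    · refine ⟨cen G c, B c c, Or.inl ⟨c, hc0, h2, rfl⟩, hc, ?_⟩
      have h1 := V.smul_mem (2 : F)⁻¹ (hX c c (hG.self c))
      rwa [← two_smul F, smul_smul, inv_mul_cancel₀ h2, one_smul] at h1
  push Not at hd
  by_cases hp : ∃ c e, om G c e = 0 ∧ B c e ≠ 0
  · obtain ⟨c, e, hce, hne⟩ := hp
    have hskew : B e c = - B c e := by
      have := hd (c + e)
      simp only [map_add, LinearMap.add_apply, hd c, hd e, zero_add, add_zero] at this
      exact eq_neg_of_add_eq_zero_left this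
    have hc0 : c ≠ 0 := fun e0 => hne (by rw [e0, map_zero]; rfl)
    refine ⟨wedge G c e, B c e, Or.inr ⟨c, e, hce, fun k hk => hne ?_, hc0, rfl⟩, hne, ?_⟩
    · rw [← hk, map_smul, hd c, smul_zero]
    · have h1 := hX c e hce
      rwa [hskew, kr_neg_right, neg_add_eq_sub, ← kr_sub_left] at h1
  -- otherwise `a` commutes with the factor
  exfalso
  push Not at hp
  obtain ⟨L, hL⟩ := exists_eq_om_smul hG (by omega) B hp
  have hae : a = kr j 1 (-L) := by
    refine ext_lift (i := j) fun y w => ?_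
    rw [kr_mulVec_lift, one_mulVec]
    rw [eq_sum_lift j (a *ᵥ lift j y w), eq_sum_lift j (lift j y ((-L) *ᵥ w))]
    refine Finset.sum_congr rfl fun k _ => congrArg _ ?_
    obtain ⟨x, hx⟩ := hG.exists_axis (Pi.single k 1)
    rw [← hx, ← con_mulVec, show con G j a x y = B x y from rfl, hL, proj_lift, axis_dot, hG.skew x y,
      neg_mulVec, neg_smul, smul_neg, neg_neg, smul_mulVec]
  obtain ⟨c, hc⟩ := hna
  apply hc
  rw [hae, emb_eq_kr, kr_mul, kr_mul, Matrix.one_mul, Matrix.mul_one, Matrix.one_mul, Matrix.mul_one]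
where
  cen_mul_om {c d : Fin m → F} : cen G c * cen G d = om G d c • vecMulVec c (G *ᵥ d) := by
    rw [cen, cen, vecMulVec_mul_vecMulVec, axis_dot, vecMulVec_smul]
  cen_mul_cen' (hG : SpForm G) {c : Fin m → F} : cen G c * cen G c = 0 := by
    rw [cen, vecMulVec_sq (hG.axis_self c)]

/-- Matrices commuting with the roots of a factor commute with that factor. -/
theorem comm_emb_of_comm_cen (hm : 0 < m) (hG : SpForm G) {a : Matrix (ι → Fin m) (ι → Fin m) F} {j : ι}
    (h : ∀ c, emb j (cen G c) * a = a * emb j (cen G c)) (A : Matrix (Fin m) (Fin m) F) :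
    a * emb j A = emb j A * a := by
  let S : Subalgebra F (Matrix (Fin m) (Fin m) F) :=
    (Subalgebra.centralizer F ({a} : Set (Matrix (ι → Fin m) (ι → Fin m) F))).comap (embAlg j)
  have hS : ∀ {A}, A ∈ S ↔ a * emb j A = emb j A * a := fun {A} => by
    show emb j A ∈ Subalgebra.centralizer F ({a} : Set (Matrix (ι → Fin m) (ι → Fin m) F)) ↔ _
    rw [Subalgebra.mem_centralizer_iff]
    simp [eq_comm]
  have hcen : ∀ c, cen G c ∈ S := fun c => hS.mpr (h c).symm
  have hone : ∀ x y, om G y x ≠ 0 → vecMulVec x (G *ᵥ y) ∈ S := fun x y hxy => by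
    have := S.smul_mem (S.mul_mem (hcen x) (hcen y)) (om G y x)⁻¹
    rwa [cen, cen, vecMulVec_mul_vecMulVec, axis_dot, vecMulVec_smul, smul_smul, inv_mul_cancel₀ hxy,
      one_smul] at this
  have hall : ∀ x φ, vecMulVec x φ ∈ S := fun x φ => by
    rcases eq_or_ne x 0 with rfl | hx
    · rw [zero_vecMulVec]; exact S.zero_mem
    obtain ⟨y, rfl⟩ := hG.exists_axis φ
    by_cases hxy : om G y x = 0
    · obtain ⟨d, hd⟩ := hG.exists_partner hx
      have h1 := S.sub_mem (hone x (y + d) (by rw [om_add_left, hxy, hd, zero_add]; exact one_ne_zero))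
        (hone x d (by rw [hd]; exact one_ne_zero))
      rwa [mulVec_add, vecMulVec_add, add_sub_cancel_right] at h1
    · exact hone x y hxy
  refine hS.mp ?_
  rw [show A = ∑ p, vecMulVec (A.col p) (Pi.single p 1) by
    ext r s; simp [Matrix.sum_apply, vecMulVec_apply, Pi.single_apply]]
  exact S.sum_mem fun p _ => hall _ _

/-- An invariant space with a non-scalar element contains a product of standard nilpotent matrices. -/
theorem lowering_gen (hm : 2 ≤ m) (hm3 : (2 : F) = 0 → 3 ≤ m) (hG : SpForm G) : ∀ (n : ℕ) (ι : Type) [Fintype ι] [DecidableEq ι],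
    Fintype.card ι = n → ∀ (V : Submodule F (Matrix (ι → Fin m) (ι → Fin m) F)), InvSub G V →
    ∀ a ∈ V, (∀ s : F, a ≠ s • 1) →
    ∃ gs : ι → Matrix (Fin m) (Fin m) F, Pt gs ∈ V ∧ (∀ k, gs k = 1 ∨ LowType G (gs k)) ∧ ∃ k, gs k ≠ 1 := by
  intro n
  induction n using Nat.strong_induction_on with
  | _ n ih =>
    intro ι _ _ hn V hV a ha hs
    have : NeZero m := ⟨by omega⟩
    obtain ⟨j, hj⟩ : ∃ j, ∃ c, emb j (cen G c) * a ≠ a * emb j (cen G c) := by
      by_contra hcon
      push Not at hcon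
      obtain ⟨s, hs'⟩ := scalar_of_comm_emb fun l A => comm_emb_of_comm_cen (by omega) hG (hcon l) A
      exact hs s hs'
    obtain ⟨T, Q, hT, hQ, hTQ⟩ := lower_step hm hm3 hG hV ha hj
    by_cases hQs : ∃ s : F, Q = s • 1
    · obtain ⟨s, rfl⟩ := hQs
      refine ⟨Function.update 1 j T, ?_, fun k => ?_, j, by rw [Function.update_self]; exact hT.ne_one hG⟩
      · have hs0 : s ≠ 0 := fun e => hQ (by rw [e, zero_smul])
        have h1 := V.smul_mem s⁻¹ hTQ
        rwa [kr_smul_right, smul_smul, inv_mul_cancel₀ hs0, one_smul, ← emb_eq_kr] at h1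
      · rcases eq_or_ne k j with rfl | hk
        · exact Or.inr (by rwa [Function.update_self])
        · exact Or.inl (by rw [Function.update_of_ne hk]; rfl)
    push Not at hQs
    let f : Matrix (Rest j m) (Rest j m) F →ₗ[F] Matrix (ι → Fin m) (ι → Fin m) F :=
      { toFun := kr j T
        map_add' := fun L K => kr_add_right j T L K
        map_smul' := fun k L => kr_smul_right j k T L }
    have hV' : InvSub G (V.comap f) := by
      intro l h hh b hb
      show kr j T _ ∈ V
      have h1 := hV (l : ι) h hh _ hb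
      rw [show f b = kr j T b from rfl, ← map_inv, embG_val, embG_val, emb_rest, emb_rest, kr_mul, kr_mul,
        Matrix.one_mul, Matrix.mul_one] at h1
      rwa [← map_inv, embG_val, embG_val]
    have hlt : Fintype.card {k // k ≠ j} < n := by
      rw [← hn]; exact Fintype.card_subtype_lt (x := j) (by simp)
    obtain ⟨gs, hgs, hty, -⟩ := ih _ hlt {k // k ≠ j} rfl (V.comap f) hV' Q hTQ hQs
    refine ⟨fun k => if h : k = j then T else gs ⟨k, h⟩, ?_, fun k => ?_, j, by
      simpa using hT.ne_one hG⟩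
    · rw [Pt_eq_kr _ j]
      show kr j (if h : j = j then T else gs ⟨j, h⟩) _ ∈ V
      rw [dif_pos rfl, show (fun k : {k // k ≠ j} => if h : (k : ι) = j then T else gs ⟨k, h⟩) = gs from
        funext fun k => dif_neg k.2]
      exact hgs
    · by_cases hk : k = j
      · refine Or.inr ?_
        show LowType G (if h : k = j then T else gs ⟨k, h⟩)
        rw [dif_pos hk]; exact hT
      · simp only [dif_neg hk]; exact hty _

/-- An invariant space with a non-scalar element, factors of dimension at least three. -/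
theorem lowering (hm : 3 ≤ m) (hG : SpForm G) : ∀ (n : ℕ) (ι : Type) [Fintype ι] [DecidableEq ι],
    Fintype.card ι = n → ∀ (V : Submodule F (Matrix (ι → Fin m) (ι → Fin m) F)), InvSub G V →
    ∀ a ∈ V, (∀ s : F, a ≠ s • 1) →
    ∃ gs : ι → Matrix (Fin m) (Fin m) F, Pt gs ∈ V ∧ (∀ k, gs k = 1 ∨ LowType G (gs k)) ∧ ∃ k, gs k ≠ 1 :=
  lowering_gen (by omega) (fun _ => hm) hG

end CfsgLib.TWSp
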