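import Cfsg.Agent.TensorWreathSp.SpMain
import Cfsg.Agent.OrthMax.Basic
import Cfsg.Agent.TensorOrth.Setup

/-!
# Symplectic tensor powers inside orthogonal groups

The factor groups and the three-cycles of factors lie in `Ω`; the short parameters make every
split tensor a full singular point.
-/

set_option autoImplicit false
set_option linter.unusedSectionVars false

namespace CfsgLib.TWSp

open Matrix CfsgLib.MaxSub CfsgLib.TWreath
open CfsgLib.OrthMax (Isom RootMem Full eich_mem_omega omega_le_of_full_pair)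
open CfsgLib.Forms (eich eich_mulVec eichIso mat_eichIso)
open CfsgLib.Spinor (mat)

variable {F : Type*} [Field F] {ι : Type} [Fintype ι] [DecidableEq ι] {m : ℕ}
  {G : Matrix (Fin m) (Fin m) F}

/-- The symplectic group of one factor is generated by transvections. -/
theorem SpForm.mem_of_spt (hG : SpForm G) {X : Subgroup (GL (Fin m) F)} (h : ∀ s c, spt G s c ∈ X)
    {g : GL (Fin m) F} (hg : g ∈ spG G) : g ∈ X := by
  let fixS : GL (Fin m) F → Submodule F (Fin m → F) := fun g =>
    LinearMap.ker ((g : Matrix (Fin m) (Fin m) F).mulVecLin - LinearMap.id)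
  have hfix : ∀ {g v}, v ∈ fixS g ↔ (g : Matrix (Fin m) (Fin m) F) *ᵥ v = v := fun {g v} => by
    simp [fixS, LinearMap.mem_ker, sub_eq_zero]
  -- one transvection removes a vector with non-zero pairing
  have step : ∀ g ∈ spG G, ∀ v, om G v ((g : Matrix (Fin m) (Fin m) F) *ᵥ v) ≠ 0 →
      ∃ t ∈ X, t * g ∈ spG G ∧ fixS g < fixS (t * g) := by
    intro g hg v hv
    set w := v - (g : Matrix (Fin m) (Fin m) F) *ᵥ v with hw
    set s := (om G ((g : Matrix (Fin m) (Fin m) F) *ᵥ v) v)⁻¹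
    have hne : om G ((g : Matrix (Fin m) (Fin m) F) *ᵥ v) v ≠ 0 := fun h0 => hv (hG.axis_zero_iff.mp h0)
    have hsub : ∀ a b x, om G x (a - b) = om G x a - om G x b := fun a b x => by
      rw [sub_eq_add_neg, ← neg_one_smul F b, om_add_right, om_smul_right]; ring
    refine ⟨spt G s w, h s w, (spG G).mul_mem (hG.spt_mem s w) hg, lt_of_le_of_ne (fun x hx => ?_) fun he => ?_⟩
    · rw [hfix] at hx ⊢
      rw [Units.val_mul, ← mulVec_mulVec, hx, hG.spt_mulVec, hw, hsub]
      conv_lhs => arg 2; arg 1; arg 2; arg 2; arg 2; rw [← hx]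
      rw [om_of_mem_spG hg, sub_self, mul_zero, zero_smul, add_zero]
    · have h1 : v ∈ fixS (spt G s w * g) := by
        rw [hfix, Units.val_mul, ← mulVec_mulVec, hG.spt_mulVec, hw, hsub, hG.self, sub_zero,
          inv_mul_cancel₀ hne, one_smul, add_sub_cancel]
      rw [← he, hfix] at h1
      rw [h1, hG.self] at hv
      exact hv rfl
  suffices H : ∀ n, ∀ g ∈ spG G, m - Module.finrank F (fixS g) ≤ n → g ∈ X from H _ g hg le_rfl
  intro n
  induction n with
  | zero =>
    intro g _ hn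
    have htop : fixS g = ⊤ := Submodule.eq_top_of_finrank_eq (by
      have := Submodule.finrank_le (fixS g)
      rw [Module.finrank_fin_fun] at this ⊢; omega)
    rw [show g = 1 from Units.ext (Matrix.ext_of_mulVec_single fun k => by
      rw [Units.val_one, one_mulVec]; exact hfix.mp (htop ▸ Submodule.mem_top))]
    exact X.one_mem
  | succ n ih =>
    intro g hg hn
    have fin : ∀ t ∈ X, t * g ∈ spG G → fixS g < fixS (t * g) → g ∈ X := fun t ht hmem hlt => by
      have h1 := Submodule.finrank_lt_finrank_of_lt hlt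
      have h2 := Submodule.finrank_le (fixS (t * g))
      rw [Module.finrank_fin_fun] at h2
      have := X.mul_mem (X.inv_mem ht) (ih _ hmem (by omega))
      rwa [inv_mul_cancel_left] at this
    by_cases h1 : ∃ v, om G v ((g : Matrix (Fin m) (Fin m) F) *ᵥ v) ≠ 0
    · obtain ⟨v, hv⟩ := h1
      obtain ⟨t, ht, hmem, hlt⟩ := step g hg v hv
      exact fin t ht hmem hlt
    push Not at h1
    by_cases hone : g = 1
    · exact hone ▸ X.one_mem
    obtain ⟨k, hk⟩ : ∃ k, (g : Matrix (Fin m) (Fin m) F) *ᵥ Pi.single k 1 ≠ Pi.single k 1 := by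
      by_contra hc
      push Not at hc
      exact hone (Units.ext (Matrix.ext_of_mulVec_single fun k => by rw [Units.val_one, one_mulVec, hc]))
    set v : Fin m → F := Pi.single k 1
    set gv := (g : Matrix (Fin m) (Fin m) F) *ᵥ v
    obtain ⟨y, hy⟩ := hG.exists_partner (c := gv - v) (sub_ne_zero.mpr hk)
    set u := (g : Matrix (Fin m) (Fin m) F) *ᵥ y - y with hu
    have hpol : om G v ((g : Matrix (Fin m) (Fin m) F) *ᵥ y) = om G gv y := by
      have := h1 (v + y)
      rw [mulVec_add, om_add_left, om_add_right, om_add_right, h1 v, h1 y, zero_add, add_zero,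
        hG.skew gv y] at this
      linear_combination this
    have hsubr : ∀ a b x, om G x (a - b) = om G x a - om G x b := fun a b x => by
      rw [sub_eq_add_neg, ← neg_one_smul F b, om_add_right, om_smul_right]; ring
    have hsubl : ∀ a b x, om G (a - b) x = om G a x - om G b x := fun a b x => by
      rw [sub_eq_add_neg, ← neg_one_smul F b, om_add_left, om_smul_left]; ring
    have e1 : om G v u = -1 := by
      rw [hu, hsubr, hpol, ← hsubl, hG.skew y, hy]
    have e2 : om G gv u = 1 := by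
      have e : om G gv ((g : Matrix (Fin m) (Fin m) F) *ᵥ y) = om G v y := om_of_mem_spG hg v y
      rw [hu, hsubr, e, show om G v y - om G gv y = -(om G gv y - om G v y) by ring, ← hsubl, hG.skew y, hy,
        neg_neg]
    have ht : spt G 1 u * g ∈ spG G := (spG G).mul_mem (hG.spt_mem 1 u) hg
    have hfle : fixS g ≤ fixS (spt G 1 u * g) := fun x hx => by
      rw [hfix] at hx ⊢
      rw [Units.val_mul, ← mulVec_mulVec, hx, hG.spt_mulVec, hu, hsubr]
      conv_lhs => arg 2; arg 1; arg 2; arg 1; arg 2; rw [← hx]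
      rw [om_of_mem_spG hg, sub_self, mul_zero, zero_smul, add_zero]
    obtain ⟨t, ht', hmem, hlt⟩ := step _ ht v (by
      rw [Units.val_mul, ← mulVec_mulVec, hG.spt_mulVec, om_add_right, om_smul_right, h1 v, e1, e2]
      norm_num)
    rw [← mul_assoc] at hmem hlt
    exact fin _ (X.mul_mem ht' (h 1 u)) hmem (lt_of_le_of_lt hfle hlt)

/-- An orthogonal space with a symplectic tensor power structure. -/
structure OSet (G : Matrix (Fin m) (Fin m) F) (Q : QuadraticForm F ((ι → Fin m) → F)) (c₀ : F) : Prop where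
  sp : SpForm G
  ne : c₀ ≠ 0
  polar : ∀ x y, QuadraticMap.polar (⇑Q) x y = c₀ * (x ⬝ᵥ gram ι G *ᵥ y)
  pure : ∀ xs : ι → Fin m → F, Q (pten xs) = 0

namespace OSet

variable {Q : QuadraticForm F ((ι → Fin m) → F)} {c₀ : F} (hO : OSet G Q c₀)

include hO

theorem nondeg : (QuadraticMap.polarBilin Q).Nondegenerate := by
  have hJ : IsUnit (gram ι G).det := gram_det_unit hO.sp.det
  constructor
  · intro x hx
    have h : ∀ y, y ⬝ᵥ gram ι G *ᵥ x = 0 := fun y => by
      have h1 := hx y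
      rw [QuadraticMap.polarBilin_apply_apply, QuadraticMap.polar_comm, hO.polar] at h1
      exact (mul_eq_zero.mp h1).resolve_left hO.ne
    refine eq_of_form_eq hJ fun y => ?_
    rw [h, mulVec_zero, dotProduct_zero]
  · intro x hx
    refine eq_of_form_eq hJ fun y => ?_
    have h1 := hx y
    rw [QuadraticMap.polarBilin_apply_apply, hO.polar] at h1
    rw [(mul_eq_zero.mp h1).resolve_left hO.ne, mulVec_zero, dotProduct_zero]

theorem polar_symm (x y : (ι → Fin m) → F) : x ⬝ᵥ gram ι G *ᵥ y = y ⬝ᵥ gram ι G *ᵥ x :=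
  mul_left_cancel₀ hO.ne (by rw [← hO.polar, ← hO.polar, QuadraticMap.polar_comm])

theorem sign_eq [NeZero m] : (-1 : F) ^ Fintype.card ι = 1 := by
  have h1 : (gram ι G)ᵀ = gram ι G := by
    ext a b
    have := hO.polar_symm (Pi.single b 1) (Pi.single a 1)
    simpa [single_dotProduct, mulVec_single] using this
  rw [gram_transpose hO.sp] at h1
  by_contra hne
  have h2 : ((-1 : F) ^ Fintype.card ι - 1) • gram ι G = 0 := by rw [sub_smul, one_smul, h1, sub_self]
  rcases smul_eq_zero.mp h2 with h | h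
  · exact hne (sub_eq_zero.mp h)
  · have hJ : IsUnit (gram ι G).det := gram_det_unit hO.sp.det
    rw [h, det_zero] at hJ
    exact not_isUnit_zero hJ

/-- Split tensors with an arbitrary second part are singular. -/
theorem quad_lift (i : ι) (c : Fin m → F) (w : Rest i m → F) : Q (lift i c w) = 0 := by
  classical
  have key : ∀ (S : Finset (Rest i m)), Q (lift i c (∑ b ∈ S, Pi.single b (w b))) = 0 := by
    intro S
    induction S using Finset.induction with
    | empty => simp
    | insert b S hb ih =>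
      rw [Finset.sum_insert hb, map_add, QuadraticMap.map_add (⇑Q), ih, add_zero, hO.polar, form_lift,
        hO.sp.self, zero_mul, mul_zero, add_zero]
      have hp : lift i c (Pi.single b (1 : F)) =
          pten (fun k => if h : k = i then c else (Pi.single (b ⟨k, h⟩) 1 : Fin m → F)) := by
        funext a
        rw [lift_apply, pten]
        rw [← Finset.mul_prod_erase Finset.univ _ (Finset.mem_univ i), dif_pos rfl]
        congr 1
        rw [← pten_single b, pten, Finset.prod_subtype (Finset.univ.erase i) (p := fun j => j ≠ i) (by simp)]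
        exact Finset.prod_congr rfl fun j _ => by rw [dif_neg j.2]
      rw [show (Pi.single b (w b) : Rest i m → F) = w b • Pi.single b 1 by
        rw [← Pi.single_smul', smul_eq_mul, mul_one], map_smul, QuadraticMap.map_smul, hp, hO.pure, smul_zero]
  have := key Finset.univ
  rwa [Finset.univ_sum_single] at this

/-- A map preserving pure tensors and the form is an isometry. -/
theorem quad_mulVec_of_pure {g : GL (ι → Fin m) F} (hg : IsIso G g)
    (hp : ∀ xs, ∃ ys, (g : Matrix (ι → Fin m) (ι → Fin m) F) *ᵥ pten xs = pten ys) (v : (ι → Fin m) → F) :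
    Q ((g : Matrix (ι → Fin m) (ι → Fin m) F) *ᵥ v) = Q v := by
  classical
  set A := (g : Matrix (ι → Fin m) (ι → Fin m) F)
  have hadd : ∀ x y, Q (A *ᵥ x) = Q x → Q (A *ᵥ y) = Q y → Q (A *ᵥ (x + y)) = Q (x + y) := fun x y h1 h2 => by
    rw [mulVec_add, QuadraticMap.map_add (⇑Q), QuadraticMap.map_add (⇑Q), h1, h2, hO.polar, hO.polar, hg.form]
  have key : ∀ S : Finset (ι → Fin m), Q (A *ᵥ ∑ a ∈ S, Pi.single a (v a)) = Q (∑ a ∈ S, Pi.single a (v a)) := by
    intro S
    induction S using Finset.induction with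
    | empty => simp
    | insert a S ha ih =>
      rw [Finset.sum_insert ha]
      refine hadd _ _ ?_ ih
      obtain ⟨ys, hys⟩ := hp fun k => Pi.single (a k) 1
      rw [show (Pi.single a (v a) : (ι → Fin m) → F) = v a • Pi.single a 1 by
        rw [← Pi.single_smul', smul_eq_mul, mul_one], mulVec_smul, QuadraticMap.map_smul, QuadraticMap.map_smul,
        ← pten_single a, hys, hO.pure, hO.pure]
  have := key Finset.univ
  rwa [Finset.univ_sum_single] at this

/-- A factor isometry. -/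
theorem exists_fac (i : ι) {h : GL (Fin m) F} (hh : h ∈ spG G) :
    ∃ g : Isom Q, (g : GL (ι → Fin m) F) = embG i h :=
  ⟨⟨embG i h, fun v _ => hO.quad_mulVec_of_pure (isIso_embG i hh)
    (fun xs => ⟨_, by rw [embG_val, emb_mulVec_pten]⟩) v⟩, rfl⟩

/-- A factor permutation. -/
theorem exists_perm (σ : Equiv.Perm ι) : ∃ g : Isom Q, (g : GL (ι → Fin m) F) = pmG σ :=
  ⟨⟨pmG σ, fun v _ => hO.quad_mulVec_of_pure (isIso_pmG σ)
    (fun xs => ⟨_, by rw [pmG_val, pm_mulVec_pten]⟩) v⟩, rfl⟩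

variable [Fintype F]

theorem rt_mem_omega (hm6 : (2 : F) = 0 → 6 ≤ m) (i : ι) (s : F) (c : Fin m → F) :
    rt G i s c ∈ Cfsg.Geo.omegaGL ⇑Q := by
  classical
  obtain ⟨g, hg⟩ := hO.exists_fac i (hO.sp.spt_mem s c)
  by_cases h2 : (2 : F) ≠ 0
  · obtain ⟨g', hg'⟩ := hO.exists_fac i (hO.sp.spt_mem (2⁻¹ * s) c)
    have h := TensorOrth.sq_mem_omega h2 hO.nondeg g'
    have he : ((g' * g' : Isom Q) : GL (ι → Fin m) F) = rt G i s c := by
      rw [Subgroup.coe_mul, hg', ← map_mul]
      show embG i _ = embG i _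
      congr 1
      apply Units.ext
      rw [Units.val_mul, hO.sp.spt_val, hO.sp.spt_val, mul_add, mul_one, add_mul, one_mul,
        vecMulVec_mul_vecMulVec, dotProduct_smul, hO.sp.axis_self, smul_zero, zero_smul, vecMulVec_zero, add_zero,
        add_assoc, ← add_vecMulVec, ← add_smul, ← two_mul, mul_inv_cancel_left₀ h2]
    exact he ▸ Subgroup.mem_map_of_mem _ h
  push Not at h2
  have hchar : CharP F 2 := CharTwo.of_one_ne_zero_of_two_eq_zero one_ne_zero h2
  rcases eq_or_ne c 0 with rfl | hc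
  · rw [show rt G i s (0 : Fin m → F) = 1 from Units.ext (by
      rw [hO.sp.rt_val, cen, zero_vecMulVec, kr_zero_left, add_zero, Units.val_one])]
    exact Subgroup.one_mem _
  obtain ⟨r, rfl⟩ : IsSquare s := FiniteField.isSquare_of_char_two (ringChar.eq F 2) s
  rw [show rt G i (r * r) c = rt G i 1 (r • c) from Units.ext (by
    rw [hO.sp.rt_val, hO.sp.rt_val, cen, cen, mulVec_smul, smul_vecMulVec, vecMulVec_smul, smul_smul, kr_smul_right,
      kr_smul_right, kr_smul_left, one_smul])]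
  rcases eq_or_ne (r • c) 0 with h0 | hc'
  · rw [h0, show rt G i 1 (0 : Fin m → F) = 1 from Units.ext (by
      rw [hO.sp.rt_val, cen, zero_vecMulVec, kr_zero_left, add_zero, Units.val_one])]
    exact Subgroup.one_mem _
  have : NeZero m := ⟨by have := hm6 h2; omega⟩
  obtain ⟨c1, c2, c3, h12, h13, h23, hd⟩ : ∃ c1 c2 c3 : Fin m → F, om G c1 c2 = 0 ∧ om G c1 c3 = 0 ∧
      om G c2 c3 = 0 ∧ (c1 ≠ 0 ∧ c2 ≠ 0 ∧ c3 ≠ 0 ∧ c1 + c2 ≠ 0 ∧ c1 + c3 ≠ 0 ∧ c2 + c3 ≠ 0 ∧ c1 + c2 + c3 ≠ 0) :=
    exists_triple hO.sp (hm6 h2)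
  -- all non-trivial roots have the same class
  have hrt : ∀ d, ∃ g : Isom Q, (g : GL (ι → Fin m) F) = rt G i 1 d := fun d => hO.exists_fac i (hO.sp.spt_mem 1 d)
  choose R hR using hrt
  let Ab := Isom Q ⧸ Cfsg.Omega F ⇑Q
  have hab : ∀ x y : Isom Q, x⁻¹ * y⁻¹ * x * y ∈ Cfsg.Omega F ⇑Q := fun x y => by
    have := Subgroup.commutator_mem_commutator (Subgroup.mem_top x⁻¹) (Subgroup.mem_top y⁻¹)
    rw [commutatorElement_def, inv_inv, inv_inv] at this
    exact this
  have hclass : ∀ d, d ≠ 0 → (R d)⁻¹ * R c1 ∈ Cfsg.Omega F ⇑Q := by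
    intro d hd'
    obtain ⟨h, hh, hhd⟩ := hO.sp.exists_trans hd' hd.1
    obtain ⟨k, hk⟩ := hO.exists_fac i hh
    have he : R c1 = k * R d * k⁻¹ := by
      apply Subtype.ext
      apply Units.ext
      rw [Subgroup.coe_mul, Subgroup.coe_mul, Subgroup.coe_inv, hR, hR, hk, Units.val_mul, Units.val_mul,
        hO.sp.rt_val, hO.sp.rt_val, ← map_inv, embG_val, embG_val, one_smul, conj_one_add, conj_kr, conj_cen hh,
        hhd]
    rw [he, ← mul_assoc, ← mul_assoc]
    have h1 := hab (R d) k⁻¹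
    rwa [inv_inv] at h1
  have hnorm : (Cfsg.Omega F ⇑Q).Normal := by rw [Cfsg.Omega]; infer_instance
  let π : Isom Q →* Isom Q ⧸ Cfsg.Omega F ⇑Q := QuotientGroup.mk' _
  have heq : ∀ d, d ≠ 0 → π (R d) = π (R c1) := fun d hd' => QuotientGroup.eq.mpr (hclass d hd')
  have hprod : R c1 = R c2 * R c3 * (R (c1 + c2) * R (c1 + c3)) * (R (c2 + c3) * R (c1 + c2 + c3)) := by
    apply Subtype.ext
    simp only [Subgroup.coe_mul, hR, rt_eq_root, one_smul]
    exact root_eq_prod hO.sp h12 h13 h23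
  have hsq : R c1 * R c1 = 1 := by
    apply Subtype.ext
    apply Units.ext
    rw [Subgroup.coe_mul, hR, Units.val_mul, hO.sp.rt_val, mul_add, mul_one, add_mul, one_mul,
      kr_cen_mul hO.sp i (hO.sp.self c1), add_zero, add_assoc, ← kr_add_right, ← add_smul,
      show (1 : F) + 1 = 0 by rw [one_add_one_eq_two, h2], zero_smul, kr_zero_right, add_zero]
    rfl
  have h5 : π (R c1) = 1 := by
    have h6 := congrArg π hprod
    simp only [map_mul, heq _ hd.2.1, heq _ hd.2.2.1, heq _ hd.2.2.2.1, heq _ hd.2.2.2.2.1, heq _ hd.2.2.2.2.2.1,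
      heq _ hd.2.2.2.2.2.2] at h6
    have h7 : π (R c1) * π (R c1) = 1 := by rw [← map_mul, hsq, map_one]
    rw [h7, one_mul, one_mul] at h6
    exact h6
  have h8 : R (r • c) ∈ Cfsg.Omega F ⇑Q := (QuotientGroup.eq_one_iff _).mp ((heq _ hc').trans h5)
  exact hR (r • c) ▸ Subgroup.mem_map_of_mem _ h8
where
  exists_triple (hG : SpForm G) (hm : 6 ≤ m) : ∃ c1 c2 c3 : Fin m → F, om G c1 c2 = 0 ∧ om G c1 c3 = 0 ∧
      om G c2 c3 = 0 ∧ (c1 ≠ 0 ∧ c2 ≠ 0 ∧ c3 ≠ 0 ∧ c1 + c2 ≠ 0 ∧ c1 + c3 ≠ 0 ∧ c2 + c3 ≠ 0 ∧ c1 + c2 + c3 ≠ 0) := by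
    have : NeZero m := ⟨by omega⟩
    set a : Fin m → F := Pi.single 0 1
    have ha : a ≠ 0 := by simp [a]
    obtain ⟨a', ha'⟩ := hG.exists_partner ha
    obtain ⟨b, hab', hbi⟩ := hG.exists_ortho_indep (by omega) (c := a)
    have hb : b ≠ 0 := fun h => hbi 0 (by rw [zero_smul, h])
    obtain ⟨b', hb'1, hb'2⟩ := exists_dot_eq_zero_one (hG.axis_indep hbi)
    rw [axis_dot] at hb'1 hb'2
    let fn : (Fin m → F) →ₗ[F] (Fin 4 → F) :=
      { toFun := fun x => ![(G *ᵥ a) ⬝ᵥ x, (G *ᵥ b) ⬝ᵥ x, (G *ᵥ a') ⬝ᵥ x, (G *ᵥ b') ⬝ᵥ x]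
        map_add' := fun x y => by funext q; fin_cases q <;> simp [dotProduct_add]
        map_smul' := fun k x => by funext q; fin_cases q <;> simp [dotProduct_smul] }
    obtain ⟨g, hg, hg0⟩ := Submodule.exists_mem_ne_zero_of_ne_bot (LinearMap.ker_ne_bot_of_finrank_lt (f := fn)
      (by rw [Module.finrank_fin_fun, Module.finrank_fin_fun]; omega))
    have k1 : om G g a = 0 := by rw [← axis_dot]; exact congrFun hg 0
    have k2 : om G g b = 0 := by rw [← axis_dot]; exact congrFun hg 1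
    have k3 : om G g a' = 0 := by rw [← axis_dot]; exact congrFun hg 2
    have k4 : om G g b' = 0 := by rw [← axis_dot]; exact congrFun hg 3
    have q1 : om G a' a = 1 := ha'
    have q2 : om G b' b = 1 := hb'2
    have q3 : om G b' a = 0 := hb'1
    refine ⟨a, b, g, hab', hG.axis_zero_iff.mp k1, hG.axis_zero_iff.mp k2, ha, hb, hg0, fun h => ?_, fun h => ?_,
      fun h => ?_, fun h => ?_⟩
    · have := congrArg (om G b') h
      rw [om_add_right, q3, q2, zero_add, om, mulVec_zero, dotProduct_zero] at this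
      exact one_ne_zero this
    · have := congrArg (om G a') h
      rw [om_add_right, q1, hG.axis_zero_iff.mp k3, add_zero, om, mulVec_zero, dotProduct_zero] at this
      exact one_ne_zero this
    · have := congrArg (om G b') h
      rw [om_add_right, q2, hG.axis_zero_iff.mp k4, add_zero, om, mulVec_zero, dotProduct_zero] at this
      exact one_ne_zero this
    · have := congrArg (om G b') h
      rw [om_add_right, om_add_right, q3, q2, hG.axis_zero_iff.mp k4, zero_add, add_zero, om, mulVec_zero,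
        dotProduct_zero] at this
      exact one_ne_zero this

theorem embG_mem_omega (hm6 : (2 : F) = 0 → 6 ≤ m) (i : ι) {h : GL (Fin m) F} (hh : h ∈ spG G) :
    embG i h ∈ Cfsg.Geo.omegaGL ⇑Q :=
  hO.sp.mem_of_spt (X := (Cfsg.Geo.omegaGL ⇑Q).comap (embG i)) (fun s c => hO.rt_mem_omega hm6 i s c) hh

theorem swap_mul_swap_mem_omega (a b x : ι) (hab : a ≠ b) (hxa : x ≠ a) (hxb : x ≠ b) :
    pmG (F := F) (m := m) (Equiv.swap a b * Equiv.swap b x) ∈ Cfsg.Geo.omegaGL ⇑Q := by
  set s₁ := Equiv.swap a b with hs₁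
  set s₂ := Equiv.swap b x with hs₂
  set σ := s₁ * s₂ with hσ
  have h3 : σ ^ 4 = σ := by
    have h := (Equiv.Perm.isThreeCycle_swap_mul_swap_same (ne_comm.mp hab) (Ne.symm hxb) (Ne.symm hxa)).orderOf
    rw [show σ = Equiv.swap b a * Equiv.swap b x by rw [hσ, hs₁, Equiv.swap_comm a b], pow_succ,
      ← h, pow_orderOf_eq_one, one_mul]
  obtain ⟨g₁, hg₁⟩ := hO.exists_perm s₁
  obtain ⟨g₂, hg₂⟩ := hO.exists_perm s₂
  have hc : g₁ * g₂ * g₁⁻¹ * g₂⁻¹ ∈ Cfsg.Omega F ⇑Q := by
    have := Subgroup.commutator_mem_commutator (Subgroup.mem_top g₁) (Subgroup.mem_top g₂)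
    exact this
  have := Subgroup.mem_map_of_mem (Cfsg.isometryGroup F ⇑Q).subtype ((Cfsg.Omega F ⇑Q).mul_mem hc hc)
  show pmG σ ∈ Subgroup.map (Cfsg.isometryGroup F ⇑Q).subtype (Cfsg.Omega F ⇑Q)
  suffices he : pmG σ = (Cfsg.isometryGroup F ⇑Q).subtype (g₁ * g₂ * g₁⁻¹ * g₂⁻¹ * (g₁ * g₂ * g₁⁻¹ * g₂⁻¹)) by
    rw [he]; exact this
  simp only [map_mul, map_inv]
  rw [Subgroup.coe_subtype, hg₁, hg₂]
  simp only [← map_inv, ← map_mul]
  congr 1
  conv_lhs => rw [← h3]
  rw [hσ, hs₁, hs₂, Equiv.swap_inv, Equiv.swap_inv, pow_succ, pow_succ, pow_succ, pow_one]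
  simp only [mul_assoc]

theorem cycle_mem_omega (a b x : ι) (hab : a ≠ b) (hxa : x ≠ a) (hxb : x ≠ b) :
    ∃ σ : Equiv.Perm ι, σ a = b ∧ σ b = x ∧ pmG (F := F) (m := m) σ ∈ Cfsg.Geo.omegaGL ⇑Q := by
  refine ⟨_, ?_, ?_, hO.swap_mul_swap_mem_omega a b x hab hxa hxb⟩
  · rw [Equiv.Perm.mul_apply, Equiv.swap_apply_of_ne_of_ne hab (Ne.symm hxa), Equiv.swap_apply_left]
  · rw [Equiv.Perm.mul_apply, Equiv.swap_apply_left, Equiv.swap_apply_of_ne_of_ne hxa hxb]

/-- Eichler elements at split tensors in terms of short elements. -/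
theorem eich_lift [NeZero m] (i : ι) {c e : Fin m → F} (hce : om G c e = 0) (r u : Rest i m → F) :
    eich Q (lift i c r) (lift i e u) =
      1 + XX G i c e ((-c₀) • vecMulVec r (gram {j // j ≠ i} G *ᵥ u)) := by
  set J := gram {j // j ≠ i} G
  have hJ : IsUnit J.det := gram_det_unit hO.sp.det
  have hJt : r ᵥ* J = -(J *ᵥ r) := by
    rw [← mulVec_transpose, gram_transpose hO.sp]
    have h := hO.sign_eq
    have : 0 < Fintype.card ι := Fintype.card_pos_iff.mpr ⟨i⟩
    rw [show Fintype.card ι = (Fintype.card ι - 1) + 1 by omega, pow_succ, mul_neg_one] at h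
    rw [Fintype.card_subtype_compl, Fintype.card_subtype_eq,
      show (-1 : F) ^ (Fintype.card ι - 1) = -1 by linear_combination -h, neg_one_smul, neg_mulVec]
  refine Matrix.ext_of_mulVec_single fun a => ?_
  set v : (ι → Fin m) → F := Pi.single a 1
  rw [eich_mulVec, hO.quad_lift, zero_mul, zero_smul, sub_zero, hO.polar, hO.polar, hO.polar_symm _ v,
    hO.polar_symm _ v, gram_mulVec_lift, gram_mulVec_lift, dotProduct_comm v, dotProduct_comm v, XX, adj_smul,
    adj_rank_one hJ, hJt, vecMulVec_neg, add_mulVec, one_mulVec, add_mulVec, smul_neg, kr_smul_right,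
    ← vecMulVec_lift, ← neg_smul, kr_smul_right, ← vecMulVec_lift, smul_mulVec, smul_mulVec,
    vecMulVec_mulVec', vecMulVec_mulVec', smul_smul, smul_smul, neg_neg]
  module

variable [NeZero m] {M : Subgroup (Isom Q)}
  (hS : EndSetting G (M.map (Cfsg.isometryGroup F ⇑Q).subtype))
  (hsh : ∀ (i : ι) a, a ∈ shortSet G (M.map (Cfsg.isometryGroup F ⇑Q).subtype) i)

include hS hsh

theorem rootMem_lift (i : ι) {c e : Fin m → F} (hce : om G c e = 0) (r u : Rest i m → F) :
    RootMem M (lift i c r) (lift i e u) := fun g hg => by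
  obtain ⟨x, hx, hxv⟩ := hsh i ((-c₀) • vecMulVec r (gram {j // j ≠ i} G *ᵥ u)) c e hce
  rw [← hO.eich_lift i hce, ← hg] at hxv
  obtain ⟨k, hk, rfl⟩ := Subgroup.mem_map.mp hx
  have : k = g := Subtype.ext (Units.ext hxv)
  exact this ▸ hk

theorem full_lift (i : ι) {c : Fin m → F} (hc : c ≠ 0) (r : Rest i m → F) : Full M (lift i c r) := by
  classical
  have hG := hO.sp
  set J := gram {j // j ≠ i} G
  have hJ : IsUnit J.det := gram_det_unit hG.det
  set A := lift i c r
  have hA : Q A = 0 := hO.quad_lift i c r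
  obtain ⟨d, hd⟩ := hG.exists_partner hc
  have hcd : om G c d = -1 := by rw [hG.skew, hd]
  have hpol : ∀ (x y : Fin m → F) (p q : Rest i m → F),
      QuadraticMap.polar (⇑Q) (lift i x p) (lift i y q) = c₀ * (om G x y * (p ⬝ᵥ J *ᵥ q)) := fun x y p q => by
    rw [hO.polar, form_lift]
  -- vectors orthogonal to the block
  have hperp : ∀ w, proj i (G *ᵥ c) w = 0 → RootMem M A w := by
    intro w hw
    obtain ⟨ys, hys, he⟩ := ortho_induction hG i hc hw
    rw [he]
    have key : ∀ S : Finset (Fin m), RootMem M A (∑ k ∈ S, lift i (ys k) (proj i (Pi.single k 1) w)) ∧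
        QuadraticMap.polar (⇑Q) A (∑ k ∈ S, lift i (ys k) (proj i (Pi.single k 1) w)) = 0 := by
      intro S
      induction S using Finset.induction with
      | empty => exact ⟨by simpa using RootMem.zero, by simp⟩
      | insert k S hk ih =>
        have h1 : QuadraticMap.polar (⇑Q) A (lift i (ys k) (proj i (Pi.single k 1) w)) = 0 := by
          rw [hpol, hG.axis_zero_iff.mp (hys k), zero_mul, mul_zero]
        rw [Finset.sum_insert hk]
        refine ⟨RootMem.add hA h1 ih.2 (hO.rootMem_lift hS hsh i (hG.axis_zero_iff.mp (hys k)) r _) ih.1, ?_⟩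
        rw [QuadraticMap.polar_add_right, h1, ih.2, add_zero]
    exact (key Finset.univ).1
  intro w hw
  set z := proj i (G *ᵥ c) w with hz
  have hw' : proj i (G *ᵥ c) (w - lift i d z) = 0 := by
    rw [map_sub, proj_lift, axis_dot, hd, one_smul, sub_self]
  obtain ⟨ys, hys, he⟩ := ortho_induction hG i hc hw'
  have hp0 : QuadraticMap.polar (⇑Q) A (w - lift i d z) = 0 := by
    rw [he, ← QuadraticMap.polarBilin_apply_apply, map_sum]
    refine Finset.sum_eq_zero fun k _ => ?_
    rw [QuadraticMap.polarBilin_apply_apply, hpol, hG.axis_zero_iff.mp (hys k), zero_mul, mul_zero]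
  have hpd : QuadraticMap.polar (⇑Q) A (lift i d z) = 0 := by
    rwa [QuadraticMap.polar_sub_right, hw, zero_sub, neg_eq_zero] at hp0
  rw [show w = (w - lift i d z) + lift i d z by rw [sub_add_cancel]]
  refine RootMem.add hA hp0 hpd (hperp _ hw') ?_
  rcases eq_or_ne r 0 with hr | hr
  · intro g hg
    have h0 : A = 0 := by rw [show A = lift i c r from rfl, hr, map_zero]
    rw [h0, show eich Q 0 (lift i d z) = 1 by
      refine Matrix.ext_of_mulVec_single fun a => ?_
      rw [eich_mulVec, QuadraticMap.polar_zero_left, one_mulVec]; simp] at hg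
    exact (show g = 1 from Subtype.ext (Units.ext hg)) ▸ M.one_mem
  -- a second plane
  obtain ⟨e, g, hec, hed, hgc, hgd, hge⟩ : ∃ e g, om G e c = 0 ∧ om G e d = 0 ∧ om G g c = 0 ∧ om G g d = 0 ∧
      om G g e = 1 := by
    let fn : (Fin m → F) →ₗ[F] (Fin 2 → F) :=
      { toFun := fun x => ![(G *ᵥ c) ⬝ᵥ x, (G *ᵥ d) ⬝ᵥ x]
        map_add' := fun x y => by funext q; fin_cases q <;> simp [dotProduct_add]
        map_smul' := fun k x => by funext q; fin_cases q <;> simp [dotProduct_smul] }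
    obtain ⟨e, he', he0⟩ := Submodule.exists_mem_ne_zero_of_ne_bot (LinearMap.ker_ne_bot_of_finrank_lt (f := fn)
      (by rw [Module.finrank_fin_fun, Module.finrank_fin_fun]; have := hS.four; omega))
    have h1 : om G e c = 0 := by rw [← axis_dot]; exact congrFun he' 0
    have h2 : om G e d = 0 := by rw [← axis_dot]; exact congrFun he' 1
    obtain ⟨g, hg⟩ := hG.exists_partner he0
    refine ⟨e, g + om G g d • c - om G g c • d, h1, h2, ?_, ?_, ?_⟩ <;>
      simp only [sub_eq_add_neg, ← neg_smul, om_add_left, om_smul_left, hG.self, hd, hcd, hG.axis_zero_iff.mp h1,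
        hG.axis_zero_iff.mp h2, hg] <;> ring
  obtain ⟨φ, hφ⟩ := exists_dot_eq_one' hr
  set v := (-c₀)⁻¹ • (J⁻¹ *ᵥ φ)
  have hrv : r ⬝ᵥ J *ᵥ v = (-c₀)⁻¹ := by
    rw [mulVec_smul, mulVec_mulVec, mul_nonsing_inv J hJ, one_mulVec, dotProduct_smul, dotProduct_comm, hφ,
      smul_eq_mul, mul_one]
  have hdz : QuadraticMap.polar (⇑Q) (lift i d z) (lift i g r) = 0 := by
    rw [hpol, hG.axis_zero_iff.mp hgd, zero_mul, mul_zero]
  have hk := (hO.rootMem_lift hS hsh i (hG.axis_zero_iff.mp hgd) z r).iso (hO.quad_lift i d z) hdz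
  have hA' : QuadraticMap.polar (⇑Q) A (lift i e v) = 0 := by
    rw [hpol, hG.axis_zero_iff.mp hec, zero_mul, mul_zero]
  have h0 := hO.rootMem_lift hS hsh i (hG.axis_zero_iff.mp hec) r v
  have h1 := h0.conj hk
  rw [mat_eichIso] at h1
  have hfixA : eich Q (lift i d z) (lift i g r) *ᵥ A = A := by
    rw [eich_mulVec, QuadraticMap.polar_comm (⇑Q) (lift i d z) A, hpd, hpol, hgc, zero_mul, mul_zero]
    simp
  have hmove : eich Q (lift i d z) (lift i g r) *ᵥ lift i e v = lift i e v + lift i d z := by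
    have h1 : c₀ * (1 * (-c₀)⁻¹) = -1 := by rw [one_mul, inv_neg, mul_neg, mul_inv_cancel₀ hO.ne]
    rw [eich_mulVec, hpol, hpol, hG.axis_zero_iff.mp hed, hge, hrv, h1, zero_mul, mul_zero, hO.quad_lift]
    simp
  rw [hfixA, hmove] at h1
  have h2 := RootMem.add hA (by rw [QuadraticMap.polar_neg_right, hA', neg_zero])
    (by rw [QuadraticMap.polar_add_right, hA', hpd, add_zero]) (h0.neg hA hA') h1
  rwa [neg_add_cancel_left] at h2

/-- `Ω` is contained. -/
theorem omega_le [Nonempty ι] (hn : 5 ≤ Fintype.card (ι → Fin m)) : Cfsg.Omega F ⇑Q ≤ M := by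
  obtain ⟨i⟩ := ‹Nonempty ι›
  have hG := hO.sp
  set c : Fin m → F := Pi.single 0 1
  have hc : c ≠ 0 := by simp [c]
  obtain ⟨d, hd⟩ := hG.exists_partner hc
  have hd0 : d ≠ 0 := fun h => one_ne_zero (hd.symm.trans (by rw [h, om, zero_dotProduct]))
  set J := gram {j // j ≠ i} G
  obtain ⟨φ, hφ⟩ := exists_dot_eq_one' (x := (Pi.single (fun _ => 0) 1 : Rest i m → F)) (by simp)
  refine omega_le_of_full_pair hO.nondeg hn (hO.quad_lift i d (Pi.single (fun _ => 0) 1))
    (hO.quad_lift i c (J⁻¹ *ᵥ φ)) ?_ (hO.full_lift hS hsh i hd0 _) (hO.full_lift hS hsh i hc _)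
  rw [hO.polar, form_lift, hd, one_mul, mulVec_mulVec, mul_nonsing_inv J (gram_det_unit hG.det), one_mulVec,
    dotProduct_comm, hφ, mul_one]
  exact hO.ne

end OSet

end CfsgLib.TWSp
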