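import Cfsg.Agent.TensorWreath.Quad
import Mathlib.GroupTheory.Sylow
import Mathlib.Tactic.NoncommRing

/-!
# The algebra of two quadratic elements

For `r = 1 + N`, `r' = 1 + N'` with square-zero `N`, `N'` the commutative algebra `TQ` generated by
`T = N N' + N' N` acts, on the part `E` where `T` is invertible, through two-by-two matrices.
-/

set_option autoImplicit false
set_option linter.unusedSectionVars false

namespace CfsgLib.TWSp

open Matrix Polynomial

variable {F : Type*} [Field F] [Finite F] {n : Type*} [Fintype n] [DecidableEq n]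

/-- Two quadratic elements. -/
structure QPair (F : Type*) [Field F] (n : Type*) [Fintype n] [DecidableEq n] where
  r : GL n F
  r' : GL n F
  N : Matrix n n F
  N' : Matrix n n F
  hr : (r : Matrix n n F) = 1 + N
  hr' : (r' : Matrix n n F) = 1 + N'
  hN : N * N = 0
  hN' : N' * N' = 0

namespace QPair

variable (D : QPair F n)

/-- The central element. -/
def T : Matrix n n F := D.N * D.N' + D.N' * D.N

theorem T_comm_N : D.T * D.N = D.N * D.T := by
  rw [T, add_mul, mul_add, mul_assoc D.N' D.N D.N, D.hN, mul_zero, add_zero, ← mul_assoc D.N D.N D.N', D.hN,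
    zero_mul, zero_add, mul_assoc]

theorem T_comm_N' : D.T * D.N' = D.N' * D.T := by
  rw [T, add_mul, mul_add, mul_assoc D.N D.N' D.N', D.hN', mul_zero, zero_add, ← mul_assoc D.N' D.N' D.N, D.hN',
    zero_mul, add_zero, mul_assoc]

/-- The algebra generated by the central element. -/
abbrev TQ : Type _ := F[X] ⧸ RingHom.ker (aeval (R := F) D.T)

/-- Its action. -/
noncomputable def act : D.TQ →ₐ[F] Matrix n n F :=
  Ideal.Quotient.liftₐ _ (aeval (R := F) D.T) (fun _ ha => ha)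

theorem act_injective : Function.Injective D.act := RingHom.kerLift_injective (aeval (R := F) D.T).toRingHom

theorem finite_TQ : Finite D.TQ := by
  have : Fintype F := Fintype.ofFinite F
  have : Finite (Matrix n n F) := Finite.of_fintype _
  exact Finite.of_injective _ D.act_injective

/-- The class of `X`. -/
noncomputable def tau : D.TQ := Ideal.Quotient.mk _ X

theorem act_tau : D.act D.tau = D.T := by
  show aeval D.T X = D.T
  exact aeval_X D.T

theorem act_comm {Y : Matrix n n F} (hY : D.T * Y = Y * D.T) (a : D.TQ) : D.act a * Y = Y * D.act a := by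
  obtain ⟨f, rfl⟩ := Ideal.Quotient.mk_surjective a
  show aeval D.T f * Y = Y * aeval D.T f
  induction f using Polynomial.induction_on' with
  | add f g hf hg => rw [map_add, add_mul, mul_add, hf, hg]
  | monomial k c =>
    rw [aeval_monomial, mul_assoc, (Commute.pow_left (hY : Commute D.T Y) k).eq, ← mul_assoc, ← mul_assoc,
      Algebra.commutes]

theorem cN (a : D.TQ) : D.act a * D.N = D.N * D.act a := D.act_comm D.T_comm_N a

theorem cN' (a : D.TQ) : D.act a * D.N' = D.N' * D.act a := D.act_comm D.T_comm_N' a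

/-- The exponent of the idempotent. -/
noncomputable def exp : ℕ :=
  haveI := D.finite_TQ
  (TWreath.exists_idempotent_pow D.tau).choose

theorem exp_spec : 0 < D.exp ∧ D.tau ^ (D.exp + D.exp) = D.tau ^ D.exp := by
  haveI := D.finite_TQ
  exact (TWreath.exists_idempotent_pow D.tau).choose_spec

/-- The idempotent of the invertible part. -/
noncomputable def E : D.TQ := D.tau ^ D.exp

/-- The inverse of `tau` on the invertible part. -/
noncomputable def S : D.TQ := D.tau ^ (D.exp - 1) * D.E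

theorem EE : D.E * D.E = D.E := by rw [E, ← pow_add, D.exp_spec.2]

theorem tauS : D.tau * D.S = D.E := by
  rw [S, ← mul_assoc, ← pow_succ', show D.exp - 1 + 1 = D.exp by have := D.exp_spec.1; omega, ← E, D.EE]

theorem SE : D.S * D.E = D.S := by rw [S, mul_assoc, D.EE]

/-- The representation of two-by-two matrices. -/
noncomputable def Phi (g : Matrix (Fin 2) (Fin 2) D.TQ) : Matrix n n F :=
  D.act (g 0 0) * (D.act D.S * (D.N * D.N')) + D.act (g 0 1) * (D.act D.S * D.N) +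
    D.act (g 1 0) * (D.act D.E * D.N') + D.act (g 1 1) * (D.act D.S * (D.N' * D.N))

theorem rel121 : D.N * (D.N' * D.N) = D.act D.tau * D.N := by
  rw [D.act_tau, T, add_mul, mul_assoc, mul_assoc D.N' D.N D.N, D.hN, mul_zero, add_zero]

theorem rel212 : D.N' * (D.N * D.N') = D.act D.tau * D.N' := by
  rw [D.act_tau, T, add_mul, mul_assoc D.N D.N' D.N', D.hN', mul_zero, zero_add, mul_assoc]

theorem cN1 (a : D.TQ) (Y : Matrix n n F) : D.N * (D.act a * Y) = D.act a * (D.N * Y) := by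
  rw [← mul_assoc, ← D.cN, mul_assoc]

theorem cN2 (a : D.TQ) (Y : Matrix n n F) : D.N' * (D.act a * Y) = D.act a * (D.N' * Y) := by
  rw [← mul_assoc, ← D.cN', mul_assoc]

theorem hNN (Y : Matrix n n F) : D.N * (D.N * Y) = 0 := by rw [← mul_assoc, D.hN, zero_mul]

theorem hNN' (Y : Matrix n n F) : D.N' * (D.N' * Y) = 0 := by rw [← mul_assoc, D.hN', zero_mul]

theorem act_mul' (a b : D.TQ) (Y : Matrix n n F) : D.act a * (D.act b * Y) = D.act (a * b) * Y := by
  rw [map_mul, mul_assoc]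

theorem Phi_mul (g h : Matrix (Fin 2) (Fin 2) D.TQ) : D.Phi (g * h) = D.Phi g * D.Phi h := by
  have h1212 : D.N * (D.N' * (D.N * D.N')) = D.act D.tau * (D.N * D.N') := by rw [D.rel212, D.cN1]
  have h2121 : D.N' * (D.N * (D.N' * D.N)) = D.act D.tau * (D.N' * D.N) := by rw [D.rel121, D.cN2]
  have hSSτ : D.S * (D.S * D.tau) = D.S := by rw [mul_comm D.S D.tau, D.tauS, D.SE]
  have hSEτ : D.S * (D.E * D.tau) = D.E := by rw [mul_left_comm, mul_comm D.S D.tau, D.tauS, D.EE]
  have hESτ : D.E * (D.S * D.tau) = D.E := by rw [mul_comm D.S D.tau, D.tauS, D.EE]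
  have hES : D.E * D.S = D.S := by rw [mul_comm, D.SE]
  set e11 := D.act D.S * (D.N * D.N') with he11
  set e12 := D.act D.S * D.N with he12
  set e21 := D.act D.E * D.N' with he21
  set e22 := D.act D.S * (D.N' * D.N) with he22
  have c11 : ∀ a : D.TQ, Commute (D.act a) e11 := fun a =>
    ((Commute.all a D.S).map D.act).mul_right ((Commute.mul_right (D.cN a) (D.cN' a)))
  have c12 : ∀ a : D.TQ, Commute (D.act a) e12 := fun a => ((Commute.all a D.S).map D.act).mul_right (D.cN a)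
  have c21 : ∀ a : D.TQ, Commute (D.act a) e21 := fun a => ((Commute.all a D.E).map D.act).mul_right (D.cN' a)
  have c22 : ∀ a : D.TQ, Commute (D.act a) e22 := fun a =>
    ((Commute.all a D.S).map D.act).mul_right ((Commute.mul_right (D.cN' a) (D.cN a)))
  have ee1 : e11 * e11 = e11 := by simp only [he11, mul_assoc, D.cN1, D.cN2, h1212, D.act_mul', hSSτ, mul_zero]
  have ee2 : e11 * e12 = e12 := by simp only [he11, he12, mul_assoc, D.cN1, D.cN2, D.rel121, D.act_mul', hSSτ, mul_zero]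
  have ee3 : e11 * e21 = 0 := by simp only [he11, he21, mul_assoc, D.cN1, D.cN2, D.hN', mul_zero]
  have ee4 : e11 * e22 = 0 := by simp only [he11, he22, mul_assoc, D.cN1, D.cN2, D.hNN', mul_zero]
  have ee5 : e12 * e11 = 0 := by simp only [he11, he12, mul_assoc, D.cN1, D.hNN, mul_zero]
  have ee6 : e12 * e12 = 0 := by simp only [he12, mul_assoc, D.cN1, D.hN, mul_zero]
  have ee7 : e12 * e21 = e11 := by simp only [he11, he12, he21, mul_assoc, D.cN1, D.act_mul', D.SE, mul_zero]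
  have ee8 : e12 * e22 = e12 := by simp only [he12, he22, mul_assoc, D.cN1, D.rel121, D.act_mul', hSSτ, mul_zero]
  have ee9 : e21 * e11 = e21 := by simp only [he11, he21, mul_assoc, D.cN2, D.rel212, D.act_mul', hESτ, mul_zero]
  have ee10 : e21 * e12 = e22 := by simp only [he12, he21, he22, mul_assoc, D.cN2, D.act_mul', hES, mul_zero]
  have ee11 : e21 * e21 = 0 := by simp only [he21, mul_assoc, D.cN2, D.hN', mul_zero]
  have ee12 : e21 * e22 = 0 := by simp only [he21, he22, mul_assoc, D.cN2, D.hNN', mul_zero]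
  have ee13 : e22 * e11 = 0 := by simp only [he11, he22, mul_assoc, D.cN1, D.cN2, D.hNN, mul_zero]
  have ee14 : e22 * e12 = 0 := by simp only [he12, he22, mul_assoc, D.cN1, D.cN2, D.hN, mul_zero]
  have ee15 : e22 * e21 = e21 := by simp only [he21, he22, mul_assoc, D.cN1, D.cN2, D.rel212, D.act_mul', hSEτ, mul_zero]
  have ee16 : e22 * e22 = e22 := by simp only [he22, mul_assoc, D.cN1, D.cN2, h2121, D.act_mul', hSSτ, mul_zero]
  have hmv : ∀ (a b : D.TQ) {X Y : Matrix n n F}, Commute (D.act b) X →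
      D.act a * X * (D.act b * Y) = D.act (a * b) * (X * Y) := fun a b X Y h => by
    rw [mul_assoc, ← mul_assoc X, ← h.eq, mul_assoc, D.act_mul']
  show _ = (D.act (g 0 0) * e11 + D.act (g 0 1) * e12 + D.act (g 1 0) * e21 + D.act (g 1 1) * e22) *
    (D.act (h 0 0) * e11 + D.act (h 0 1) * e12 + D.act (h 1 0) * e21 + D.act (h 1 1) * e22)
  show D.act ((g * h) 0 0) * e11 + D.act ((g * h) 0 1) * e12 + D.act ((g * h) 1 0) * e21 +
    D.act ((g * h) 1 1) * e22 = _
  rw [Matrix.mul_apply, Matrix.mul_apply, Matrix.mul_apply, Matrix.mul_apply, Fin.sum_univ_two, Fin.sum_univ_two,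
    Fin.sum_univ_two, Fin.sum_univ_two]
  clear_value e11 e12 e21 e22
  simp only [map_add]
  generalize g 0 0 = a, g 0 1 = b, g 1 0 = c, g 1 1 = d, h 0 0 = a', h 0 1 = b', h 1 0 = c', h 1 1 = d'
  simp only [add_mul, mul_add]
  rw [hmv a a' (c11 a'), hmv b a' (c12 a'), hmv c a' (c21 a'), hmv d a' (c22 a'),
    hmv a b' (c11 b'), hmv b b' (c12 b'), hmv c b' (c21 b'), hmv d b' (c22 b'), hmv a c' (c11 c'), hmv b c' (c12 c'),
    hmv c c' (c21 c'), hmv d c' (c22 c'), hmv a d' (c11 d'), hmv b d' (c12 d'), hmv c d' (c21 d'), hmv d d' (c22 d'),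
    ee1, ee2, ee3, ee4, ee5, ee6, ee7, ee8, ee9, ee10, ee11, ee12, ee13, ee14, ee15, ee16]
  simp only [mul_zero, add_zero, zero_add, add_mul]
  abel

theorem Phi_one : D.Phi 1 = D.act D.E := by
  have : D.act D.E = D.act D.S * (D.N * D.N') + D.act D.S * (D.N' * D.N) := by
    rw [← mul_add, show D.N * D.N' + D.N' * D.N = D.T from rfl, ← D.tauS, map_mul, D.act_tau]
    exact ((D.act_comm (Y := D.T) rfl) D.S).symm
  rw [Phi, this, Matrix.one_apply_eq, Matrix.one_apply_eq, Matrix.one_apply_ne (zero_ne_one : (0 : Fin 2) ≠ 1),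
    Matrix.one_apply_ne (one_ne_zero : (1 : Fin 2) ≠ 0), _root_.map_one D.act, _root_.map_zero D.act]
  rw [one_mul, zero_mul, zero_mul, one_mul, add_zero, add_zero]

theorem Phi_add (g h : Matrix (Fin 2) (Fin 2) D.TQ) : D.Phi (g + h) = D.Phi g + D.Phi h := by
  simp only [Phi, Matrix.add_apply, map_add, add_mul]; abel

theorem Phi_smul (a : D.TQ) (g : Matrix (Fin 2) (Fin 2) D.TQ) : D.Phi (a • g) = D.act a * D.Phi g := by
  simp only [Phi, Matrix.smul_apply, smul_eq_mul, map_mul, mul_add, mul_assoc]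

theorem Phi_neg (g : Matrix (Fin 2) (Fin 2) D.TQ) : D.Phi (-g) = -D.Phi g := by
  simp only [Phi, Matrix.neg_apply, map_neg, neg_mul]; abel

theorem Phi_sub (g h : Matrix (Fin 2) (Fin 2) D.TQ) : D.Phi (g - h) = D.Phi g - D.Phi h := by
  rw [sub_eq_add_neg, D.Phi_add, D.Phi_neg, sub_eq_add_neg]

/-- The corner `1 2` gives multiples of `N`. -/
theorem Phi_upper (x : D.TQ) : D.Phi !![0, x * D.tau; 0, 0] = D.act (x * D.E) * D.N := by
  simp only [Phi, Matrix.of_apply, Matrix.cons_val_zero, Matrix.cons_val_one, _root_.map_zero, zero_mul, add_zero,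
    zero_add]
  rw [D.act_mul', mul_assoc x D.tau, D.tauS]

theorem Phi_lower (x : D.TQ) : D.Phi !![0, 0; x, 0] = D.act (x * D.E) * D.N' := by
  simp [Phi, D.act_mul']

theorem act_eq_zero_of_mul_N {x : D.TQ} (h : D.act x * D.N = 0) : x * D.E = 0 := by
  have h1 : D.act x * (D.N' * D.N) = 0 := by rw [← mul_assoc, D.cN', mul_assoc, h, mul_zero]
  have h2 : D.act x * (D.N * D.N') = 0 := by rw [← mul_assoc, h, zero_mul]
  have h3 : D.act (x * D.tau) = 0 := by
    rw [map_mul, D.act_tau]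
    show D.act x * (D.N * D.N' + D.N' * D.N) = 0
    rw [mul_add, h1, h2, add_zero]
  have h4 : x * D.tau = 0 := D.act_injective (by rw [h3, map_zero])
  rw [← D.tauS, ← mul_assoc, h4, zero_mul]

/-- The representation is faithful on the invertible part. -/
theorem eq_zero_of_Phi {g : Matrix (Fin 2) (Fin 2) D.TQ} (h : D.Phi g = 0) (i j : Fin 2) : g i j * D.E = 0 := by
  have key : ∀ (A B : Matrix (Fin 2) (Fin 2) D.TQ), D.Phi (A * g * B) = 0 := fun A B => by
    rw [D.Phi_mul, D.Phi_mul, h, mul_zero, zero_mul]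
  have e1 := key (Matrix.single 0 i 1) (Matrix.single j 1 1)
  rw [Matrix.single_mul_mul_single, one_mul, mul_one] at e1
  have e2 : D.act (g i j * D.S) * D.N = 0 := by
    simpa [Phi, D.act_mul', Matrix.single_apply] using e1
  have := D.act_eq_zero_of_mul_N e2
  calc g i j * D.E = g i j * D.S * D.E * D.tau := by
        rw [mul_assoc (g i j) D.S D.E, D.SE, mul_assoc, mul_comm D.S, D.tauS]
    _ = 0 := by rw [this, zero_mul]

/-- The upper unitriangular matrix. -/
noncomputable def uX : GL (Fin 2) D.TQ :=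
  ⟨!![1, D.tau * D.E; 0, 1], !![1, -(D.tau * D.E); 0, 1], by simp [Matrix.one_fin_two], by simp [Matrix.one_fin_two]⟩

/-- The lower unitriangular matrix. -/
noncomputable def lY : GL (Fin 2) D.TQ :=
  ⟨!![1, 0; D.E, 1], !![1, 0; -D.E, 1], by simp [Matrix.one_fin_two], by simp [Matrix.one_fin_two]⟩

/-- Pairs of an abstract and a concrete element. -/
noncomputable def Gam : Subgroup (GL (Fin 2) D.TQ × GL n F) :=
  Subgroup.closure {(D.uX, D.r), (D.lY, D.r')}

theorem mem_uX : (D.uX, D.r) ∈ D.Gam := Subgroup.subset_closure (Or.inl rfl)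

theorem mem_lY : (D.lY, D.r') ∈ D.Gam := Subgroup.subset_closure (Or.inr rfl)

theorem snd_mem {q : GL (Fin 2) D.TQ × GL n F} (hq : q ∈ D.Gam) :
    q.2 ∈ Subgroup.closure ({D.r, D.r'} : Set (GL n F)) := by
  suffices h : D.Gam ≤ (Subgroup.closure ({D.r, D.r'} : Set (GL n F))).comap (MonoidHom.snd _ _) from h hq
  rw [Gam, Subgroup.closure_le]
  rintro x (rfl | rfl)
  · exact Subgroup.subset_closure (Or.inl rfl)
  · exact Subgroup.subset_closure (Or.inr rfl)

theorem Gam_finite : Finite D.Gam := by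
  haveI := D.finite_TQ
  have : Fintype F := Fintype.ofFinite F
  infer_instance

/-- Compatibility of the two components. -/
theorem inv_pair {q : GL (Fin 2) D.TQ × GL n F} (hq : q ∈ D.Gam) :
    D.Phi (q.1 : Matrix (Fin 2) (Fin 2) D.TQ) = D.act D.E * (q.2 : Matrix n n F) ∧
      (q.1 : Matrix (Fin 2) (Fin 2) D.TQ).det = 1 ∧
      D.act D.E * (q.2 : Matrix n n F) = (q.2 : Matrix n n F) * D.act D.E := by
  haveI := D.finite_TQ
  have : Fintype F := Fintype.ofFinite F
  have : Finite (GL (Fin 2) D.TQ × GL n F) := inferInstance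
  have hq' : q ∈ D.Gam.toSubmonoid := hq
  rw [Gam, Subgroup.closure_toSubmonoid_of_finite] at hq'
  clear hq
  induction hq' using Submonoid.closure_induction with
  | mem x hx =>
    rcases hx with rfl | rfl
    · refine ⟨?_, by simp [uX, det_fin_two], by rw [D.hr, mul_add, add_mul, mul_one, one_mul, D.cN]⟩
      show D.Phi !![1, D.tau * D.E; 0, 1] = _
      rw [show (!![1, D.tau * D.E; 0, 1] : Matrix (Fin 2) (Fin 2) D.TQ) = 1 + !![0, D.E * D.tau; 0, 0] by
          ext a b; fin_cases a <;> fin_cases b <;> simp [mul_comm],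
        D.Phi_add, D.Phi_one, D.Phi_upper, D.EE, D.hr, mul_add, mul_one]
    · refine ⟨?_, by simp [lY, det_fin_two], by rw [D.hr', mul_add, add_mul, mul_one, one_mul, D.cN']⟩
      show D.Phi !![1, 0; D.E, 1] = _
      rw [show (!![1, 0; D.E, 1] : Matrix (Fin 2) (Fin 2) D.TQ) = 1 + !![0, 0; D.E, 0] by
          ext a b; fin_cases a <;> fin_cases b <;> simp,
        D.Phi_add, D.Phi_one, D.Phi_lower, D.EE, D.hr', mul_add, mul_one]
  | one => exact ⟨by simp [D.Phi_one], by simp, by simp⟩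
  | mul x y _ _ hx hy =>
    obtain ⟨a1, a2, a5⟩ := hx
    obtain ⟨b1, b2, b5⟩ := hy
    refine ⟨?_, ?_, ?_⟩
    · rw [Prod.fst_mul, Units.val_mul, D.Phi_mul, a1, b1, Prod.snd_mul, Units.val_mul, a5, mul_assoc,
        ← mul_assoc (D.act D.E) (D.act D.E), ← map_mul, D.EE, ← mul_assoc, ← a5, mul_assoc]
    · rw [Prod.fst_mul, Units.val_mul, det_mul, a2, b2, one_mul]
    · rw [Prod.snd_mul, Units.val_mul, ← mul_assoc, a5, mul_assoc, b5, mul_assoc]

/-- Elements of order prime to `p` are trivial on the nilpotent part. -/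
theorem act_one_sub_mul {p : ℕ} [hp : Fact p.Prime] [CharP F p] {q : GL (Fin 2) D.TQ × GL n F} (hq : q ∈ D.Gam)
    {o : ℕ} (ho : ¬ p ∣ o) (hqo : q.2 ^ o = 1) :
    D.act (1 - D.E) * (q.2 : Matrix n n F) = D.act (1 - D.E) := by
  haveI := D.finite_TQ
  cases isEmpty_or_nonempty n with
  | inl hn => exact Subsingleton.elim _ _
  | inr hn =>
  let mk : D.TQ → D.TQ → D.TQ → D.TQ → Matrix n n F :=
    fun a b c d => D.act a * D.N + D.act b * D.N' + D.act c * (D.N * D.N') + D.act d * (D.N' * D.N)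
  have h1212 : D.N * (D.N' * (D.N * D.N')) = D.act D.tau * (D.N * D.N') := by rw [D.rel212, D.cN1]
  have h2121 : D.N' * (D.N * (D.N' * D.N)) = D.act D.tau * (D.N' * D.N) := by rw [D.rel121, D.cN2]
  have mk_mul : ∀ a b c d a' b' c' d' : D.TQ, mk a b c d * mk a' b' c' d' =
      mk (D.tau * (a * d' + c * a')) (D.tau * (b * c' + d * b')) (a * b' + D.tau * (c * c'))
        (b * a' + D.tau * (d * d')) := by
    intro a b c d a' b' c' d'
    simp only [mk, add_mul, mul_add, map_add, map_mul, mul_assoc, D.cN1, D.cN2, D.hN, D.hN', D.hNN, D.hNN',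
      D.rel121, D.rel212, h1212, h2121, mul_zero, add_zero, zero_add]
    simp only [← mul_assoc (D.act _) (D.act _), ← map_mul]
    simp only [mul_comm, mul_left_comm, mul_assoc]
    abel
  have hspan : ∃ a b c d, (q.2 : Matrix n n F) = 1 + mk a b c d := by
    have : Fintype F := Fintype.ofFinite F
    have hq' : q ∈ D.Gam.toSubmonoid := hq
    rw [Gam, Subgroup.closure_toSubmonoid_of_finite] at hq'
    clear hq hqo
    induction hq' using Submonoid.closure_induction with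
    | mem x hx =>
      rcases hx with rfl | rfl
      · exact ⟨1, 0, 0, 0, by simp [mk, D.hr]⟩
      · exact ⟨0, 1, 0, 0, by simp [mk, D.hr']⟩
    | one => exact ⟨0, 0, 0, 0, by simp [mk]⟩
    | mul x y _ _ hx hy =>
      obtain ⟨a, b, c, d, hx⟩ := hx
      obtain ⟨a', b', c', d', hy⟩ := hy
      refine ⟨a + a' + D.tau * (a * d' + c * a'), b + b' + D.tau * (b * c' + d * b'),
        c + c' + (a * b' + D.tau * (c * c')), d + d' + (b * a' + D.tau * (d * d')), ?_⟩
      rw [Prod.snd_mul, Units.val_mul, hx, hy, add_mul, one_mul, mul_add (mk a b c d), mul_one, mk_mul]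
      simp only [mk, map_add, add_mul]
      abel
  obtain ⟨a, b, c, d, hgv⟩ := hspan
  set x := mk a b c d with hx
  have hcx : ∀ (u a' b' c' d' : D.TQ), Commute (D.act u) (mk a' b' c' d') := fun u a' b' c' d' => by
    have h0 : ∀ v : D.TQ, Commute (D.act u) (D.act v) := fun v => (Commute.all u v).map D.act
    have h1 : Commute (D.act u) D.N := D.cN u
    have h2 : Commute (D.act u) D.N' := D.cN' u
    exact ((((h0 a').mul_right h1).add_right ((h0 b').mul_right h2)).add_right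
      ((h0 c').mul_right (h1.mul_right h2))).add_right ((h0 d').mul_right (h2.mul_right h1))
  obtain ⟨a3, b3, c3, d3, h3⟩ : ∃ a' b' c' d', x ^ 3 = D.act D.tau * mk a' b' c' d' := by
    refine ⟨D.tau * (a * d + c * a) * d + (a * b + D.tau * (c * c)) * a,
      D.tau * (b * c + d * b) * c + (b * a + D.tau * (d * d)) * b,
      (a * d + c * a) * b + (a * b + D.tau * (c * c)) * c,
      (b * c + d * b) * a + (b * a + D.tau * (d * d)) * d, ?_⟩
    rw [pow_succ, pow_two, hx, mk_mul, mk_mul]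
    simp only [mk, mul_add, map_add, ← mul_assoc, ← map_mul]
  set y := D.act (1 - D.E) with hy
  have hyy : y * y = y := by rw [hy, ← map_mul, show (1 - D.E) * (1 - D.E) = 1 - D.E by linear_combination D.EE]
  set w := y * x with hw
  have hnil : w ^ (3 * D.exp) = 0 := by
    rw [hw, Commute.mul_pow (hcx _ a b c d), pow_mul x, h3, (hcx D.tau a3 b3 c3 d3).mul_pow, ← map_pow, ← map_pow,
      ← E, ← mul_assoc, ← map_mul]
    rw [show (1 - D.E) ^ (3 * D.exp) * D.E = 0 by
      obtain ⟨k, hk⟩ : ∃ k, 3 * D.exp = k + 1 := ⟨3 * D.exp - 1, by have := D.exp_spec.1; omega⟩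
      rw [hk, pow_succ, mul_assoc, sub_mul, one_mul, D.EE, sub_self, mul_zero]]
    rw [map_zero, zero_mul]
  have hpow : ∀ k : ℕ, (1 + w) ^ k = 1 + y * ((q.2 : Matrix n n F) ^ k - 1) := by
    intro k
    induction k with
    | zero => simp
    | succ k ih =>
      have hyg : Commute y (q.2 : Matrix n n F) := by
        rw [hgv]; exact (Commute.one_right _).add_right (hcx _ a b c d)
      have e1 : w = y * ((q.2 : Matrix n n F) - 1) := by rw [hw, hgv, add_sub_cancel_left]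
      have e2 : y * ((q.2 : Matrix n n F) ^ k - 1) * (y * ((q.2 : Matrix n n F) - 1)) =
          y * (((q.2 : Matrix n n F) ^ k - 1) * ((q.2 : Matrix n n F) - 1)) := by
        rw [mul_assoc, ← mul_assoc _ y, ← ((hyg.pow_right k).sub_right (Commute.one_right _)).eq, mul_assoc,
          ← mul_assoc y y, hyy]
      rw [pow_succ, ih, e1, mul_add, mul_one, add_mul, one_mul, e2, pow_succ, add_assoc, ← mul_add, ← mul_add]
      congr 2
      noncomm_ring
  have h1 : (1 + w) ^ o = 1 := by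
    rw [hpow, ← Units.val_pow_eq_pow_val, hqo, Units.val_one, sub_self, mul_zero, add_zero]
  obtain ⟨j, hj⟩ : ∃ j, 3 * D.exp ≤ p ^ j := ⟨3 * D.exp, (Nat.lt_pow_self hp.out.one_lt).le⟩
  have h2 : (1 + w) ^ p ^ j = 1 := by
    rw [add_pow_char_pow_of_commute _ _ (Commute.one_left _), pow_eq_zero_of_le hj hnil, one_pow, add_zero]
  have h3' : (1 + w) ^ (Nat.gcd o (p ^ j)) = 1 := pow_gcd_eq_one.mpr ⟨h1, h2⟩
  rw [(((hp.out.coprime_iff_not_dvd).mpr ho).pow_left j).symm, pow_one, add_eq_left] at h3'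
  rw [hgv, mul_add, mul_one, ← hw, h3', add_zero]

/-- The residual map of a character. -/
noncomputable def theta {K : Type*} [CommRing K] (χ : D.TQ →+* K) : GL (Fin 2) D.TQ × GL n F →* GL (Fin 2) K :=
  (GeneralLinearGroup.map χ).comp (MonoidHom.fst _ _)

theorem theta_apply {K : Type*} [CommRing K] (χ : D.TQ →+* K) (q : GL (Fin 2) D.TQ × GL n F) (a b : Fin 2) :
    (D.theta χ q : Matrix (Fin 2) (Fin 2) K) a b = χ ((q.1 : Matrix (Fin 2) (Fin 2) D.TQ) a b) := rfl

theorem theta_lower_mul {K : Type*} [CommRing K] (χ : D.TQ →+* K) {x y : GL (Fin 2) D.TQ × GL n F}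
    (hx : χ ((x.1 : Matrix (Fin 2) (Fin 2) D.TQ) 1 0) = 0) (hy : χ ((y.1 : Matrix (Fin 2) (Fin 2) D.TQ) 1 0) = 0) :
    χ (((x * y).1 : Matrix (Fin 2) (Fin 2) D.TQ) 1 0) = 0 ∧
      χ (((x * y).1 : Matrix (Fin 2) (Fin 2) D.TQ) 0 0) =
        χ ((x.1 : Matrix (Fin 2) (Fin 2) D.TQ) 0 0) * χ ((y.1 : Matrix (Fin 2) (Fin 2) D.TQ) 0 0) := by
  rw [Prod.fst_mul, Units.val_mul, Matrix.mul_apply, Matrix.mul_apply, Fin.sum_univ_two, Fin.sum_univ_two]
  constructor <;> simp [hx, hy]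

/-- An element normalising a `p`-subgroup through `r`, with prescribed residual diagonal and order prime to `p`. -/
theorem exists_normalizing {p : ℕ} [hp : Fact p.Prime] {κ : Type} [Fintype κ] {K : κ → Type*}
    [∀ l, Field (K l)] [∀ l, Finite (K l)] [∀ l, CharP (K l) p] (χ : ∀ l, D.TQ →+* K l)
    {g : GL (Fin 2) D.TQ × GL n F} (hg : g ∈ D.Gam)
    (hu : ∀ l, χ l ((g.1 : Matrix (Fin 2) (Fin 2) D.TQ) 1 0) = 0) {k₀ : ℕ} (hr : D.r ^ p ^ k₀ = 1)
    (hrX : D.uX ^ p ^ k₀ = 1) :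
    ∃ q ∈ D.Gam, (∀ l, χ l ((q.1 : Matrix (Fin 2) (Fin 2) D.TQ) 0 0) = χ l ((g.1 : Matrix (Fin 2) (Fin 2) D.TQ) 0 0) ∧
        χ l ((q.1 : Matrix (Fin 2) (Fin 2) D.TQ) 1 0) = 0) ∧
      (∃ o : ℕ, ¬ p ∣ o ∧ q.2 ^ o = 1) ∧
      ∃ P : Subgroup (GL n F), P ≤ Subgroup.closure ({D.r, D.r'} : Set (GL n F)) ∧ IsPGroup p P ∧ D.r ∈ P ∧
        q.2 * D.r * q.2⁻¹ ∈ P := by
  classical
  haveI := D.Gam_finite
  -- the upper unipotent preimage
  let U : Subgroup D.Gam :=
    { carrier := {x | ∀ l, χ l (((x : GL (Fin 2) D.TQ × GL n F).1 : Matrix (Fin 2) (Fin 2) D.TQ) 1 0) = 0 ∧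
        χ l (((x : GL (Fin 2) D.TQ × GL n F).1 : Matrix (Fin 2) (Fin 2) D.TQ) 0 0) = 1}
      one_mem' := fun l => by simp
      mul_mem' := fun {x y} hx hy l => by
        obtain ⟨h1, h2⟩ := D.theta_lower_mul (χ l) (hx l).1 (hy l).1
        exact ⟨h1, by rw [Subgroup.coe_mul, h2, (hx l).2, (hy l).2, one_mul]⟩
      inv_mem' := fun {x} hx l => by
        have hd := (D.inv_pair x.2).2.1
        have hinv : (((x⁻¹ : D.Gam) : GL (Fin 2) D.TQ × GL n F).1 : Matrix (Fin 2) (Fin 2) D.TQ) =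
            ((x : GL (Fin 2) D.TQ × GL n F).1 : Matrix (Fin 2) (Fin 2) D.TQ)⁻¹ := by
          rw [Subgroup.coe_inv, Prod.fst_inv, Matrix.coe_units_inv]
        have hadj : ((x : GL (Fin 2) D.TQ × GL n F).1 : Matrix (Fin 2) (Fin 2) D.TQ)⁻¹ =
            ((x : GL (Fin 2) D.TQ × GL n F).1 : Matrix (Fin 2) (Fin 2) D.TQ).adjugate := by
          rw [Matrix.inv_def, hd, Ring.inverse_one, one_smul]
        rw [hinv, hadj, adjugate_fin_two]
        have h00 : χ l (((x : GL (Fin 2) D.TQ × GL n F).1 : Matrix (Fin 2) (Fin 2) D.TQ) 1 1) = 1 := by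
          have := congrArg (χ l) hd
          rw [det_fin_two, map_sub, map_mul, map_mul, (hx l).1, (hx l).2, mul_zero, sub_zero, one_mul, map_one] at this
          exact this
        simp [(hx l).1, h00] }
  have hU : ∀ {x : D.Gam}, x ∈ U ↔ ∀ l, χ l (((x : GL (Fin 2) D.TQ × GL n F).1 : Matrix (Fin 2) (Fin 2) D.TQ) 1 0) = 0 ∧
        χ l (((x : GL (Fin 2) D.TQ × GL n F).1 : Matrix (Fin 2) (Fin 2) D.TQ) 0 0) = 1 := Iff.rfl
  set r₀ : D.Gam := ⟨(D.uX, D.r), D.mem_uX⟩
  have hr₀ : r₀ ∈ U := hU.mpr fun l => by simp [r₀, uX]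
  set g₀ : D.Gam := ⟨g, hg⟩
  have hginv : ∀ l, χ l (((g₀⁻¹ : D.Gam) : GL (Fin 2) D.TQ × GL n F).1.val 1 0) = 0 := fun l => by
    have hd := (D.inv_pair hg).2.1
    rw [Subgroup.coe_inv, Prod.fst_inv, Matrix.coe_units_inv, Matrix.inv_def, hd, Ring.inverse_one, one_smul,
      adjugate_fin_two]
    simp [g₀, hu l]
  have hnorm : ∀ x ∈ U, g₀ * x * g₀⁻¹ ∈ U := fun x hx => hU.mpr fun l => by
    obtain ⟨a1, a2⟩ := D.theta_lower_mul (χ l) (hu l) (hU.mp hx l).1
    obtain ⟨b1, b2⟩ := D.theta_lower_mul (χ l) a1 (hginv l)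
    refine ⟨b1, ?_⟩
    rw [Subgroup.coe_mul, Subgroup.coe_mul, b2, a2, (hU.mp hx l).2, mul_one]
    have h1 := (D.theta_lower_mul (χ l) (hu l) (hginv l)).2
    show χ l ((g.1 : Matrix (Fin 2) (Fin 2) D.TQ) 0 0) *
      χ l (((g₀⁻¹ : D.Gam) : GL (Fin 2) D.TQ × GL n F).1.val 0 0) = 1
    rw [← h1, show g * ((g₀⁻¹ : D.Gam) : GL (Fin 2) D.TQ × GL n F) = 1 from mul_inv_cancel g]
    simp
  have hpz : IsPGroup p (Subgroup.zpowers (⟨r₀, hr₀⟩ : U)) := by
    rintro ⟨_, k, rfl⟩
    refine ⟨k₀, Subtype.ext ?_⟩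
    have h1 : (⟨r₀, hr₀⟩ : U) ^ p ^ k₀ = 1 := Subtype.ext (Subtype.ext (Prod.ext hrX hr))
    show ((⟨r₀, hr₀⟩ : U) ^ k) ^ p ^ k₀ = 1
    rw [← zpow_natCast, ← _root_.zpow_mul, mul_comm, _root_.zpow_mul, zpow_natCast, h1, _root_.one_zpow]
  obtain ⟨S, hS⟩ := hpz.exists_le_sylow
  -- the conjugate Sylow subgroup
  let cj : U ≃* U :=
    { toFun := fun x => ⟨g₀ * x * g₀⁻¹, hnorm x x.2⟩
      invFun := fun x => ⟨g₀⁻¹ * x * g₀, by
        have hgU : ∀ x ∈ U, g₀⁻¹ * x * g₀ ∈ U := fun x hx => hU.mpr fun l => by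
          obtain ⟨a1, a2⟩ := D.theta_lower_mul (χ l) (hginv l) (hU.mp hx l).1
          obtain ⟨b1, b2⟩ := D.theta_lower_mul (χ l) a1 (hu l)
          refine ⟨b1, ?_⟩
          rw [Subgroup.coe_mul, Subgroup.coe_mul, b2, a2, (hU.mp hx l).2, mul_one]
          have h1 := (D.theta_lower_mul (χ l) (hginv l) (hu l)).2
          rw [← h1, show ((g₀⁻¹ : D.Gam) : GL (Fin 2) D.TQ × GL n F) * g = 1 from inv_mul_cancel g]
          simp
        exact hgU x x.2⟩
      left_inv := fun x => Subtype.ext (by simp [mul_assoc])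
      right_inv := fun x => Subtype.ext (by simp [mul_assoc])
      map_mul' := fun x y => Subtype.ext (by simp [mul_assoc]) }
  let S' : Sylow p U := ⟨(S : Subgroup U).map cj.toMonoidHom, S.2.map _, by
    intro R hR hle
    have h1 : (S : Subgroup U) ≤ R.map cj.symm.toMonoidHom := fun x hx =>
      ⟨cj x, hle ⟨x, hx, rfl⟩, cj.symm_apply_apply x⟩
    have h2 := S.3 (hR.map _) h1
    rw [← h2, Subgroup.map_map]
    ext x
    simp⟩
  obtain ⟨u, hu'⟩ := MulAction.exists_smul_eq U S' S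
  set q₀ : D.Gam := (u : D.Gam) * g₀ with hq₀
  have hq₀n : ∀ x : U, x ∈ (S : Subgroup U) → ∃ y : U, y ∈ (S : Subgroup U) ∧ (y : D.Gam) = q₀ * x * q₀⁻¹ := by
    intro x hx
    refine ⟨u * cj x * u⁻¹, ?_, ?_⟩
    · rw [← hu', Sylow.coe_subgroup_smul]
      exact ⟨cj x, ⟨x, hx, rfl⟩, rfl⟩
    · simp [cj, hq₀, mul_assoc]
  have hnk : ∀ k : ℕ, ∃ y : U, y ∈ (S : Subgroup U) ∧ (y : D.Gam) = q₀ ^ k * r₀ * (q₀ ^ k)⁻¹ := by
    intro k
    induction k with
    | zero => exact ⟨⟨r₀, hr₀⟩, hS (Subgroup.mem_zpowers _), by simp⟩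
    | succ k ih =>
      obtain ⟨y, hy, hye⟩ := ih
      obtain ⟨z, hz, hze⟩ := hq₀n y hy
      refine ⟨z, hz, ?_⟩
      rw [hze, hye, pow_succ']
      group
  have hq₀l : ∀ l, χ l (((q₀ : GL (Fin 2) D.TQ × GL n F).1 : Matrix (Fin 2) (Fin 2) D.TQ) 1 0) = 0 ∧
      χ l (((q₀ : GL (Fin 2) D.TQ × GL n F).1 : Matrix (Fin 2) (Fin 2) D.TQ) 0 0) =
        χ l ((g.1 : Matrix (Fin 2) (Fin 2) D.TQ) 0 0) := fun l => by
    obtain ⟨a1, a2⟩ := D.theta_lower_mul (χ l) (hU.mp u.2 l).1 (hu l)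
    exact ⟨a1, by rw [hq₀, Subgroup.coe_mul]; exact a2.trans (by rw [(hU.mp u.2 l).2, one_mul])⟩
  -- the part of order prime to `p`
  set N₀ := orderOf q₀
  set v := N₀.factorization p
  set o := N₀ / p ^ v
  have hN₀ : 0 < N₀ := orderOf_pos q₀
  have ho : ¬ p ∣ o := Nat.not_dvd_ordCompl hp.out hN₀.ne'
  have hsplit : p ^ v * o = N₀ := Nat.ordProj_mul_ordCompl_eq_self _ p
  have hcop : Nat.Coprime (p ^ v) o := ((hp.out.coprime_iff_not_dvd).mpr ho).pow_left v
  obtain ⟨k, hk⟩ : ∃ k, p ^ v * k % o = 1 ∨ o = 1 := by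
    by_cases h1 : o = 1
    · exact ⟨0, Or.inr h1⟩
    · have h0 : o ≠ 0 := fun h => ho (by rw [h]; exact dvd_zero p)
      have h1' : 1 < o := by clear_value o; clear hsplit; omega
      obtain ⟨k, -, hk⟩ := Nat.exists_mul_mod_eq_one_of_coprime hcop h1'
      exact ⟨k, Or.inl hk⟩
  set e := p ^ v * k
  have hpowl : ∀ j l, χ l (((q₀ ^ j : D.Gam) : GL (Fin 2) D.TQ × GL n F).1.val 1 0) = 0 ∧
      χ l (((q₀ ^ j : D.Gam) : GL (Fin 2) D.TQ × GL n F).1.val 0 0) =
        χ l ((g.1 : Matrix (Fin 2) (Fin 2) D.TQ) 0 0) ^ j := by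
    intro j l
    induction j with
    | zero => simp
    | succ j ihj =>
      obtain ⟨a1, a2⟩ := D.theta_lower_mul (χ l) ihj.1 (hq₀l l).1
      rw [pow_succ, Subgroup.coe_mul]
      exact ⟨a1, by rw [a2, ihj.2, (hq₀l l).2, pow_succ]⟩
  refine ⟨((q₀ ^ e : D.Gam) : GL (Fin 2) D.TQ × GL n F), (q₀ ^ e).2, fun l => ⟨?_, (hpowl e l).1⟩,
    ⟨o, ho, ?_⟩, ?_⟩
  · rw [(hpowl e l).2]
    set a := χ l ((g.1 : Matrix (Fin 2) (Fin 2) D.TQ) 0 0)
    have ha : a ^ N₀ = 1 := by
      have := (hpowl N₀ l).2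
      rw [pow_orderOf_eq_one] at this
      simpa using this.symm
    have hao : a ^ o = 1 := by
      refine iterateFrobenius_inj (K l) p v ?_
      rw [map_one, iterateFrobenius_def, ← pow_mul, mul_comm, hsplit, ha]
    rw [← Nat.mod_add_div e o, pow_add, pow_mul, hao, one_pow, mul_one]
    show a ^ (e % o) = a
    rcases hk with h | h
    · rw [h, pow_one]
    · rw [h, pow_one] at hao
      rw [h, Nat.mod_one, pow_zero, hao]
  · have : (q₀ ^ e) ^ o = 1 := by
      rw [← pow_mul, show e * o = N₀ * k by rw [← hsplit]; ring, pow_mul, pow_orderOf_eq_one, one_pow]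
    exact congrArg (fun x : D.Gam => (x : GL (Fin 2) D.TQ × GL n F).2) this
  · refine ⟨((S : Subgroup U).map U.subtype).map ((MonoidHom.snd _ _).comp D.Gam.subtype), ?_,
      (S.2.map _).map _, ⟨r₀, ⟨⟨r₀, hr₀⟩, hS (Subgroup.mem_zpowers _), rfl⟩, rfl⟩, ?_⟩
    · rintro _ ⟨x, -, rfl⟩
      exact D.snd_mem x.2
    · obtain ⟨y, hy, hye⟩ := hnk e
      refine ⟨y, ⟨y, hy, rfl⟩, ?_⟩
      rw [hye]
      rfl

end QPair

end CfsgLib.TWSp
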