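import Cfsg.Agent.TensorWreathSp.Slices
import Cfsg.Agent.TensorWreathSp.Control
import Mathlib.GroupTheory.PGroup

/-!
# Symplectic factors of dimension two in odd characteristic: roots and fusion
-/

set_option autoImplicit false
set_option linter.unusedSectionVars false

namespace CfsgLib.TWSp

open Matrix CfsgLib.MaxSub CfsgLib.TWreath

variable {F : Type*} [Field F] {ι : Type} [Fintype ι] [DecidableEq ι]

/-- Two functionals killing the same non-zero vector of the plane are proportional. -/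
theorem prop_of_perp {c φ ψ : Fin 2 → F} (hc : c ≠ 0) (hψ : ψ ≠ 0) (h : φ ⬝ᵥ c = 0) (h' : ψ ⬝ᵥ c = 0) :
    ∃ t : F, φ = t • ψ := by
  rw [dotProduct, Fin.sum_univ_two] at h h'
  have hx : φ 0 * ψ 1 = φ 1 * ψ 0 := by
    rcases eq_or_ne (c 0) 0 with h0 | h0
    · have h1 : c 1 ≠ 0 := fun h1 => hc (funext fun k => by fin_cases k <;> assumption)
      refine mul_left_cancel₀ h1 ?_
      linear_combination φ 0 * h' - ψ 0 * h
    · refine mul_left_cancel₀ h0 ?_
      linear_combination ψ 1 * h - φ 1 * h'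
  rcases eq_or_ne (ψ 0) 0 with h0 | h0
  · have h1 : ψ 1 ≠ 0 := fun h1 => hψ (funext fun k => by fin_cases k <;> assumption)
    refine ⟨φ 1 / ψ 1, funext fun k => ?_⟩
    fin_cases k
    · simp only [Fin.mk_zero, Pi.smul_apply, smul_eq_mul, h0, mul_zero]
      rw [h0, mul_zero] at hx
      exact (mul_eq_zero.mp hx).resolve_right h1
    · simp [div_mul_cancel₀ _ h1]
  · refine ⟨φ 0 / ψ 0, funext fun k => ?_⟩
    fin_cases k
    · simp [div_mul_cancel₀ _ h0]
    · simp only [Fin.mk_one, Pi.smul_apply, smul_eq_mul]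
      rw [div_mul_eq_mul_div, eq_div_iff h0, hx]

/-- A non-zero square-zero matrix of the plane is a dyad. -/
theorem exists_dyad {N : Matrix (Fin 2) (Fin 2) F} (h2 : N * N = 0) (hN : N ≠ 0) :
    ∃ c φ : Fin 2 → F, c ≠ 0 ∧ φ ≠ 0 ∧ φ ⬝ᵥ c = 0 ∧ N = vecMulVec c φ := by
  have e00 := congrFun (congrFun h2 0) 0
  have e01 := congrFun (congrFun h2 0) 1
  have e10 := congrFun (congrFun h2 1) 0
  have e11 := congrFun (congrFun h2 1) 1
  simp only [Matrix.mul_apply, Fin.sum_univ_two, Matrix.zero_apply] at e00 e01 e10 e11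
  by_cases hb : N 0 1 = 0
  · have ha : N 0 0 = 0 := mul_self_eq_zero.mp (by rw [hb, zero_mul, add_zero] at e00; exact e00)
    have hd : N 1 1 = 0 := mul_self_eq_zero.mp (by rw [hb, mul_zero, zero_add] at e11; exact e11)
    have he : N 1 0 ≠ 0 := fun he => hN (Matrix.ext fun a b => by fin_cases a <;> fin_cases b <;> assumption)
    refine ⟨![0, N 1 0], ![1, 0], fun h => he (by simpa using congrFun h 1),
      fun h => one_ne_zero (α := F) (by simpa using congrFun h 0), by simp [dotProduct, Fin.sum_univ_two],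
      Matrix.ext fun a b => by fin_cases a <;> fin_cases b <;> simp [vecMulVec_apply, ha, hb, hd]⟩
  · have htr : N 1 1 = - N 0 0 := by
      refine eq_neg_of_add_eq_zero_left ((mul_eq_zero.mp ?_).resolve_left hb)
      linear_combination e01
    refine ⟨![N 0 1, N 1 1], ![N 0 0 / N 0 1, 1], fun h => hb (by simpa using congrFun h 0),
      fun h => one_ne_zero (α := F) (by simpa using congrFun h 1),
      by simp [dotProduct, Fin.sum_univ_two, htr, div_mul_cancel₀ _ hb],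
      Matrix.ext fun a b => ?_⟩
    fin_cases a <;> fin_cases b <;> simp [vecMulVec_apply, mul_div_cancel₀ _ hb]
    rw [htr, neg_mul, ← mul_div_assoc, ← neg_div, eq_div_iff hb]
    linear_combination e00

/-- In the plane quadratic elements of the wreath group are roots. -/
theorem classify2 [Finite F] {p : ℕ} [Fact p.Prime] [CharP F p] (hp2 : p ≠ 2) {u : GL (ι → Fin 2) F}
    (hu : u ∈ wreath ι 2 F) (hu1 : u ≠ 1)
    (h2 : ((u : Matrix (ι → Fin 2) (ι → Fin 2) F) - 1) * ((u : Matrix (ι → Fin 2) (ι → Fin 2) F) - 1) = 0) :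
    ∃ j c φ, c ≠ 0 ∧ φ ≠ 0 ∧ φ ⬝ᵥ c = 0 ∧ u = root j c φ := by
  classical
  have h2F : (2 : F) ≠ 0 := Ring.two_ne_zero (by rw [ringChar.eq F p]; exact hp2)
  obtain ⟨σ, hσ⟩ := hu
  have hσ1 : σ = 1 := by
    have hσ2 := hσ.sq_eq_one_of_quadratic le_rfl h2
    have hσp : σ ^ p = 1 := by
      have := hσ.pow p
      rw [pow_prime_eq_one h2] at this
      exact (HasPerm.one.unique le_rfl this).symm
    obtain ⟨k, hk⟩ := (Fact.out (p := p.Prime)).odd_of_ne_two hp2
    rwa [hk, pow_succ, pow_mul, pow_two, hσ2, one_pow, one_mul] at hσp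
  obtain ⟨gs, rfl⟩ := hσ
  subst hσ1
  rw [map_one, mul_one] at h2 hu1 ⊢
  have hu' : (PtG gs : GL (ι → Fin 2) F) ^ p = 1 := pow_prime_eq_one h2
  have h1 : Pt (fun k => (gs k : Matrix (Fin 2) (Fin 2) F) ^ p) = 1 := by
    have h := congrArg Units.val hu'
    rw [← map_pow, PtG_val, Units.val_one] at h
    simpa using h
  obtain ⟨l, hl, hlprod⟩ := exists_scalar_of_Pt_eq_one h1
  have hsurj : Function.Surjective (frobenius F p) :=
    Finite.surjective_of_injective (frobenius F p).injective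
  choose μ hμ using fun k => hsurj (l k)
  simp only [frobenius_def] at hμ
  have hμprod : ∏ k, μ k = 1 := by
    refine (frobenius F p).injective ?_
    rw [map_one, frobenius_def, ← Finset.prod_pow, Finset.prod_congr rfl fun k _ => hμ k, hlprod]
  have hμ0 : ∀ k, μ k ≠ 0 := fun k h0 => by
    rw [Finset.prod_eq_zero (Finset.mem_univ k) h0] at hμprod
    exact zero_ne_one hμprod
  let g : ι → Matrix (Fin 2) (Fin 2) F := fun k => (μ k)⁻¹ • (gs k : Matrix (Fin 2) (Fin 2) F)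
  set U := ((PtG gs : GL (ι → Fin 2) F) : Matrix (ι → Fin 2) (ι → Fin 2) F) with hU
  have hUg : U = Pt g := by
    rw [hU, PtG_val]
    conv_rhs => rw [show g = fun k => (μ k)⁻¹ • (gs k : Matrix (Fin 2) (Fin 2) F) from rfl,
      Pt_smul, Finset.prod_inv_distrib, hμprod, inv_one, one_smul]
  obtain ⟨i, hi⟩ : ∃ i, g i ≠ 1 := by
    by_contra hc
    push Not at hc
    exact hu1 (Units.ext (by rw [← hU, hUg, show g = 1 from funext hc, Pt_one, Units.val_one]))
  set N := g i - 1 with hN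
  have hN0 : N ≠ 0 := sub_ne_zero.mpr hi
  have hNp : N ^ p = 0 := by
    rw [hN, sub_pow_char_of_commute _ (Commute.one_right _), smul_pow, hl, smul_smul, ← hμ i, inv_pow,
      inv_mul_cancel₀ (pow_ne_zero _ (hμ0 i)), one_smul, one_pow, sub_self]
  have hdet : N.det = 0 := by
    have := congrArg Matrix.det hNp
    rw [det_pow, det_zero] at this
    exact eq_zero_of_pow_eq_zero this
  set τ := N 0 0 + N 1 1 with hτ
  have hCH : N * N = τ • N := by
    rw [det_fin_two] at hdet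
    ext a b
    fin_cases a <;> fin_cases b <;>
      simp [Matrix.mul_apply, Fin.sum_univ_two, hτ] <;>
        first
        | linear_combination -hdet
        | linear_combination hdet
        | ring
  have hN2 : N * N = 0 := by
    have hpow : ∀ k : ℕ, N ^ (k + 1) = τ ^ k • N := by
      intro k
      induction k with
      | zero => simp
      | succ k ih => rw [pow_succ, ih, smul_mul_assoc, hCH, smul_smul, pow_succ]
    have h := hpow (p - 1)
    rw [Nat.sub_add_cancel (Fact.out (p := p.Prime)).one_le, hNp] at h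
    rw [hCH, eq_zero_of_pow_eq_zero ((smul_eq_zero.mp h.symm).resolve_right hN0), zero_smul]
  obtain ⟨c, φ, hc, hφ, hφc, hNe⟩ := exists_dyad hN2 hN0
  set H := Pt (fun j : {j // j ≠ i} => g j) with hH
  have hgi : g i = 1 + N := by rw [hN, add_sub_cancel]
  have hUlift : ∀ x w, U *ᵥ lift i x w = lift i (g i *ᵥ x) (H *ᵥ w) := fun x w => by
    rw [hUg, Pt_mulVec_lift]
  have hgc : g i *ᵥ c = c := by
    rw [hgi, add_mulVec, one_mulVec, hNe, vecMulVec_mulVec', hφc, zero_smul, add_zero]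
  have hmv : ∀ x w, (U - 1) *ᵥ lift i x w = lift i (g i *ᵥ x) (H *ᵥ w) - lift i x w := fun x w => by
    rw [sub_mulVec, one_mulVec, hUlift]
  have hc1 : ∀ w, (U - 1) *ᵥ lift i c w = lift i c ((H - 1) *ᵥ w) := fun w => by
    rw [hmv, hgc, sub_mulVec, one_mulVec, map_sub]
  have hδ2 : ∀ w, (H - 1) *ᵥ ((H - 1) *ᵥ w) = 0 := fun w => lift_injective (i := i) hc (by
    rw [← hc1, ← hc1, mulVec_mulVec, h2, zero_mulVec, map_zero])
  obtain ⟨d, hd⟩ := exists_dot_eq_one hφ
  rw [dotProduct_comm] at hd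
  have hgd : g i *ᵥ d = d + c := by rw [hgi, add_mulVec, one_mulVec, hNe, vecMulVec_mulVec', hd, one_smul]
  have hd1 : ∀ w, (U - 1) *ᵥ lift i d w = lift i d ((H - 1) *ᵥ w) + lift i c (H *ᵥ w) := fun w => by
    rw [hmv, hgd, lift_add_left, sub_mulVec, one_mulVec, map_sub]; abel
  have hδ : ∀ w, (H - 1) *ᵥ w = 0 := fun w => by
    have h := congrArg (· *ᵥ lift i d w) h2
    rw [← mulVec_mulVec, hd1, mulVec_add, hd1, hc1, hδ2, map_zero, zero_add, zero_mulVec, ← map_add] at h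
    have h' := lift_injective (i := i) hc (h.trans (map_zero _).symm)
    have e : H *ᵥ w = w + (H - 1) *ᵥ w := by rw [sub_mulVec, one_mulVec, add_sub_cancel]
    rw [e, mulVec_add, hδ2, add_zero, mulVec_mulVec, show H * (H - 1) = (H - 1) + (H - 1) * (H - 1) by noncomm_ring,
      add_mulVec, ← mulVec_mulVec, hδ2, add_zero, ← two_smul F] at h'
    exact (smul_eq_zero.mp h').resolve_left h2F
  refine ⟨i, c, φ, hc, hφ, hφc, Units.ext ?_⟩
  rw [← hU, root_val hφc, ← hNe]
  refine ext_lift (i := i) fun x w => ?_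
  have hw : H *ᵥ w = w := by
    have := hδ w
    rwa [sub_mulVec, one_mulVec, sub_eq_zero] at this
  rw [hUlift, hw, hgi, add_mulVec, one_mulVec, add_mulVec, one_mulVec, lift_add_left, emb_mulVec_lift]

/-- In the plane the kernel of a root is its block. -/
theorem mem_block_of_emb {i : ι} {c φ : Fin 2 → F} (hc : c ≠ 0) (hφ : φ ≠ 0) (h : φ ⬝ᵥ c = 0)
    {v : (ι → Fin 2) → F} (hv : emb i (vecMulVec c φ) *ᵥ v = 0) : v ∈ block i c := by
  refine mem_block.mpr fun χ hχ => ?_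
  obtain ⟨t, rfl⟩ := prop_of_perp hc hφ hχ h
  have h0 : ctr i φ v = 0 := (emb_vecMulVec_eq_zero (c := c) hc).mp hv
  funext a
  have := congrFun h0 a
  simp only [ctr, LinearMap.coe_mk, AddHom.coe_mk, Pi.zero_apply] at this ⊢
  rw [smul_dotProduct, this, smul_zero]

/-- An overgroup of planar symplectic factors without fused blocks. -/
structure Rigid2 (G : Matrix (Fin 2) (Fin 2) F) (M : Subgroup (GL (ι → Fin 2) F)) : Prop where
  two : (2 : F) ≠ 0
  form : SpForm G
  sim : M ≤ gsim ι G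
  factors : HasFactors G M
  noFusion : ∀ y ∈ M, ∀ (i j : ι) (c c' : Fin 2 → F), c ≠ 0 → c' ≠ 0 →
    (block i c).map (Matrix.mulVecLin (y : Matrix (ι → Fin 2) (ι → Fin 2) F)) ≤ block j c' →
    y ∈ wreath ι 2 F

variable [Finite F] {p : ℕ} [Fact p.Prime] [CharP F p] {G : Matrix (Fin 2) (Fin 2) F}
  {M : Subgroup (GL (ι → Fin 2) F)}

namespace Rigid2

variable (hM : Rigid2 G M)

include hM

theorem ne_two : p ≠ 2 := fun h => hM.two (by subst h; exact CharTwo.two_eq_zero)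

/-- The root with centre `c`. -/
theorem root_mem (i : ι) (c : Fin 2 → F) : root i c (G *ᵥ c) ∈ M := by
  have := hM.factors.rt_mem hM.form i 1 c
  rwa [rt_eq_root, one_smul] at this

/-- A root conjugated into the wreath group gives a fused block. -/
theorem mem_of_conj_root {y : GL (ι → Fin 2) F} (hy : y ∈ M) {i : ι} {c φ : Fin 2 → F} (h : φ ⬝ᵥ c = 0)
    (hc : c ≠ 0) (hφ : φ ≠ 0) (hyr : y * root i c φ * y⁻¹ ∈ wreath ι 2 F) : y ∈ wreath ι 2 F := by
  obtain ⟨p, hp'⟩ := CharP.exists F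
  have : Fact p.Prime := ⟨CharP.char_is_prime F p⟩
  have hne : y * root i c φ * y⁻¹ ≠ 1 := fun h1 => by
    rw [conj_eq_one_iff] at h1
    have := root_rank (i := i) h hc hφ
    rw [h1, Units.val_one, sub_self, Matrix.rank_zero] at this
    exact (pow_pos two_pos _).ne' this.symm
  obtain ⟨j, c', φ', hc', hφ', h', he⟩ := classify2 (hM.ne_two (p := p)) hyr hne (conj_quadratic (root_quadratic h))
  refine hM.noFusion y hy i j c c' hc hc' ?_
  rw [block_eq_range hφ, block_eq_range hφ', ← root_sub_one h, ← root_sub_one h']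
  rintro _ ⟨_, ⟨w, rfl⟩, rfl⟩
  refine ⟨(y : Matrix (ι → Fin 2) (ι → Fin 2) F) *ᵥ w, ?_⟩
  simp only [mulVecLin_apply]
  rw [← he, conj_sub_one, mulVec_mulVec, mul_assoc, Units.inv_mul, mul_one, mulVec_mulVec]

/-- A Sylow subgroup of `M` lies in the wreath group. -/
theorem exists_sylow [Nonempty ι] : ∃ P : Subgroup (GL (ι → Fin 2) F), P ≤ wreath ι 2 F ∧
    ∀ X : Subgroup (GL (ι → Fin 2) F), X ≤ M → IsPGroup p X → ∃ g ∈ M, ∀ x ∈ X, g * x * g⁻¹ ∈ P := by
  classical
  obtain ⟨i⟩ := ‹Nonempty ι›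
  set c : Fin 2 → F := Pi.single 0 1 with hcdef
  have hc : c ≠ 0 := by simp [c]
  set φ := G *ᵥ c with hφdef
  have h : φ ⬝ᵥ c = 0 := hM.form.axis_self c
  have hφ : φ ≠ 0 := hM.form.axis_ne hc
  set r := root i c φ with hr
  set L := M ⊓ wreath ι 2 F with hL
  have hrL : Subgroup.zpowers r ≤ L := Subgroup.zpowers_le.mpr ⟨hM.root_mem i c, root_mem_wreath i c φ⟩
  obtain ⟨P₀, hP₀⟩ := ((isPGroup_zpowers_root (p := p) (i := i) h).comap_subtype (K := L)).exists_le_sylow
  set P : Subgroup (GL (ι → Fin 2) F) := (P₀ : Subgroup L).map L.subtype with hP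
  have hPp : IsPGroup p P := P₀.2.map _
  have hPL : P ≤ L := Subgroup.map_subtype_le _
  have hrP : r ∈ P := ⟨⟨r, hrL (Subgroup.mem_zpowers r)⟩, hP₀ (Subgroup.mem_zpowers r), rfl⟩
  have hmaxL : ∀ R : Subgroup (GL (ι → Fin 2) F), IsPGroup p R → P ≤ R → R ≤ L → R = P := by
    intro R hR hPR hRL
    have h1 : IsPGroup p (R.subgroupOf L) := hR.comap_subtype
    have h2 : (P₀ : Subgroup L) ≤ R.subgroupOf L := fun z hz => hPR ⟨z, hz, rfl⟩
    have h3 : R.subgroupOf L = (P₀ : Subgroup L) := P₀.3 h1 h2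
    rw [hP, ← h3, Subgroup.map_subgroupOf_eq_of_le hRL]
  have hmax : ∀ Q : Subgroup (GL (ι → Fin 2) F), Q ≤ M → IsPGroup p Q → ¬ P < Q := by
    intro Q hQM hQp hPQ
    have : Finite Q := Subtype.finite
    have hnil := hQp.isNilpotent
    have hlt : P.subgroupOf Q < Subgroup.normalizer ((P.subgroupOf Q : Subgroup Q) : Set Q) := by
      refine Group.normalizerCondition_of_isNilpotent (P.subgroupOf Q) (lt_top_iff_ne_top.mpr fun h => ?_)
      exact hPQ.not_ge (Subgroup.subgroupOf_eq_top.mp h)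
    obtain ⟨⟨y, hyQ⟩, hyN, hyP⟩ := SetLike.exists_of_lt hlt
    have hnorm : ∀ z ∈ P, y * z * y⁻¹ ∈ P := fun z hz =>
      (Subgroup.mem_normalizer_iff.mp hyN ⟨z, hPQ.le hz⟩).mp hz
    have hyW := hM.mem_of_conj_root (hQM hyQ) h hc hφ (hPL (hnorm r hrP)).2
    have hle : Subgroup.closure (insert y (P : Set (GL (ι → Fin 2) F))) ≤ Q ⊓ L :=
      (Subgroup.closure_le _).mpr (Set.insert_subset_iff.mpr
        ⟨⟨hyQ, hQM hyQ, hyW⟩, fun z hz => ⟨hPQ.le hz, hPL hz⟩⟩)
    have hR := hmaxL _ (hQp.to_le (hle.trans inf_le_left))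
      (fun z hz => Subgroup.subset_closure (Set.mem_insert_of_mem _ hz)) (hle.trans inf_le_right)
    exact hyP (hR ▸ Subgroup.subset_closure (Set.mem_insert _ _) : y ∈ P)
  have hPM : P ≤ M := fun x hx => (hPL hx).1
  let S₁ : Sylow p M := ⟨P.subgroupOf M, hPp.comap_subtype, by
    intro R hR hle
    have h2 : P ≤ R.map M.subtype := by
      rw [← Subgroup.map_subgroupOf_eq_of_le hPM]; exact Subgroup.map_mono hle
    have h4 : R.map M.subtype = P :=
      (eq_of_le_of_not_lt h2 (hmax _ (Subgroup.map_subtype_le _) (hR.map _))).symm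
    show R = P.subgroupOf M
    rw [← h4, Subgroup.subgroupOf, Subgroup.comap_map_eq_self_of_injective M.subtype_injective]⟩
  refine ⟨P, fun x hx => (hPL hx).2, fun X hXM hXp => ?_⟩
  obtain ⟨S₂, hS₂⟩ := (hXp.comap_subtype (K := M)).exists_le_sylow
  obtain ⟨g, hg⟩ := MulAction.exists_smul_eq M S₂ S₁
  refine ⟨g, g.2, fun x hx => ?_⟩
  have : (g * ⟨x, hXM hx⟩ * g⁻¹ : M) ∈ (S₁ : Subgroup M) := by
    rw [← hg, Sylow.coe_subgroup_smul]
    exact ⟨⟨x, hXM hx⟩, hS₂ hx, rfl⟩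
  exact this

/-- `p`-subgroups containing a root lie in the wreath group. -/
theorem le_of_root_mem {X : Subgroup (GL (ι → Fin 2) F)} (hXM : X ≤ M) (hX : IsPGroup p X) {i : ι}
    {c φ : Fin 2 → F} (h : φ ⬝ᵥ c = 0) (hc : c ≠ 0) (hφ : φ ≠ 0) (hr : root i c φ ∈ X) :
    X ≤ wreath ι 2 F := by
  have : Nonempty ι := ⟨i⟩
  obtain ⟨P, hPW, hP⟩ := hM.exists_sylow (p := p)
  obtain ⟨g, hgM, hg⟩ := hP X hXM hX
  have hgW := hM.mem_of_conj_root hgM h hc hφ (hPW (hg _ hr))
  intro x hx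
  have := (wreath ι 2 F).mul_mem ((wreath ι 2 F).mul_mem ((wreath ι 2 F).inv_mem hgW) (hPW (hg x hx))) hgW
  simpa [mul_assoc] using this

end Rigid2

/-- Roots generating a `p`-group in one factor have the same centre. -/
theorem centre_eq_of_pgroup {P : Subgroup (GL (ι → Fin 2) F)} (hP : IsPGroup p P) {i : ι}
    {c φ c' φ' : Fin 2 → F} (h : φ ⬝ᵥ c = 0) (hc : c ≠ 0) (hφ : φ ≠ 0) (h' : φ' ⬝ᵥ c' = 0) (hc' : c' ≠ 0)
    (hφ' : φ' ≠ 0) (hr : root i c φ ∈ P) (hr' : root i c' φ' ∈ P) : φ' ⬝ᵥ c = 0 := by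
  have := Fintype.ofFinite F
  set Q := P.comap (embG (F := F) (m := 2) i) with hQ
  have hQp : IsPGroup p Q := hP.comap_of_injective _ (embG_injective i)
  let _ : MulAction Q (Fin 2 → F) :=
    { smul := fun g v => ((g : GL (Fin 2) F) : Matrix (Fin 2) (Fin 2) F) *ᵥ v
      one_smul := fun v => by show ((1 : GL (Fin 2) F) : Matrix (Fin 2) (Fin 2) F) *ᵥ v = v; rw [Units.val_one, one_mulVec]
      mul_smul := fun g g' v => by
        show ((g * g' : Q) : GL (Fin 2) F).val *ᵥ v = _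
        rw [Subgroup.coe_mul, Units.val_mul, ← mulVec_mulVec]; rfl }
  have hdvd : p ∣ Nat.card (Fin 2 → F) := by
    rw [Nat.card_fun, Nat.card_eq_fintype_card (α := F)]
    obtain ⟨n, hp, hn⟩ := FiniteField.card F p
    rw [hn]
    exact dvd_pow (dvd_pow_self p n.ne_zero) (by simp)
  obtain ⟨v, hv, hv0⟩ := hQp.exists_fixed_point_of_prime_dvd_card_of_fixed_point (Fin 2 → F) hdvd
    (a := 0) (fun g => mulVec_zero _)
  have h1 : tv c φ ∈ Q := hr
  have h2 : tv c' φ' ∈ Q := hr'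
  have e1 : (tv c φ : Matrix (Fin 2) (Fin 2) F) *ᵥ v = v := hv ⟨_, h1⟩
  have e2 : (tv c' φ' : Matrix (Fin 2) (Fin 2) F) *ᵥ v = v := hv ⟨_, h2⟩
  rw [tv_mulVec h, add_eq_left, smul_eq_zero, or_iff_left hc] at e1
  rw [tv_mulVec h', add_eq_left, smul_eq_zero, or_iff_left hc'] at e2
  obtain ⟨t, ht⟩ := prop_of_perp hv0.symm hφ e2 e1
  rw [ht, smul_dotProduct, h, smul_zero]

end CfsgLib.TWSp
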