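import Cfsg.Agent.TensorWreathSp.PlaneLeWreath
import Cfsg.Agent.TensorWreathSp.Recursion

/-!
# Overgroups of planar symplectic factors outside the wreath group contain central elements
-/

set_option autoImplicit false
set_option linter.unusedSectionVars false

namespace CfsgLib.TWSp

open Matrix CfsgLib.MaxSub CfsgLib.TWreath

variable {F : Type*} [Field F] {ι : Type} [Fintype ι] [DecidableEq ι] {G : Matrix (Fin 2) (Fin 2) F}

/-- Expansion along a hyperbolic pair of the plane. -/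
theorem plane_expand (hG : SpForm G) {c d : Fin 2 → F} (hd : om G d c = 1) (x : Fin 2 → F) :
    x = om G x c • d + (-om G x d) • c := by
  have hcd : om G c d = -1 := by rw [hG.skew, hd]
  set z := x - (om G x c • d + (-om G x d) • c) with hz
  have h1 : (G *ᵥ c) ⬝ᵥ z = 0 := by
    rw [axis_dot, hz, sub_eq_add_neg, ← neg_one_smul F, om_add_left, om_smul_left, om_add_left, om_smul_left,
      om_smul_left, hd, hG.self]
    ring
  have h2 : (G *ᵥ d) ⬝ᵥ z = 0 := by
    rw [axis_dot, hz, sub_eq_add_neg, ← neg_one_smul F, om_add_left, om_smul_left, om_add_left, om_smul_left,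
      om_smul_left, hcd, hG.self]
    ring
  by_contra hne
  have hz0 : z ≠ 0 := sub_ne_zero.mpr hne
  have hc : c ≠ 0 := fun h0 => by
    rw [h0, om, mulVec_zero, dotProduct_zero] at hd
    exact zero_ne_one hd
  obtain ⟨t, ht⟩ := prop_of_perp hz0 (hG.axis_ne hc) h2 h1
  have := congrArg (· ⬝ᵥ c) ht
  simp only [smul_dotProduct, axis_dot, hcd, hG.self, smul_zero] at this
  exact one_ne_zero (neg_eq_zero.mp this)

/-- A diagonal matrix in a hyperbolic pair. -/
def pdiag (G : Matrix (Fin 2) (Fin 2) F) (c d : Fin 2 → F) (a b : F) : Matrix (Fin 2) (Fin 2) F :=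
  (-a) • vecMulVec c (G *ᵥ d) + b • vecMulVec d (G *ᵥ c)

variable {c d : Fin 2 → F}

theorem pdiag_mulVec (x : Fin 2 → F) (a b : F) :
    pdiag G c d a b *ᵥ x = (b * om G x c) • d + (-(a * om G x d)) • c := by
  rw [pdiag, add_mulVec, smul_mulVec, smul_mulVec, vecMulVec_mulVec', vecMulVec_mulVec', axis_dot, axis_dot,
    smul_smul, smul_smul, neg_mul, add_comm]

section

variable (hG : SpForm G) (hd : om G d c = 1)

include hG hd

theorem pdiag_c (a b : F) : pdiag G c d a b *ᵥ c = a • c := by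
  rw [pdiag_mulVec, hG.self, mul_zero, zero_smul, zero_add, show om G c d = -1 by rw [hG.skew, hd]]; simp

theorem pdiag_d (a b : F) : pdiag G c d a b *ᵥ d = b • d := by
  rw [pdiag_mulVec, hG.self, hd, mul_one, mul_zero, neg_zero, zero_smul, add_zero]

theorem pdiag_mul (a b a' b' : F) : pdiag G c d a b * pdiag G c d a' b' = pdiag G c d (a * a') (b * b') := by
  refine Matrix.ext_of_mulVec_single fun k => ?_
  rw [← mulVec_mulVec, pdiag_mulVec (a := a'), mulVec_add, mulVec_smul, mulVec_smul, pdiag_c hG hd, pdiag_d hG hd,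
    pdiag_mulVec, smul_smul, smul_smul]
  congr 2 <;> ring

theorem pdiag_one : pdiag G c d 1 1 = 1 := by
  refine Matrix.ext_of_mulVec_single fun k => ?_
  rw [pdiag_mulVec, one_mulVec, one_mul, one_mul, ← plane_expand hG hd]

/-- The diagonal element. -/
def pdiagG (a b : Fˣ) : GL (Fin 2) F :=
  ⟨pdiag G c d a b, pdiag G c d ((a⁻¹ : Fˣ) : F) ((b⁻¹ : Fˣ) : F),
    by rw [pdiag_mul hG hd, Units.mul_inv, Units.mul_inv, pdiag_one hG hd],
    by rw [pdiag_mul hG hd, Units.inv_mul, Units.inv_mul, pdiag_one hG hd]⟩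

theorem pdiagG_mem (a : Fˣ) : pdiagG hG hd a a⁻¹ ∈ spG G := by
  refine mem_spG_of_om fun x y => ?_
  show om G (pdiag G c d (a : F) ((a⁻¹ : Fˣ) : F) *ᵥ x) (pdiag G c d (a : F) ((a⁻¹ : Fˣ) : F) *ᵥ y) = om G x y
  conv_rhs => rw [plane_expand hG hd x, plane_expand hG hd y]
  simp only [pdiag_mulVec, om_add_left, om_add_right, om_smul_left, om_smul_right, hG.self c, hG.self d, hd,
    show om G c d = -1 by rw [hG.skew, hd]]
  have := a.mul_inv
  linear_combination (om G x d * om G y c - om G x c * om G y d) * this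

end

variable [Finite F] {M : Subgroup (GL (ι → Fin 2) F)} {i : ι}

theorem exists_sq_ne_one (hq3 : Nat.card F ≠ 3) (h2 : (2 : F) ≠ 0) : ∃ l : Fˣ, (l : F) ^ 2 ≠ 1 := by
  obtain ⟨ω, hω⟩ := IsCyclic.exists_generator (α := Fˣ)
  refine ⟨ω, fun h => ?_⟩
  have hord : orderOf ω = Nat.card F - 1 := by
    rw [orderOf_eq_card_of_forall_mem_zpowers hω, Nat.card_units]
  have hd := orderOf_dvd_of_pow_eq_one (show ω ^ 2 = 1 from Units.ext (by simpa using h))
  rw [hord] at hd
  have hle := Nat.le_of_dvd (by norm_num) hd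
  have hge : 2 ≤ Nat.card F := Finite.one_lt_card
  have hF2 : Nat.card F = 2 := by omega
  have : Fintype F := Fintype.ofFinite F
  rw [Nat.card_eq_fintype_card] at hF2
  exact h2 (by
    have h0 : ((2 : ℕ) : F) = 0 := by rw [← hF2]; exact FiniteField.cast_card_eq_zero F
    exact_mod_cast h0)

/-- An element stabilising a block is a root times a split element. -/
theorem split_of_stab2 (hq3 : Nat.card F ≠ 3) (h2 : (2 : F) ≠ 0) (hG : SpForm G) (hsim : M ≤ gsim ι G)
    (hfac : HasFactors G M) (hnc : NoCen G M) {g : GL (ι → Fin 2) F} (hg : g ∈ M) (hgW : g ∉ wreath ι 2 F)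
    (hc : c ≠ 0) (h : (block i c).map (Matrix.mulVecLin (g : Matrix (ι → Fin 2) (ι → Fin 2) F)) ≤ block i c) :
    ∃ x ∈ M, x ∉ wreath ι 2 F ∧ ∃ (A : Matrix (Fin 2) (Fin 2) F) (S : Matrix (Rest i 2) (Rest i 2) F),
      (x : Matrix (ι → Fin 2) (ι → Fin 2) F) = kr i A S := by
  classical
  obtain ⟨d, hd⟩ := hG.exists_partner hc
  obtain ⟨s, hs, hx⟩ := conj_rt_of_block hG hsim hfac hnc hg hc hc h
  set gM := (g : Matrix (ι → Fin 2) (ι → Fin 2) F) with hgM
  have hgN : gM * emb i (cen G c) = s • (emb i (cen G c) * gM) := by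
    have h1 := congrArg (fun u : GL (ι → Fin 2) F => ((u : Matrix (ι → Fin 2) (ι → Fin 2) F) - 1) * gM) hx
    simp only [conj_nil, rt_sub_one hG, one_smul, emb_smul, smul_mul_assoc] at h1
    rw [mul_assoc, hgM, Units.inv_mul, mul_one] at h1
    exact h1
  let Ψ : (Rest i 2 → F) →ₗ[F] (Rest i 2 → F) := s • (proj i (G *ᵥ c) ∘ₗ gM.mulVecLin ∘ₗ lift i d)
  have hf : ∀ u, gM *ᵥ lift i c u = lift i c (Ψ u) := fun u => by
    have h1 : emb i (cen G c) *ᵥ lift i d u = lift i c u := by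
      rw [emb_mulVec_lift, cen_mulVec, hd, one_smul]
    rw [← h1, mulVec_mulVec, hgN, smul_mulVec, ← mulVec_mulVec, emb_eq_kr, cen, kr_vecMulVec_mulVec, one_mulVec,
      ← map_smul]
    rfl
  have hΨi : Function.Injective Ψ := fun u v huv =>
    lift_injective (i := i) hc (mulVec_injective_iff_isUnit.mpr g.isUnit (by rw [hf, hf, huv]))
  have hψu : IsUnit (LinearMap.toMatrix' Ψ) := mulVec_injective_iff_isUnit.mp fun u v huv => hΨi (by
    simpa [LinearMap.toMatrix'_mulVec] using huv)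
  set T := pdiagG hG hd 1 (Units.mk0 s hs)⁻¹ with hT
  set P : GL (ι → Fin 2) F := krG i (T, hψu.unit) with hP
  have hPv : ∀ x w, (P : Matrix (ι → Fin 2) (ι → Fin 2) F) *ᵥ lift i x w =
      lift i (pdiag G c d 1 s⁻¹ *ᵥ x) (Ψ w) := fun x w => by
    rw [hP, krG_val, kr_mulVec_lift]
    show lift i (pdiag G c d ((1 : Fˣ) : F) _ *ᵥ x) (LinearMap.toMatrix' Ψ *ᵥ w) = _
    rw [LinearMap.toMatrix'_mulVec]
    simp
  set z := g * P⁻¹ with hz
  have hgz : g = z * P := by rw [hz, inv_mul_cancel_right]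
  set zM := (z : Matrix (ι → Fin 2) (ι → Fin 2) F) with hzM
  have hzP : ∀ x w, zM *ᵥ lift i (pdiag G c d 1 s⁻¹ *ᵥ x) (Ψ w) = gM *ᵥ lift i x w := fun x w => by
    rw [← hPv, mulVec_mulVec, hzM, ← Units.val_mul, ← hgz]
  have hsur : Function.Surjective Ψ := LinearMap.injective_iff_surjective.mp hΨi
  have hzc : ∀ v, zM *ᵥ lift i c v = lift i c v := fun v => by
    obtain ⟨w, rfl⟩ := hsur v
    have h1 := hzP c w
    rwa [pdiag_c hG hd, one_smul, hf] at h1
  obtain ⟨χ, hχ0, hχ1⟩ := exists_dot_eq_zero_one (a := d) (b := c) fun t ht => by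
    have := congrArg (fun v => om G d v) ht
    simp only [om_smul_right, hG.self, mul_zero, hd] at this
    exact zero_ne_one this
  rw [dotProduct_comm] at hχ0 hχ1
  let B : (Rest i 2 → F) →ₗ[F] (Rest i 2 → F) := proj i χ ∘ₗ (zM - 1).mulVecLin ∘ₗ lift i d
  have hzd : ∀ v, zM *ᵥ lift i d v = lift i d v + lift i c (B v) := fun v => by
    obtain ⟨w, rfl⟩ := hsur v
    have hmem : (zM - 1) *ᵥ lift i d (Ψ w) ∈ block i c := by
      refine mem_block_iff_proj.mpr fun φ hφ => ?_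
      obtain ⟨t, rfl⟩ := prop_of_perp hc (hG.axis_ne hc) hφ (hG.axis_self c)
      have h1 := hzP (s • d) w
      rw [mulVec_smul, pdiag_d hG hd, smul_smul, mul_inv_cancel₀ hs, one_smul, lift_smul_left, mulVec_smul] at h1
      have h2' : proj i (G *ᵥ c) (s • gM *ᵥ lift i d w) = Ψ w := by rw [map_smul]; rfl
      rw [proj_smul_axis, sub_mulVec, one_mulVec, map_sub, h1, h2', proj_lift, axis_dot, hd, one_smul, sub_self,
        smul_zero]
    obtain ⟨u, hu⟩ := exists_lift_of_mem_block hc hmem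
    have h3 : B (Ψ w) = u := by
      show proj i χ ((zM - 1) *ᵥ lift i d (Ψ w)) = u
      rw [hu, proj_lift, hχ1, one_smul]
    rw [h3, ← hu, sub_mulVec, one_mulVec, add_sub_cancel]
  set b := LinearMap.toMatrix' B with hb
  have hzb : zM = 1 + kr i (cen G c) b := ext_lift (i := i) fun x w => by
    conv_lhs => rw [plane_expand hG hd x, lift_add_left, lift_smul_left, lift_smul_left, mulVec_add, mulVec_smul,
      mulVec_smul, hzd, hzc, smul_add, add_right_comm, ← lift_smul_left i (om G x c) d, ← lift_smul_left i _ c,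
      ← lift_add_left, ← plane_expand hG hd x]
    rw [add_mulVec, one_mulVec, kr_mulVec_lift, cen_mulVec, hb, LinearMap.toMatrix'_mulVec, lift_smul_left]
  -- the torus
  obtain ⟨l, hl⟩ := exists_sq_ne_one hq3 h2
  set Tl := pdiagG hG hd l l⁻¹ with hTl
  have hTlG : Tl ∈ spG G := pdiagG_mem hG hd l
  have hcommP : P * embG i Tl = embG i Tl * P := Units.ext (by
    rw [Units.val_mul, Units.val_mul, embG_val, hP, krG_val, emb_eq_kr, kr_mul, kr_mul, Matrix.mul_one, Matrix.one_mul]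
    congr 1
    show pdiag G c d _ _ * pdiag G c d _ _ = pdiag G c d _ _ * pdiag G c d _ _
    rw [pdiag_mul hG hd, pdiag_mul hG hd, mul_comm (((1 : Fˣ)) : F), mul_comm ((((Units.mk0 s hs)⁻¹ : Fˣ)) : F)])
  set x := z * embG i Tl * z⁻¹ * (embG i Tl)⁻¹ with hx
  have hxM : x ∈ M := by
    have : z * embG i Tl * z⁻¹ = g * embG i Tl * g⁻¹ := by
      conv_rhs => rw [hgz, mul_assoc z P, hcommP, _root_.mul_inv_rev]
      group
    rw [hx, this]
    exact M.mul_mem (M.mul_mem (M.mul_mem hg (hfac i _ hTlG)) (M.inv_mem hg)) (M.inv_mem (hfac i _ hTlG))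
  set BZ := kr i (cen G c) b with hBZ
  have hcc : cen G c * cen G c = 0 := vecMulVec_sq (hG.axis_self c)
  have hzi : ((z⁻¹ : GL (ι → Fin 2) F) : Matrix (ι → Fin 2) (ι → Fin 2) F) = 1 - BZ := by
    refine Units.inv_eq_of_mul_eq_one_right ?_
    rw [← hzM, hzb, add_mul, one_mul, mul_sub, mul_one, kr_mul, hcc, kr_zero_left, sub_zero, sub_add_cancel]
  have hcl : cen G ((l : F) • c) = (l : F) ^ 2 • cen G c := by
    rw [cen, cen, mulVec_smul, smul_vecMulVec, vecMulVec_smul, smul_smul, pow_two]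
  have hxv : (x : Matrix (ι → Fin 2) (ι → Fin 2) F) = 1 + kr i (cen G c) ((1 - (l : F) ^ 2) • b) := by
    rw [hx, Units.val_mul, Units.val_mul, Units.val_mul, ← map_inv, embG_val, embG_val, ← hzM, hzb, hzi, mul_assoc,
      mul_assoc, ← mul_assoc (emb i (Tl : Matrix (Fin 2) (Fin 2) F)), mul_sub, mul_one, sub_mul, hBZ, emb_eq_kr,
      emb_eq_kr, kr_mul, kr_mul, kr_mul, Units.mul_inv, Matrix.one_mul, Matrix.one_mul, Matrix.mul_one, conj_cen hTlG,
      show (Tl : Matrix (Fin 2) (Fin 2) F) *ᵥ c = (l : F) • c from pdiag_c hG hd _ _, hcl, kr_one, add_mul, one_mul,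
      mul_sub, mul_one, kr_mul, mul_smul_comm, hcc, smul_zero, kr_zero_left, sub_zero, kr_smul_left, kr_smul_right,
      sub_smul, one_smul]
    abel
  obtain ⟨t, ht⟩ := hnc i c hc x hxM _ hxv
  set k := 1 - (l : F) ^ 2
  have hk : k ≠ 0 := sub_ne_zero.mpr (Ne.symm hl)
  have hbs : b = (k⁻¹ * t) • 1 := by rw [← smul_smul, ← ht, smul_smul, inv_mul_cancel₀ hk, one_smul]
  have hze : z = rt G i (k⁻¹ * t) c := Units.ext (by rw [← hzM, hzb, hBZ, hbs, hG.rt_val])
  refine ⟨(rt G i (k⁻¹ * t) c)⁻¹ * g, M.mul_mem (M.inv_mem (hfac.rt_mem hG i _ c)) hg, fun hW => hgW ?_,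
    (T : Matrix (Fin 2) (Fin 2) F), LinearMap.toMatrix' Ψ, ?_⟩
  · have := (wreath ι 2 F).mul_mem (embG_mem i (spt G (k⁻¹ * t) c)) hW
    rwa [show embG i (spt G (k⁻¹ * t) c) * ((rt G i (k⁻¹ * t) c)⁻¹ * g) = g from mul_inv_cancel_left _ _] at this
  · rw [← hze, hgz, inv_mul_cancel_left, hP, krG_val]
    rfl

/-- An overgroup of planar factors outside the wreath group has a non-scalar central element. -/
theorem exists_cen2 (hq3 : Nat.card F ≠ 3) (h2 : (2 : F) ≠ 0) (hG : SpForm G) :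
    ∀ (n : ℕ) (ι : Type) [Fintype ι] [DecidableEq ι] [Nonempty ι], Fintype.card ι = n →
      ∀ M : Subgroup (GL (ι → Fin 2) F), M ≤ gsim ι G → HasFactors G M → ¬ M ≤ wreath ι 2 F → ¬ NoCen G M := by
  refine exists_cen_gen hG fun ι _ _ _ M hsim hfac hnc hW => ?_
  obtain ⟨p, hp'⟩ := CharP.exists F
  have : Fact p.Prime := ⟨CharP.char_is_prime F p⟩
  obtain ⟨y, hy, hyW, i, j, c, c', hc, hc', hmap⟩ : ∃ y ∈ M, y ∉ wreath ι 2 F ∧ ∃ (i j : ι) (c c' : Fin 2 → F),
      c ≠ 0 ∧ c' ≠ 0 ∧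
        (block i c).map (Matrix.mulVecLin (y : Matrix (ι → Fin 2) (ι → Fin 2) F)) ≤ block j c' := by
    by_contra hcon
    push Not at hcon
    exact hW ((⟨h2, hG, hsim, hfac, fun y hy i j c c' hc hc' hle => by
      by_contra hyW
      exact hcon y hy hyW i j c c' hc hc' hle⟩ : Rigid2 G M).le_wreath hq3)
  have hp2 : p ≠ 2 := fun h => h2 (by subst h; exact CharTwo.two_eq_zero)
  obtain ⟨z, hz, hzW, i, c, hc, hzb⟩ := exists_stab_gen le_rfl (fun u hu h2' hr =>
    classify2 hp2 hu (fun h1 => by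
      rw [h1, Units.val_one, sub_self, Matrix.rank_zero] at hr
      exact (pow_pos two_pos _).ne' hr.symm) h2') hG hsim hfac hnc hy hyW hc hc' hmap
  obtain ⟨x, hx, hxW, A, S, hxv⟩ := split_of_stab2 hq3 h2 hG hsim hfac hnc hz hzW hc hzb
  exact ⟨x, hx, hxW, i, A, S, hxv⟩

end CfsgLib.TWSp
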