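import Cfsg.Agent.TensorWreathSp.EndAlgebra
import Cfsg.Agent.TensorWreathSp.PlaneRecursion
import Cfsg.Agent.TensorWreath.Elem

/-!
# Long parameters for planar factors

A pure long parameter gives all elements `1 + A₁ ⊗ ⋯ ⊗ Aₛ`, `Aₖ` nilpotent, on its support; commutators
shrink the support to three factors and join supports overlapping in one factor.
-/

set_option autoImplicit false
set_option linter.unusedSectionVars false

namespace CfsgLib.TWSp

open Matrix CfsgLib.MaxSub CfsgLib.TWreath

variable {F : Type*} [Field F] {ι : Type} [Fintype ι] [DecidableEq ι] {G : Matrix (Fin 2) (Fin 2) F}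

/-- A group of isometries containing all planar factors, in odd characteristic. -/
structure PlaneSetting (G : Matrix (Fin 2) (Fin 2) F) (M : Subgroup (GL (ι → Fin 2) F)) : Prop
    extends LongSetting G M where
  two : (2 : F) ≠ 0

/-- Elements with arbitrary nilpotent entries on `T`. -/
def GoodC (G : Matrix (Fin 2) (Fin 2) F) (M : Subgroup (GL (ι → Fin 2) F)) (T : Finset ι) : Prop :=
  ∀ cs : ι → Fin 2 → F, InM M (1 + Pt fun k => if k ∈ T then cen G (cs k) else 1)

theorem plane_dep (hG : SpForm G) {c e : Fin 2 → F} (hc : c ≠ 0) (h : om G e c = 0) : ∃ k : F, k • c = e := by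
  obtain ⟨d, hd⟩ := hG.exists_partner hc
  exact ⟨-om G e d, by conv_rhs => rw [plane_expand hG hd e, h, zero_smul, zero_add]⟩

/-- Skew matrices of the plane are combinations of nilpotent dyads. -/
theorem skew_mem_span (hG : SpForm G) (h2 : (2 : F) ≠ 0) {A : Matrix (Fin 2) (Fin 2) F} (hA : adj G A = -A) :
    A ∈ Submodule.span F (Set.range (cen G)) := by
  set c : Fin 2 → F := Pi.single 0 1
  obtain ⟨d, hd⟩ := hG.exists_partner (c := c) (by simp [c])
  have hcd : om G c d = -1 := by rw [hG.skew, hd]
  let S : (Fin 2 → F) → (Fin 2 → F) → F := fun x y => om G x (A *ᵥ y)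
  have hsym : ∀ x y, S x y = S y x := fun x y => by
    have h := adj_dot hG.det A x y
    rw [hA, neg_mulVec, mulVec_neg, dotProduct_neg] at h
    change -S x y = om G (A *ᵥ x) y at h
    rw [hG.skew y (A *ᵥ x), neg_inj] at h
    exact h
  have he : A = S d d • cen G c + S c c • cen G d + (-S c d) • (cen G (c + d) - cen G c - cen G d) := by
    refine Matrix.ext_of_mulVec_single fun k => ?_
    set y : Fin 2 → F := Pi.single k 1
    refine eq_of_form_eq hG.det fun x => ?_
    show om G x (A *ᵥ y) = om G x (_ *ᵥ y)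
    have e0 : om G x (A *ᵥ y) = om G x c * om G y c * S d d + om G x d * om G y d * S c c -
        (om G x c * om G y d + om G x d * om G y c) * S c d := by
      conv_lhs => rw [plane_expand hG hd x, plane_expand hG hd y]
      simp only [mulVec_add, mulVec_smul, om_add_left, om_add_right, om_smul_left, om_smul_right]
      show _ + _ = _
      rw [show om G d (A *ᵥ c) = S c d from hsym d c]
      ring
    rw [e0]
    simp only [add_mulVec, sub_mulVec, neg_mulVec, smul_mulVec, cen_mulVec, sub_eq_add_neg, ← neg_smul, om_add_right,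
      om_smul_right, smul_add, smul_smul, smul_eq_mul]
    ring
  rw [he]
  exact Submodule.add_mem _ (Submodule.add_mem _ (Submodule.smul_mem _ _ (Submodule.subset_span ⟨c, rfl⟩))
    (Submodule.smul_mem _ _ (Submodule.subset_span ⟨d, rfl⟩))) (Submodule.smul_mem _ _ (Submodule.sub_mem _
      (Submodule.sub_mem _ (Submodule.subset_span ⟨c + d, rfl⟩) (Submodule.subset_span ⟨c, rfl⟩))
      (Submodule.subset_span ⟨d, rfl⟩)))

/-- An involution anticommuting with `cen c`. -/
theorem exists_anti (hG : SpForm G) (c : Fin 2 → F) :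
    ∃ h : Matrix (Fin 2) (Fin 2) F, adj G h = -h ∧ h * h = 1 ∧ h * cen G c = -cen G c ∧ cen G c * h = cen G c := by
  obtain ⟨c', hc', hcc'⟩ : ∃ c', c' ≠ 0 ∧ ∃ l : F, c = l • c' := by
    rcases eq_or_ne c 0 with rfl | hc
    · exact ⟨Pi.single 0 1, by simp, 0, by rw [zero_smul]⟩
    · exact ⟨c, hc, 1, by rw [one_smul]⟩
  obtain ⟨l, rfl⟩ := hcc'
  obtain ⟨d, hd⟩ := hG.exists_partner hc'
  have hcd : om G c' d = -1 := by rw [hG.skew, hd]
  have hcen : cen G (l • c') = (l * l) • cen G c' := by
    rw [cen, cen, mulVec_smul, smul_vecMulVec, vecMulVec_smul, smul_smul]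
  have h1 : sh G c' d * cen G c' = -cen G c' := by
    refine Matrix.ext_of_mulVec_single fun k => ?_
    rw [← mulVec_mulVec, cen_mulVec, mulVec_smul, sh_mulVec, hcd, hG.self, zero_smul, add_zero, neg_mulVec,
      cen_mulVec, neg_one_smul, smul_neg]
  have h2 : cen G c' * sh G c' d = cen G c' := by
    refine Matrix.ext_of_mulVec_single fun k => ?_
    rw [← mulVec_mulVec, sh_mulVec, cen_mulVec, cen_mulVec, om_add_left, om_smul_left, om_smul_left, hG.self, hd]
    simp
  refine ⟨sh G c' d, ?_, ?_, ?_, ?_⟩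
  · rw [sh, adj_add, adj_vecMulVec hG, adj_vecMulVec hG]; abel
  · refine Matrix.ext_of_mulVec_single fun k => ?_
    rw [← mulVec_mulVec, sh_mulVec, sh_mulVec, one_mulVec]
    simp only [om_add_left, om_smul_left, hG.self, hd, hcd]
    conv_rhs => rw [plane_expand hG hd (Pi.single k 1 : Fin 2 → F)]
    module
  · rw [hcen, Matrix.mul_smul, h1, smul_neg]
  · rw [hcen, Matrix.smul_mul, h2]

theorem cen_sq (hG : SpForm G) (c : Fin 2 → F) : cen G c * cen G c = 0 := vecMulVec_sq (hG.axis_self c)

/-- The commutator of two quadratic elements. -/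
theorem InM.comm {M : Subgroup (GL (ι → Fin 2) F)} {X Y : Matrix (ι → Fin 2) (ι → Fin 2) F} (hX : InM M (1 + X))
    (hY : InM M (1 + Y)) (hXX : X * X = 0) (hYY : Y * Y = 0) (hXYX : X * Y * X = 0) (hYXY : Y * X * Y = 0) :
    InM M (1 + (X * Y - Y * X)) := by
  have hXn : InM M (1 - X) := hX.inv (by rw [add_mul, one_mul, mul_sub, mul_one, hXX, sub_zero, sub_add_cancel])
  have hYn : InM M (1 - Y) := hY.inv (by rw [add_mul, one_mul, mul_sub, mul_one, hYY, sub_zero, sub_add_cancel])
  have := ((hX.mul hY).mul hXn).mul hYn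
  convert this using 1
  symm
  calc (1 + X) * (1 + Y) * (1 - X) * (1 - Y)
      = 1 + (X * Y - Y * X) - X * X + Y * X * Y + (X * X) * Y - (Y * Y) - (X * (Y * Y)) - X * Y * X +
          X * Y * X * Y := by noncomm_ring
    _ = _ := by rw [hXX, hYY, hXYX, hYXY]; simp

variable {M : Subgroup (GL (ι → Fin 2) F)} (hS : PlaneSetting G M)

include hS

theorem PlaneSetting.factors_mem {hs : ι → GL (Fin 2) F} (hh : ∀ k, hs k ∈ spG G) : PtG hs ∈ M := by
  classical
  suffices ∀ S : Finset ι, PtG (fun k => if k ∈ S then hs k else 1) ∈ M by simpa using this Finset.univ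
  intro S
  induction S using Finset.induction with
  | empty =>
    simp only [Finset.notMem_empty, if_false]
    exact (show (fun _ : ι => (1 : GL (Fin 2) F)) = 1 from rfl) ▸ (map_one (PtG (F := F) (m := 2) (ι := ι))).symm ▸ M.one_mem
  | insert a S ha ih =>
    have : PtG (fun k => if k ∈ insert a S then hs k else 1) =
        embG a (hs a) * PtG (fun k => if k ∈ S then hs k else 1) := by
      rw [embG_eq_PtG, ← map_mul]
      congr 1
      funext k
      rcases eq_or_ne k a with rfl | hk
      · simp [ha]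
      · simp [hk]
    rw [this]
    exact M.mul_mem (hS.fac a _ (hh a)) ih

/-- One non-zero instance gives all. -/
theorem PlaneSetting.goodC_of_one {T : Finset ι} {cs : ι → Fin 2 → F} (hcs : ∀ k ∈ T, cs k ≠ 0)
    (h : InM M (1 + Pt fun k => if k ∈ T then cen G (cs k) else 1)) : GoodC G M T := by
  classical
  intro cs'
  by_cases h0 : ∃ k ∈ T, cs' k = 0
  · obtain ⟨k, hk, hk0⟩ := h0
    rw [Pt_eq_zero (k := k) (by rw [if_pos hk, hk0, cen, zero_vecMulVec]), add_zero]
    exact InM.one
  push Not at h0
  have hex : ∀ k, ∃ g ∈ spG G, k ∈ T → (g : Matrix (Fin 2) (Fin 2) F) *ᵥ cs k = cs' k := fun k => by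
    by_cases hk : k ∈ T
    · obtain ⟨g, hg, hgc⟩ := hS.sp.exists_trans (hcs k hk) (h0 k hk)
      exact ⟨g, hg, fun _ => hgc⟩
    · exact ⟨1, (spG G).one_mem, fun h => absurd h hk⟩
  choose hs hh hhc using hex
  have := h.conj (hS.factors_mem hh)
  rw [mul_add, add_mul, mul_one, Units.mul_inv, ← map_inv, PtG_val, PtG_val, Pt_mul, Pt_mul] at this
  convert this using 3
  funext k
  simp only [Pi.mul_apply, Pi.inv_apply]
  split_ifs with hk
  · rw [conj_cen (hh k), hhc k hk]
  · rw [mul_one, Units.mul_inv]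

variable [Finite F]

/-- Skew entries besides one nilpotent entry. -/
theorem PlaneSetting.inM_of_goodC {T : Finset ι} (hT : GoodC G M T) {gs : ι → Matrix (Fin 2) (Fin 2) F}
    (hout : ∀ k, k ∉ T → gs k = 1) (hin : ∀ k ∈ T, adj G (gs k) = -gs k) {i : ι} (hi : i ∈ T) {c : Fin 2 → F}
    (hc : gs i = cen G c) : InM M (1 + Pt gs) := by
  classical
  suffices H : ∀ S : Finset ι, i ∉ S → ∀ gs : ι → Matrix (Fin 2) (Fin 2) F, (∀ k, k ∉ T → gs k = 1) →
      (∀ k ∈ T, adj G (gs k) = -gs k) → (∀ k ∈ T, k ∉ S → ∃ e, gs k = cen G e) → InM M (1 + Pt gs) from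
    H (T.erase i) (Finset.notMem_erase i T) gs hout hin fun k hk hkS => by
      obtain rfl : k = i := by by_contra hne; exact hkS (Finset.mem_erase.mpr ⟨hne, hk⟩)
      exact ⟨c, hc⟩
  intro S
  induction S using Finset.induction with
  | empty =>
    intro _ gs h1 _ h3
    choose! es hes using fun k hk => h3 k hk (Finset.notMem_empty k)
    convert hT es using 3
    funext k
    split_ifs with hk
    · exact hes k hk
    · exact h1 k hk
  | insert a S ha ih =>
    intro hiS gs h1 h2 h3
    obtain ⟨hai, hiS'⟩ : i ≠ a ∧ i ∉ S := by simpa using hiS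
    by_cases haT : a ∈ T
    swap
    · exact ih hiS' gs h1 h2 fun k hk hkS => h3 k hk (by
        rw [Finset.mem_insert, not_or]; exact ⟨fun e => haT (e ▸ hk), hkS⟩)
    obtain ⟨e, he⟩ := h3 i hi hiS
    let f : Matrix (Fin 2) (Fin 2) F →ₗ[F] Matrix (Rest i 2) (Rest i 2) F :=
      { toFun := fun A => Pt (Function.update (fun j : {j // j ≠ i} => gs j) ⟨a, Ne.symm hai⟩ A)
        map_add' := fun A B => Pt_update_add _ _ A B
        map_smul' := fun k A => Pt_update_smul _ _ k A }
    have hle : Submodule.span F (Set.range (cen G)) ≤ (hS.longSub i).comap f := by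
      rw [Submodule.span_le]
      rintro _ ⟨x, rfl⟩ e'
      set gs' := Function.update (Function.update gs a (cen G x)) i (cen G e') with hgs'
      have := ih hiS' gs' (fun k hk => by
          rw [hgs', Function.update_of_ne (fun e : k = i => hk (by rw [e]; exact hi)),
            Function.update_of_ne (fun e : k = a => hk (by rw [e]; exact haT)), h1 k hk])
        (fun k hk => by
          rcases eq_or_ne k i with rfl | hki
          · rw [hgs', Function.update_self, adj_cen hS.sp]
          rw [hgs', Function.update_of_ne hki]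
          rcases eq_or_ne k a with rfl | hka
          · rw [Function.update_self, adj_cen hS.sp]
          · rw [Function.update_of_ne hka]; exact h2 k hk)
        (fun k hk hkS => by
          rcases eq_or_ne k i with rfl | hki
          · exact ⟨e', Function.update_self _ _ _⟩
          rw [hgs', Function.update_of_ne hki]
          rcases eq_or_ne k a with rfl | hka
          · exact ⟨x, Function.update_self _ _ _⟩
          · rw [Function.update_of_ne hka]
            exact h3 k hk (by simp [hka, hkS]))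
      rw [Pt_eq_kr gs' i] at this
      simp only [hgs', Function.update_self] at this
      convert this using 3
      refine congrArg Pt ?_
      funext j
      rw [Function.update_of_ne j.2]
      rcases eq_or_ne j ⟨a, Ne.symm hai⟩ with rfl | hj
      · simp
      · rw [Function.update_of_ne hj, Function.update_of_ne fun h => hj (Subtype.ext h)]
    have := hle (skew_mem_span hS.sp hS.two (h2 a haT)) e
    rw [Pt_eq_kr gs i, he]
    convert this using 3
    refine congrArg Pt ?_
    funext j
    rcases eq_or_ne j ⟨a, Ne.symm hai⟩ with rfl | hj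
    · simp
    · rw [Function.update_of_ne hj]

/-- Supports with one common factor join. -/
theorem PlaneSetting.goodC_union {T₁ T₂ : Finset ι} (h₁ : GoodC G M T₁) (h₂ : GoodC G M T₂) {j : ι}
    (hj : T₁ ∩ T₂ = {j}) {a : ι} (ha : a ∈ T₁) (haj : a ≠ j) {b : ι} (hb : b ∈ T₂) (hbj : b ≠ j) :
    GoodC G M (T₁ ∪ T₂) := by
  classical
  intro cs
  have hj12 : j ∈ T₁ ∧ j ∈ T₂ := Finset.mem_inter.mp (by rw [hj]; exact Finset.mem_singleton_self j)
  have hnot : ∀ k, k ∈ T₁ → k ∈ T₂ → k = j := fun k h1 h2 => by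
    have := Finset.mem_inter.mpr ⟨h1, h2⟩
    rwa [hj, Finset.mem_singleton] at this
  obtain ⟨h, hhs, -, hhC, hCh⟩ := exists_anti hS.sp (cs j)
  set C := fun k => cen G (cs k) with hC
  let x : ι → Matrix (Fin 2) (Fin 2) F := fun k =>
    if k = j then (-(2 : F)⁻¹) • h else if k ∈ T₁ then C k else 1
  let y : ι → Matrix (Fin 2) (Fin 2) F := fun k => if k ∈ T₂ then C k else 1
  let z : ι → Matrix (Fin 2) (Fin 2) F := fun k => if k ∈ T₁ ∪ T₂ then C k else 1
  have hxa : x a = C a := by simp [x, haj, ha]
  have hya : y a = 1 := by simp [y, show a ∉ T₂ from fun h => haj (hnot a ha h)]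
  have hxb : x b = 1 := by simp [x, hbj, show b ∉ T₁ from fun h => hbj (hnot b h hb)]
  have hyb : y b = C b := by simp [y, hb]
  have hX : InM M (1 + Pt x) := hS.inM_of_goodC h₁ (fun k hk => by
      simp [x, hk, show k ≠ j from fun e => hk (e ▸ hj12.1)]) (fun k hk => by
      by_cases hkj : k = j
      · simp only [x, if_pos hkj, adj_smul, hhs, smul_neg]
      · simp only [x, if_neg hkj, if_pos hk, hC, adj_cen hS.sp]) ha (c := cs a) hxa
  have hY : InM M (1 + Pt y) := hS.inM_of_goodC h₂ (fun k hk => by simp [y, hk]) (fun k hk => by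
      simp only [y, if_pos hk, hC, adj_cen hS.sp]) hb (c := cs b) hyb
  have := hX.comm hY
    (by rw [Pt_mul]; exact Pt_eq_zero (k := a) (by rw [Pi.mul_apply, hxa]; exact cen_sq hS.sp _))
    (by rw [Pt_mul]; exact Pt_eq_zero (k := b) (by rw [Pi.mul_apply, hyb]; exact cen_sq hS.sp _))
    (by rw [Pt_mul, Pt_mul]; exact Pt_eq_zero (k := a) (by
      rw [Pi.mul_apply, Pi.mul_apply, hxa, hya, mul_one]; exact cen_sq hS.sp _))
    (by rw [Pt_mul, Pt_mul]; exact Pt_eq_zero (k := b) (by
      rw [Pi.mul_apply, Pi.mul_apply, hxb, hyb, mul_one]; exact cen_sq hS.sp _))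
  have hxy : x * y = Function.update z j (((2 : F)⁻¹) • C j) := by
    funext k
    rcases eq_or_ne k j with rfl | hk
    · simp only [x, y, Pi.mul_apply, if_true, if_pos hj12.2, Function.update_self, Matrix.smul_mul,
        Matrix.neg_mul, hC, hhC, smul_neg, neg_smul, neg_neg]
    rw [Function.update_of_ne hk]
    by_cases h1 : k ∈ T₁
    · simp [x, y, z, hk, h1, show k ∉ T₂ from fun h => hk (hnot k h1 h)]
    · by_cases h2 : k ∈ T₂ <;> simp [x, y, z, hk, h1, h2]
  have hyx : y * x = Function.update z j (-((2 : F)⁻¹) • C j) := by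
    funext k
    rcases eq_or_ne k j with rfl | hk
    · simp only [x, y, Pi.mul_apply, if_true, if_pos hj12.2, Function.update_self, Matrix.mul_smul, hC, hCh]
    rw [Function.update_of_ne hk]
    by_cases h1 : k ∈ T₁
    · simp [x, y, z, hk, h1, show k ∉ T₂ from fun h => hk (hnot k h1 h)]
    · by_cases h2 : k ∈ T₂ <;> simp [x, y, z, hk, h1, h2]
  rw [Pt_mul, Pt_mul, hxy, hyx, Pt_update_smul, Pt_update_smul, ← sub_smul, sub_neg_eq_add, ← two_mul,
    mul_inv_cancel₀ hS.two, one_smul] at this
  convert this using 3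
  funext k
  rcases eq_or_ne k j with rfl | hk
  · simp [hj12.1, hC]
  · rw [Function.update_of_ne hk]

/-- Supports shrink to triples. -/
theorem PlaneSetting.goodC_triple {T : Finset ι} (hT : GoodC G M T) {a b c : ι} (ha : a ∈ T) (hb : b ∈ T)
    (hc : c ∈ T) (hab : a ≠ b) (hac : a ≠ c) (hbc : b ≠ c) : GoodC G M {a, b, c} := by
  classical
  intro cs
  choose H hHs hHH hHC hCH using fun k => exists_anti hS.sp (cs k)
  set C := fun k => cen G (cs k) with hC
  let x : ι → Matrix (Fin 2) (Fin 2) F := fun k =>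
    if k = a then C a else if k = b then (2 : F)⁻¹ • H b else if k ∈ T then H k else 1
  let y : ι → Matrix (Fin 2) (Fin 2) F := fun k =>
    if k = b then C b else if k = c then C c else if k ∈ T then H k else 1
  let z : ι → Matrix (Fin 2) (Fin 2) F := fun k => if k ∈ ({a, b, c} : Finset ι) then C k else 1
  have hne : ∀ {k q}, q ∈ T → k ∉ T → k ≠ q := fun {k q} hq hk e => hk (e ▸ hq)
  have hxa : x a = C a := by simp [x]
  have hya : y a = H a := by simp [y, hab, hac, ha]
  have hxb : x b = (2 : F)⁻¹ • H b := by simp [x, hab.symm]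
  have hyb : y b = C b := by simp [y]
  have hxc : x c = H c := by simp [x, hac.symm, hbc.symm, hc]
  have hyc : y c = C c := by simp [y, hbc.symm]
  have hX : InM M (1 + Pt x) := hS.inM_of_goodC hT (fun k hk => by
      simp [x, hne ha hk, hne hb hk, hk]) (fun k hk => by
      by_cases hka : k = a
      · subst hka; rw [hxa]; exact adj_cen hS.sp _
      by_cases hkb : k = b
      · subst hkb; rw [hxb, adj_smul, hHs, smul_neg]
      · simp only [x, if_neg hka, if_neg hkb, if_pos hk, hHs]) ha (c := cs a) hxa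
  have hY : InM M (1 + Pt y) := hS.inM_of_goodC hT (fun k hk => by
      simp [y, hne hb hk, hne hc hk, hk]) (fun k hk => by
      by_cases hkb : k = b
      · subst hkb; rw [hyb]; exact adj_cen hS.sp _
      by_cases hkc : k = c
      · subst hkc; rw [hyc]; exact adj_cen hS.sp _
      · simp only [y, if_neg hkb, if_neg hkc, if_pos hk, hHs]) hb (c := cs b) hyb
  have := hX.comm hY
    (by rw [Pt_mul]; exact Pt_eq_zero (k := a) (by rw [Pi.mul_apply, hxa]; exact cen_sq hS.sp _))
    (by rw [Pt_mul]; exact Pt_eq_zero (k := b) (by rw [Pi.mul_apply, hyb]; exact cen_sq hS.sp _))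
    (by rw [Pt_mul, Pt_mul]; exact Pt_eq_zero (k := a) (by
      rw [Pi.mul_apply, Pi.mul_apply, hxa, hya, hC, hCH]; exact cen_sq hS.sp _))
    (by rw [Pt_mul, Pt_mul]; exact Pt_eq_zero (k := b) (by
      rw [Pi.mul_apply, Pi.mul_apply, hxb, hyb, hC, Matrix.mul_smul, hCH, Matrix.smul_mul, cen_sq hS.sp, smul_zero]))
  have hrest : ∀ k, k ≠ a → k ≠ b → k ≠ c → x k * y k = z k ∧ y k * x k = z k := fun k h1 h2 h3 => by
    by_cases hk : k ∈ T <;> simp [x, y, z, h1, h2, h3, hk, hHH]
  let σ : ι → F := fun k => if k = b then -(2 : F)⁻¹ else if k = c then -1 else 1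
  let τ : ι → F := fun k => if k = b then (2 : F)⁻¹ else if k = a then -1 else 1
  have hza : z a = C a := by simp [z]
  have hzb : z b = C b := by simp [z]
  have hzc : z c = C c := by simp [z]
  have hxy : x * y = fun k => σ k • z k := by
    funext k
    rw [Pi.mul_apply]
    by_cases hka : k = a
    · subst hka
      simp only [σ, hxa, hya, hza, hC, hCH, if_neg hab, if_neg hac, one_smul]
    by_cases hkb : k = b
    · subst hkb
      simp only [σ, hxb, hyb, hzb, hC, Matrix.smul_mul, hHC, if_true, smul_neg, neg_smul]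
    by_cases hkc : k = c
    · subst hkc
      simp only [σ, hxc, hyc, hzc, hC, hHC, if_neg hbc.symm, if_true, neg_one_smul]
    · simp only [σ, if_neg hkb, if_neg hkc, one_smul, (hrest k hka hkb hkc).1]
  have hyx : y * x = fun k => τ k • z k := by
    funext k
    rw [Pi.mul_apply]
    by_cases hka : k = a
    · subst hka
      simp only [τ, hxa, hya, hza, hC, hHC, if_neg hab, if_true, neg_one_smul]
    by_cases hkb : k = b
    · subst hkb
      simp only [τ, hxb, hyb, hzb, hC, Matrix.mul_smul, hCH, if_true]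
    by_cases hkc : k = c
    · subst hkc
      simp only [τ, hxc, hyc, hzc, hC, hCH, if_neg hbc.symm, if_neg hac.symm, one_smul]
    · simp only [τ, if_neg hkb, if_neg hka, one_smul, (hrest k hka hkb hkc).2]
  have hp : ∀ (f : ι → F) (p q : ι), p ≠ q → (∀ k, k ≠ p → k ≠ q → f k = 1) → ∏ k, f k = f p * f q := by
    intro f p q hpq hf
    rw [← Finset.prod_subset (Finset.subset_univ {p, q}) (fun k _ hk => by
      simp only [Finset.mem_insert, Finset.mem_singleton, not_or] at hk
      exact hf k hk.1 hk.2), Finset.prod_pair hpq]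
  have e1 : ∏ k, σ k = (2 : F)⁻¹ := by
    rw [hp σ b c hbc fun k h1 h2 => by simp [σ, h1, h2]]
    simp [σ, hbc.symm]
  have e2 : ∏ k, τ k = -(2 : F)⁻¹ := by
    rw [hp τ b a hab.symm fun k h1 h2 => by simp [τ, h1, h2]]
    simp [τ, hab]
  rw [Pt_mul, Pt_mul, hxy, hyx, Pt_smul, Pt_smul, e1, e2, ← sub_smul, sub_neg_eq_add, ← two_mul,
    mul_inv_cancel₀ hS.two, one_smul] at this
  exact this

end CfsgLib.TWSp
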