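import Cfsg.Agent.TensorWreathSp.PlaneRigidEnd

/-!
# A rigid overgroup of planar symplectic factors lies in the wreath group

The torus element of a root splits off its factor; its idempotent exhibits a second root whose pair with
the quadratic element has a singular central element.
-/

set_option autoImplicit false
set_option linter.unusedSectionVars false

namespace CfsgLib.TWSp

open Matrix Polynomial CfsgLib.MaxSub CfsgLib.TWreath

variable {F : Type*} [Field F] [Finite F] {ι : Type} [Fintype ι] [DecidableEq ι]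
  {G : Matrix (Fin 2) (Fin 2) F} {M : Subgroup (GL (ι → Fin 2) F)}

namespace Rigid2

variable (hM : Rigid2 G M)

include hM

set_option maxHeartbeats 800000 in
/-- Quadratic elements of `M` lie in the wreath group. -/
theorem quadratic_mem [Nonempty ι] (hq3 : Nat.card F ≠ 3) {r' : GL (ι → Fin 2) F} (hr'M : r' ∈ M)
    (h2 : ((r' : Matrix (ι → Fin 2) (ι → Fin 2) F) - 1) * ((r' : Matrix (ι → Fin 2) (ι → Fin 2) F) - 1) = 0) :
    r' ∈ wreath ι 2 F := by
  classical
  by_contra hr'W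
  obtain ⟨i⟩ := ‹Nonempty ι›
  set c : Fin 2 → F := Pi.single 0 1 with hcdef
  have hc : c ≠ 0 := by simp [c]
  obtain ⟨s, hs, hrest⟩ := hM.exists_torus (h2 := h2) hq3 hr'M hr'W i hc
  set X := pairOf hM.form r' h2 i s c with hXdef
  obtain ⟨hE, t, ht, q, hq, b, hb, hqW, h10, h00, hqN⟩ := hrest
  haveI := X.finite_TQ
  set c1 := s • c with hc1
  set φ := G *ᵥ c with hφdef
  have hc1' : c1 ≠ 0 := smul_ne_zero hs hc
  have hφ : φ ≠ 0 := hM.form.axis_ne hc
  have hφc : φ ⬝ᵥ c1 = 0 := by rw [hc1, dotProduct_smul, hM.form.axis_self, smul_zero]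
  set V := vecMulVec c1 φ with hV
  have hN : X.N = emb i V := rfl
  obtain ⟨d, hd⟩ := exists_dot_eq_one hφ
  rw [dotProduct_comm] at hd
  have hVd : V *ᵥ d = c1 := by rw [hV, vecMulVec_mulVec', hd, one_smul]
  have hVc : V *ᵥ c1 = 0 := by rw [hV, vecMulVec_mulVec', hφc, zero_smul]
  have htau : IsUnit X.tau := IsUnit.of_mul_eq_one X.S (by rw [X.tauS, hE])
  have ht0 : t ≠ 0 := fun h => ht (by rw [h, map_zero, sub_zero]; exact htau)
  -- the representation
  obtain ⟨hΦ, hdet, -⟩ := X.inv_pair hq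
  rw [hE, _root_.map_one X.act, one_mul] at hΦ
  rw [det_fin_two, h10, h00, mul_zero, sub_zero] at hdet
  set h := (q.2 : Matrix (ι → Fin 2) (ι → Fin 2) F) with hh
  set β := (q.1 : Matrix (Fin 2) (Fin 2) X.TQ) 0 1 with hβ
  have hb0 : b ≠ 0 := fun h0 => by
    rw [h0, map_zero, zero_mul] at hdet
    exact hb.symm (by
      have := congrArg X.act hdet
      rw [map_zero, map_one] at this
      exact absurd (congrFun (congrFun this (fun _ => 0)) (fun _ => 0)) (by simp))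
  have h11 : (q.1 : Matrix (Fin 2) (Fin 2) X.TQ) 1 1 = algebraMap F X.TQ b⁻¹ := by
    rw [← one_mul ((q.1 : Matrix (Fin 2) (Fin 2) X.TQ) 1 1), ← map_one (algebraMap F X.TQ),
      ← inv_mul_cancel₀ hb0, map_mul, mul_assoc, hdet, mul_one]
  have hγ : (q.1 : Matrix (Fin 2) (Fin 2) X.TQ) = !![algebraMap F X.TQ b, β; 0, algebraMap F X.TQ b⁻¹] :=
    Matrix.ext fun u v => by fin_cases u <;> fin_cases v <;> simp [h00, h10, h11, hβ]
  have hact : ∀ (k : F) (Y : Matrix (ι → Fin 2) (ι → Fin 2) F), X.act (algebraMap F X.TQ k) * Y = k • Y :=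
    fun k Y => by rw [AlgHom.commutes, ← Algebra.smul_def]
  have hXN : X.Phi !![0, 1 * X.tau; 0, 0] = X.N := by
    rw [X.Phi_upper, hE, one_mul, _root_.map_one X.act, one_mul]
  have hXN' : X.Phi !![0, 0; 1, 0] = X.N' := by
    rw [X.Phi_lower, hE, one_mul, _root_.map_one X.act, one_mul]
  have hP1 : X.Phi 1 = 1 := by rw [X.Phi_one, hE, _root_.map_one X.act]
  have hhN : h * X.N = b • X.N := by
    rw [← hact, ← hΦ, ← hXN, ← X.Phi_mul, ← X.Phi_smul, hγ]
    congr 1
    ext u v; fin_cases u <;> fin_cases v <;> simp [Matrix.mul_apply, Fin.sum_univ_two]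
  -- the element lies in the factor `i`
  obtain ⟨π, hπ⟩ := id hqW
  obtain ⟨c', φ', hc', hφ', h', he⟩ := HasPerm.conj_root (g := q.2) (σ := π) hπ (i := i) hφc hc1' hφ
  have hiu : ((q.2⁻¹ : GL (ι → Fin 2) F) : Matrix (ι → Fin 2) (ι → Fin 2) F) * h = 1 := Units.inv_mul _
  have hui : h * ((q.2⁻¹ : GL (ι → Fin 2) F) : Matrix (ι → Fin 2) (ι → Fin 2) F) = 1 := Units.mul_inv _
  have hN'' : emb (π i) (vecMulVec c' φ') = b ^ 2 • X.N := by
    have h1 := congrArg (fun u : GL (ι → Fin 2) F => (u : Matrix (ι → Fin 2) (ι → Fin 2) F)) he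
    simp only [Units.val_mul] at h1
    rw [root_val hφc, root_val h', mul_add, mul_one, add_mul, hui] at h1
    rw [← add_left_cancel h1]
    show h * X.N * _ = _
    rw [hqN, smul_mul_assoc, mul_assoc, hui, mul_one]
  have hi : π i = i := by
    by_contra hne
    refine emb_mul_emb_ne_zero hne (vecMulVec_ne_zero' hc1' hφ) (vecMulVec_ne_zero' hc' hφ') ?_
    rw [hN'', mul_smul_comm]
    show b ^ 2 • (X.N * X.N) = 0
    rw [X.hN, smul_zero]
  obtain ⟨gs, hgs⟩ := hπ
  obtain ⟨Z, hZ⟩ := exists_rest_of_fixed (gs := gs) hi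
  rw [← hgs] at hZ
  set A := (gs i : Matrix (Fin 2) (Fin 2) F)
  have hAZ : ∀ w, lift i (A *ᵥ c1) (Z *ᵥ w) = lift i c1 (b • w) := fun w => by
    have := congrArg (· *ᵥ lift i d w) hhN
    simp only [← mulVec_mulVec, smul_mulVec, hN, emb_mulVec_lift, hVd] at this
    rw [← hZ, map_smul]
    exact this
  obtain ⟨μ, hμ⟩ : ∃ μ : F, A *ᵥ c1 = μ • c1 := by
    refine prop_of_perp (c := φ) hφ hc1' ?_ (by rw [dotProduct_comm]; exact hφc)
    set w1 : Rest i 2 → F := fun _ => 1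
    have h1 := congrArg (ctr i φ) (hAZ w1)
    obtain ⟨k, hk⟩ : ∃ k, (Z *ᵥ w1) k ≠ 0 := by
      refine Function.ne_iff.mp (show Z *ᵥ w1 ≠ 0 from fun h0 => ?_)
      have := hAZ w1
      rw [h0, map_zero] at this
      have h3 := lift_injective (i := i) hc1' (this.symm.trans (map_zero _).symm)
      exact one_ne_zero (((smul_eq_zero.mp (congrFun h3 fun _ => 0)).resolve_left hb0))
    have h2' := congrFun h1 (extend i 0 k)
    rw [ctr_lift, ctr_lift, extend_rest, hφc, zero_mul] at h2'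
    rw [dotProduct_comm]
    exact (mul_eq_zero.mp h2').resolve_right hk
  have hμ0 : μ ≠ 0 := fun h0 => hc1' ((mulVec_injective_iff_isUnit.mpr (gs i).isUnit) (by
    show A *ᵥ c1 = A *ᵥ 0
    rw [hμ, h0, zero_smul, mulVec_zero]))
  have hZs : ∀ w, Z *ᵥ w = (b / μ) • w := fun w => by
    have := hAZ w
    rw [hμ, lift_smul_left, ← map_smul] at this
    have := lift_injective (i := i) hc1' this
    rw [div_eq_inv_mul, ← smul_smul, ← this, smul_smul, inv_mul_cancel₀ hμ0, one_smul]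
  set A' := (b / μ) • A with hA'
  have hhe : h = emb i A' := ext_lift (i := i) fun x w => by
    rw [hh, hZ, hZs, emb_mulVec_lift, hA', smul_mulVec, lift_smul_left, map_smul]
  have hA'c : A' *ᵥ c1 = b • c1 := by rw [hA', smul_mulVec, hμ, smul_smul, div_mul_cancel₀ _ hμ0]
  -- the idempotent
  have hbb : b - b⁻¹ ≠ 0 := fun h0 => hb (by
    rw [pow_two]; nth_rw 2 [sub_eq_zero.mp h0]; exact mul_inv_cancel₀ hb0)
  set k := (b - b⁻¹)⁻¹ with hk
  set P := k • (A' - b⁻¹ • 1) with hP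
  set π₀ := algebraMap F X.TQ k * β with hπ₀
  set Q : Matrix (Fin 2) (Fin 2) X.TQ := !![1, π₀; 0, 0] with hQ
  have hPQ : emb i P = X.Phi Q := by
    have h1 : X.Phi (algebraMap F X.TQ k • ((q.1 : Matrix (Fin 2) (Fin 2) X.TQ) -
        algebraMap F X.TQ b⁻¹ • 1)) = emb i P := by
      rw [X.Phi_smul, X.Phi_sub, X.Phi_smul, hΦ, hP1, hact, hact, hP, emb_smul i k, emb_sub, emb_smul i b⁻¹, emb_one, ← hhe]
    rw [← h1]
    congr 1
    have hkb : algebraMap F X.TQ k * (algebraMap F X.TQ b - algebraMap F X.TQ b⁻¹) = 1 := by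
      rw [← map_sub, ← map_mul, hk, inv_mul_cancel₀ hbb, map_one]
    rw [hγ, hQ]
    ext u v
    rw [Matrix.smul_apply, Matrix.sub_apply, Matrix.smul_apply, smul_eq_mul, smul_eq_mul]
    fin_cases u <;> fin_cases v <;> simp [hπ₀, hkb]
  have hPP : P * P = P := emb_injective i (by
    rw [emb_mul, hPQ, ← X.Phi_mul]
    congr 1
    rw [hQ]; ext u v; fin_cases u <;> fin_cases v <;> simp [Matrix.mul_apply, Fin.sum_univ_two])
  have hVP : V * P = 0 := emb_injective i (by
    rw [emb_mul, hPQ, ← hN, ← hXN, ← X.Phi_mul, emb_zero, hQ]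
    rw [show (!![0, 1 * X.tau; 0, 0] : Matrix (Fin 2) (Fin 2) X.TQ) * !![1, π₀; 0, 0] = 0 by
      ext u v; fin_cases u <;> fin_cases v <;> simp [Matrix.mul_apply, Fin.sum_univ_two]]
    simp [QPair.Phi])
  have hPc : P *ᵥ c1 = c1 := by
    rw [hP, smul_mulVec, sub_mulVec, hA'c, smul_mulVec, one_mulVec, ← sub_smul, smul_smul, hk,
      inv_mul_cancel₀ hbb, one_smul]
  have hQe : emb i P * (X.N' * emb i P) = X.act π₀ * emb i P := by
    rw [hPQ, ← hXN', ← X.Phi_mul, ← X.Phi_mul, ← X.Phi_smul]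
    congr 1
    rw [hQ]; ext u v; fin_cases u <;> fin_cases v <;> simp [Matrix.mul_apply, Fin.sum_univ_two]
  -- the eigenvector
  obtain ⟨y, hy0, hyt⟩ := X.exists_mul_eq_zero ht
  obtain ⟨l, hl⟩ := X.exists_eval hyt π₀
  obtain ⟨x, hx⟩ : ∃ x, (X.act y * X.N) *ᵥ x ≠ 0 := by
    by_contra hcon
    push Not at hcon
    have := X.act_eq_zero_of_mul_N (Matrix.ext_of_mulVec_single fun j => by rw [hcon, zero_mulVec])
    rw [hE, mul_one] at this
    exact hy0 this
  set v := (X.act y * X.N) *ᵥ x with hv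
  set z := X.act y *ᵥ x with hz
  have hvz : v = X.N *ᵥ z := by rw [hv, hz, X.cN, mulVec_mulVec]
  obtain ⟨u0, hu0⟩ := exists_lift_of_mem_block (i := i) hc1' (v := v) (by
    rw [block_eq_range hφ]; exact ⟨z, by rw [hvz]; rfl⟩)
  have hu00 : u0 ≠ 0 := fun h0 => hx (by rw [hu0, h0, map_zero])
  have hev : ∀ (a : X.TQ) (a₀ : F), y * a = y * algebraMap F X.TQ a₀ → X.act a *ᵥ v = a₀ • v := fun a a₀ ha => by
    rw [hv, mulVec_mulVec, ← mul_assoc, ← map_mul, mul_comm a, ha, mul_comm y, map_mul, mul_assoc, hact, smul_mulVec]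
  have hPv : emb i P *ᵥ v = v := by rw [hu0, emb_mulVec_lift, hPc]
  set w := X.N' *ᵥ v with hw
  have hPw : emb i P *ᵥ w = l • v := by
    conv_lhs => rw [hw, ← hPv]
    rw [mulVec_mulVec, mulVec_mulVec, mul_assoc, hQe, ← mulVec_mulVec, hPv]
    exact hev _ _ hl
  have hNw : X.N *ᵥ w = t • v := by
    rw [hw, hvz, mulVec_mulVec, mulVec_mulVec, mul_assoc, X.rel121, ← mulVec_mulVec, ← hvz]
    exact hev _ _ (by rw [mul_sub, sub_eq_zero] at hyt; exact hyt)
  set d' := d - P *ᵥ d with hd'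
  have hPd : P *ᵥ d' = 0 := by rw [hd', mulVec_sub, mulVec_mulVec, hPP, sub_self]
  have hVd' : V *ᵥ d' = c1 := by rw [hd', mulVec_sub, hVd, mulVec_mulVec, hVP, zero_mulVec, sub_zero]
  clear_value c1
  set c2 := l • c1 + t • d' with hc2
  have hPc2 : P *ᵥ c2 = l • c1 := by rw [hc2, mulVec_add, mulVec_smul, mulVec_smul, hPc, hPd, smul_zero, add_zero]
  have hVc2 : V *ᵥ c2 = t • c1 := by rw [hc2, mulVec_add, mulVec_smul, mulVec_smul, hVc, hVd', smul_zero, zero_add]
  have hwe : w = lift i c2 u0 := by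
    rw [← sub_eq_zero]
    set z' := w - lift i c2 u0
    have hNz : emb i V *ᵥ z' = 0 := by
      rw [mulVec_sub, ← hN, hNw, hN, emb_mulVec_lift, hVc2, lift_smul_left, hu0, sub_self]
    have hPz : emb i P *ᵥ z' = 0 := by
      rw [mulVec_sub, hPw, emb_mulVec_lift, hPc2, lift_smul_left, hu0, sub_self]
    obtain ⟨u, hu⟩ := exists_lift_of_mem_block (i := i) hc1' (mem_block_of_emb hc1' hφ hφc hNz)
    rw [hu, emb_mulVec_lift, hPc] at hPz
    rw [hu, hPz]
  have hc20 : c2 ≠ 0 := fun h0 => by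
    rw [h0, mulVec_zero] at hVc2
    exact hc1' ((smul_eq_zero.mp hVc2.symm).resolve_left ht0)
  -- the second root
  obtain ⟨s2, hs2, hE2, -⟩ := hM.exists_torus (h2 := h2) hq3 hr'M hr'W i hc20
  set Y := pairOf hM.form r' h2 i s2 c2
  have hN2 : Y.N *ᵥ w = 0 := by
    show emb i (vecMulVec (s2 • c2) (G *ᵥ c2)) *ᵥ w = 0
    rw [hwe, emb_mulVec_lift, vecMulVec_mulVec', hM.form.axis_self, zero_smul]
    funext a; simp [lift_apply]
  have hN'w : Y.N' *ᵥ w = 0 := by
    show X.N' *ᵥ w = 0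
    rw [hw, mulVec_mulVec, X.hN', zero_mulVec]
  have hT : Y.T *ᵥ w = 0 := by
    show (Y.N * Y.N' + Y.N' * Y.N) *ᵥ w = 0
    rw [add_mulVec, ← mulVec_mulVec, ← mulVec_mulVec, hN2, hN'w, mulVec_zero, mulVec_zero, add_zero]
  have hw0 : w = 0 := by
    calc w = Y.act (Y.S * Y.tau) *ᵥ w := by
          rw [mul_comm, Y.tauS, hE2, _root_.map_one Y.act, one_mulVec]
      _ = 0 := by rw [map_mul, Y.act_tau, ← mulVec_mulVec, hT, mulVec_zero]
  exact hu00 (lift_injective (i := i) hc20 (by rw [← hwe, hw0, map_zero]))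

/-- There is no rigid overgroup outside the wreath group. -/
theorem le_wreath [Nonempty ι] (hq3 : Nat.card F ≠ 3) : M ≤ wreath ι 2 F := by
  intro k hk
  obtain ⟨i⟩ := ‹Nonempty ι›
  have hc : (Pi.single 0 1 : Fin 2 → F) ≠ 0 := by simp
  refine hM.mem_of_conj_root hk (i := i) (hM.form.axis_self _) hc (hM.form.axis_ne hc)
    (hM.quadratic_mem hq3 (M.mul_mem (M.mul_mem hk (hM.root_mem i _)) (M.inv_mem hk))
      (conj_quadratic (root_quadratic (hM.form.axis_self _))))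

end Rigid2

end CfsgLib.TWSp
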