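import Cfsg.Agent.TensorWreathSp.PlaneGen

/-!
# All self-adjoint long parameters for planar factors

With the three-cycles of the factors every triple of factors, hence every odd set of factors,
supports long parameters; these span the self-adjoint operators.
-/

set_option autoImplicit false
set_option linter.unusedSectionVars false

namespace CfsgLib.TWSp

open Matrix CfsgLib.MaxSub CfsgLib.TWreath

variable {F : Type*} [Field F] {ι : Type} [Fintype ι] [DecidableEq ι] {G : Matrix (Fin 2) (Fin 2) F}

/-- The identity and the nilpotent dyads span the matrices of the plane. -/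
theorem span_one_cen (hG : SpForm G) (h2 : (2 : F) ≠ 0) (A : Matrix (Fin 2) (Fin 2) F) :
    A ∈ Submodule.span F (insert 1 (Set.range (cen G))) := by
  set V := Submodule.span F (insert 1 (Set.range (cen G)))
  obtain ⟨d, hd⟩ := hG.exists_partner (c := (Pi.single 0 1 : Fin 2 → F)) (by simp)
  set c : Fin 2 → F := Pi.single 0 1
  have hone : (1 : Matrix (Fin 2) (Fin 2) F) ∈ V := Submodule.subset_span (Set.mem_insert _ _)
  have hcen : ∀ x, cen G x ∈ V := fun x => Submodule.subset_span (Set.mem_insert_of_mem _ ⟨x, rfl⟩)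
  have hsh : vecMulVec c (G *ᵥ d) + vecMulVec d (G *ᵥ c) ∈ V := by
    have h1 := V.sub_mem (V.sub_mem (hcen (c + d)) (hcen c)) (hcen d)
    convert h1 using 1
    simp only [cen, mulVec_add, add_vecMulVec, vecMulVec_add]
    abel
  have hdiff : vecMulVec d (G *ᵥ c) - vecMulVec c (G *ᵥ d) = 1 := by
    refine Matrix.ext_of_mulVec_single fun k => ?_
    rw [sub_mulVec, vecMulVec_mulVec', vecMulVec_mulVec', axis_dot, axis_dot, one_mulVec]
    conv_rhs => rw [plane_expand hG hd (Pi.single k 1 : Fin 2 → F)]
    module
  have hdc : vecMulVec d (G *ᵥ c) ∈ V := by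
    have h1 := V.smul_mem (2 : F)⁻¹ (V.add_mem hsh hone)
    rw [← hdiff, show vecMulVec c (G *ᵥ d) + vecMulVec d (G *ᵥ c) + (vecMulVec d (G *ᵥ c) - vecMulVec c (G *ᵥ d)) =
      (2 : F) • vecMulVec d (G *ᵥ c) by rw [two_smul]; abel, smul_smul, inv_mul_cancel₀ h2, one_smul] at h1
    exact h1
  have hcd : vecMulVec c (G *ᵥ d) ∈ V := by
    have := V.sub_mem hdc hone
    rwa [← hdiff, sub_sub_cancel] at this
  have hdy : ∀ x y, vecMulVec x (G *ᵥ y) ∈ V := fun x y => by
    rw [plane_expand hG hd x, plane_expand hG hd y]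
    simp only [mulVec_add, mulVec_smul, add_vecMulVec, vecMulVec_add, smul_vecMulVec, vecMulVec_smul]
    exact V.add_mem (V.smul_mem _ (V.add_mem (V.smul_mem _ (hcen d)) (V.smul_mem _ hcd)))
      (V.smul_mem _ (V.add_mem (V.smul_mem _ hdc) (V.smul_mem _ (hcen c))))
  rw [show A = ∑ p, vecMulVec (A.col p) (Pi.single p 1) by
    ext r s; simp [Matrix.sum_apply, vecMulVec_apply, Pi.single_apply]]
  refine V.sum_mem fun p _ => ?_
  obtain ⟨y, hy⟩ := hG.exists_axis (Pi.single p (1 : F))
  rw [← hy]
  exact hdy _ _

variable {M : Subgroup (GL (ι → Fin 2) F)} (hS : PlaneSetting G M)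

include hS

/-- Supports move with the factors. -/
theorem PlaneSetting.goodC_perm {T : Finset ι} (hT : GoodC G M T) {σ : Equiv.Perm ι}
    (hσ : pmG (F := F) (m := 2) σ ∈ M) : GoodC G M (T.image σ) := by
  intro cs
  have := (hT fun k => cs (σ k)).conj hσ
  rw [mul_add, add_mul, mul_one, Units.mul_inv, pmG_val, pm_mul_Pt, ← pmG_val (F := F) (m := 2) σ,
    mul_assoc, Units.mul_inv, mul_one] at this
  convert this using 3
  funext k
  have e : k ∈ T.image σ ↔ σ.symm k ∈ T := by
    simp only [Finset.mem_image]
    exact ⟨fun ⟨l, hl, h⟩ => by rw [← h]; simpa using hl, fun h => ⟨_, h, by simp⟩⟩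
  simp only [e, Equiv.apply_symm_apply]

variable [Finite F]

/-- Every triple supports parameters. -/
theorem PlaneSetting.goodC_three
    (hperm : ∀ a b x : ι, a ≠ b → x ≠ a → x ≠ b → pmG (F := F) (m := 2) (Equiv.swap a b * Equiv.swap b x) ∈ M)
    {T : Finset ι} (hT3 : T.card = 3) (hT : GoodC G M T) {T' : Finset ι} (hT' : T'.card = 3) : GoodC G M T' := by
  suffices H : ∀ (n : ℕ) (T : Finset ι), T.card = 3 → GoodC G M T → (T' \ T).card = n → GoodC G M T' from
    H _ T hT3 hT rfl
  intro n
  induction n with
  | zero =>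
    intro T hT3 hT hn
    rw [Finset.card_eq_zero, Finset.sdiff_eq_empty_iff_subset] at hn
    rwa [Finset.eq_of_subset_of_card_le hn (le_of_eq (by omega))]
  | succ n ih =>
    intro T hT3 hT hn
    obtain ⟨x, hx⟩ : (T' \ T).Nonempty := Finset.card_pos.mp (by omega)
    obtain ⟨hxT', hxT⟩ := Finset.mem_sdiff.mp hx
    obtain ⟨p, hp⟩ : (T \ T').Nonempty := by
      rw [Finset.sdiff_nonempty]
      intro h
      exact hxT ((Finset.eq_of_subset_of_card_le h (by omega)) ▸ hxT')
    obtain ⟨hpT, hpT'⟩ := Finset.mem_sdiff.mp hp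
    obtain ⟨q, r, hqr, he⟩ := Finset.card_eq_two.mp (show (T.erase p).card = 2 by
      rw [Finset.card_erase_of_mem hpT]; omega)
    have hq : q ∈ T ∧ q ≠ p := by
      have : q ∈ T.erase p := by rw [he]; simp
      exact ⟨(Finset.mem_erase.mp this).2, (Finset.mem_erase.mp this).1⟩
    have hr : r ∈ T ∧ r ≠ p := by
      have : r ∈ T.erase p := by rw [he]; simp
      exact ⟨(Finset.mem_erase.mp this).2, (Finset.mem_erase.mp this).1⟩
    have hxp : x ≠ p := fun e => hxT (e ▸ hpT)
    have hxq : x ≠ q := fun e => hxT (e ▸ hq.1)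
    have hxr : x ≠ r := fun e => hxT (e ▸ hr.1)
    have hm := hS.goodC_perm hT (hperm p r x hr.2.symm hxp hxr)
    have hTe : T = {p, q, r} := by rw [← Finset.insert_erase hpT, he]
    have himg : T.image (Equiv.swap p r * Equiv.swap r x) = insert x (T.erase p) := by
      rw [he, hTe, Finset.image_insert, Finset.image_insert, Finset.image_singleton]
      have e1 : (Equiv.swap p r * Equiv.swap r x) p = r := by
        rw [Equiv.Perm.mul_apply, Equiv.swap_apply_of_ne_of_ne hr.2.symm hxp.symm, Equiv.swap_apply_left]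
      have e2 : (Equiv.swap p r * Equiv.swap r x) q = q := by
        rw [Equiv.Perm.mul_apply, Equiv.swap_apply_of_ne_of_ne hqr hxq.symm,
          Equiv.swap_apply_of_ne_of_ne hq.2 hqr]
      have e3 : (Equiv.swap p r * Equiv.swap r x) r = x := by
        rw [Equiv.Perm.mul_apply, Equiv.swap_apply_left, Equiv.swap_apply_of_ne_of_ne hxp hxr]
      rw [e1, e2, e3]
      ext k
      simp only [Finset.mem_insert, Finset.mem_singleton]
      tauto
    rw [himg] at hm
    refine ih _ ?_ hm ?_
    · rw [Finset.card_insert_of_notMem (fun h => hxT (Finset.mem_erase.mp h).2),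
        Finset.card_erase_of_mem hpT]
      omega
    · rw [show T' \ insert x (T.erase p) = (T' \ T).erase x by
        ext k
        simp only [Finset.mem_sdiff, Finset.mem_insert, Finset.mem_erase]
        constructor
        · rintro ⟨h1, h2⟩
          exact ⟨fun e => h2 (Or.inl e), h1, fun h => h2 (Or.inr ⟨fun e => hpT' (e ▸ h1), h⟩)⟩
        · rintro ⟨h1, h2, h3⟩
          exact ⟨h2, fun h => h.elim h1 fun h' => h3 h'.2⟩, Finset.card_erase_of_mem hx, hn]
      omega

/-- Every odd set of at least three factors supports parameters. -/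
theorem PlaneSetting.goodC_odd (h3 : ∀ T : Finset ι, T.card = 3 → GoodC G M T) {T : Finset ι}
    (hodd : Odd T.card) (hT : 3 ≤ T.card) : GoodC G M T := by
  suffices H : ∀ (n : ℕ) (T : Finset ι), T.card = 2 * n + 3 → GoodC G M T by
    obtain ⟨r, hr⟩ := hodd
    exact H (r - 1) T (by omega)
  intro n
  induction n with
  | zero => exact fun T hT => h3 T hT
  | succ n ih =>
    intro T hT
    obtain ⟨a, ha, b, hb, hab⟩ := Finset.one_lt_card.mp (show 1 < T.card by omega)
    set T₂ := (T.erase a).erase b with hT₂
    have hc2 : T₂.card = 2 * n + 3 := by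
      rw [hT₂, Finset.card_erase_of_mem (Finset.mem_erase.mpr ⟨hab.symm, hb⟩), Finset.card_erase_of_mem ha]
      omega
    obtain ⟨j, hj, b', hb', hjb⟩ := Finset.one_lt_card.mp (show 1 < T₂.card by omega)
    simp only [hT₂, Finset.mem_erase] at hj hb'
    have h1 : GoodC G M {a, b, j} := h3 _ (Finset.card_eq_three.mpr ⟨a, b, j, hab, hj.2.1.symm, hj.1.symm, rfl⟩)
    have := hS.goodC_union h1 (ih T₂ hc2) (j := j) (by
      ext k
      simp only [hT₂, Finset.mem_inter, Finset.mem_insert, Finset.mem_singleton, Finset.mem_erase]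
      constructor
      · rintro ⟨rfl | rfl | rfl, h1, h2, h3⟩
        · exact absurd rfl h2
        · exact absurd rfl h1
        · rfl
      · rintro rfl
        exact ⟨Or.inr (Or.inr rfl), hj⟩) (a := a) (by simp) hj.2.1.symm (b := b') (by
      simp only [hT₂, Finset.mem_erase]; exact hb') hjb.symm
    convert this using 1
    ext k
    simp only [hT₂, Finset.mem_union, Finset.mem_insert, Finset.mem_singleton, Finset.mem_erase]
    constructor
    · intro hk
      by_cases h1 : k = a
      · exact Or.inl (Or.inl h1)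
      by_cases h2 : k = b
      · exact Or.inl (Or.inr (Or.inl h2))
      exact Or.inr ⟨h2, h1, hk⟩
    · rintro ((rfl | rfl | rfl) | ⟨_, _, hk⟩)
      · exact ha
      · exact hb
      · exact hj.2.2
      · exact hk

/-- A non-scalar long parameter gives parameters on a triple. -/
theorem PlaneSetting.exists_triple (hnc : ¬ NoCen G M) : ∃ T : Finset ι, T.card = 3 ∧ GoodC G M T := by
  classical
  have hG := hS.sp
  simp only [NoCen, not_forall, not_exists] at hnc
  obtain ⟨i, c, hc, x, hx, b, hb, hns⟩ := hnc
  have hlong : b ∈ hS.longSub i := hS.long_of_one hc ⟨x, hx, hb⟩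
  obtain ⟨gs, hgs, hty, k₀, hk₀⟩ := lowering_gen (le_refl 2) (fun h => absurd h hS.two) hG _ _ rfl
    (hS.longSub i) (hS.longSub_inv i) b hlong hns
  have hcen : ∀ k, ∃ e : Fin 2 → F, gs k ≠ 1 → e ≠ 0 ∧ gs k = cen G e := fun k => by
    rcases hty k with h | ⟨e, he, -, he'⟩ | ⟨e, f, hef, hind, he, -⟩
    · exact ⟨0, fun h' => absurd h h'⟩
    · exact ⟨e, fun _ => ⟨he, he'⟩⟩
    · obtain ⟨l, hl⟩ := plane_dep hG he (hG.axis_zero_iff.mp hef)
      exact absurd hl (hind l)
  choose es hes using hcen
  set S := Finset.univ.filter fun k => gs k ≠ 1 with hSdef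
  have hgS : gs = fun k => if k ∈ S then cen G (es k) else 1 := funext fun k => by
    by_cases h : gs k = 1
    · rw [if_neg (by simp [S, h]), h]
    · rw [if_pos (by simp [S, h]), (hes k h).2]
  -- the number of nilpotent entries is even
  have heven : Even S.card := by
    have h1 : adj (gram {j // j ≠ i} G) (Pt gs) = (-1 : F) ^ S.card • Pt gs := by
      rw [adj_Pt hG, show ((-1 : F) ^ S.card) = ∏ k, if k ∈ S then (-1 : F) else 1 by
        rw [Finset.prod_ite, Finset.prod_const_one, mul_one, Finset.prod_const]; simp, ← Pt_smul]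
      congr 1
      funext k
      rw [hgS]
      by_cases hk : k ∈ S
      · simp only [if_pos hk, adj_cen hG, neg_one_smul]
      · simp only [if_neg hk, adj_one hG.det, one_smul]
    rw [hS.long_adj hgs] at h1
    by_contra hodd
    rw [Nat.not_even_iff_odd] at hodd
    rw [hodd.neg_one_pow, neg_one_smul, eq_neg_iff_add_eq_zero, ← two_smul F, smul_eq_zero] at h1
    have h0 := h1.resolve_left hS.two
    obtain ⟨d, hd⟩ := hG.exists_partner (c := (Pi.single 0 1 : Fin 2 → F)) (by simp)
    have hex : ∀ k, ∃ y : Fin 2 → F, gs k *ᵥ y ≠ 0 := fun k => by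
      by_cases h : gs k = 1
      · exact ⟨Pi.single 0 1, by rw [h, one_mulVec]; simp⟩
      · obtain ⟨he, he'⟩ := hes k h
        obtain ⟨d', hd'⟩ := hG.exists_partner he
        exact ⟨d', by rw [he', cen_mulVec, hd', one_smul]; exact he⟩
    choose ys hys using hex
    refine pten_ne_zero hys ?_
    rw [← Pt_mulVec_pten, h0, zero_mulVec]
  -- its support with the point
  set c₀ : Fin 2 → F := Pi.single 0 1
  set T := insert i (S.map (Function.Embedding.subtype _))
  let cs : ι → Fin 2 → F := fun k => if h : k = i then c₀ else es ⟨k, h⟩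
  have hiS : i ∉ S.map (Function.Embedding.subtype _) := by simp
  have hT : GoodC G M T := by
    refine hS.goodC_of_one (cs := cs) (fun k hk => ?_) ?_
    · by_cases h : k = i
      · simp [cs, h, c₀]
      · simp only [cs, dif_neg h]
        refine (hes ⟨k, h⟩ ?_).1
        simpa [T, S, h] using hk
    · have := hgs c₀
      rw [Pt_eq_kr _ i]
      convert this using 3
      · simp [cs, T]
      · refine congrArg Pt ?_
        rw [hgS]
        funext k
        simp [cs, T, k.2]
  have hS0 : S.Nonempty := ⟨k₀, by simp [S, hk₀]⟩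
  have hcard : 3 ≤ T.card := by
    rw [Finset.card_insert_of_notMem hiS, Finset.card_map]
    obtain ⟨r, hr⟩ := heven
    have := Finset.card_pos.mpr hS0
    omega
  obtain ⟨a, b, c', ha, hb, hc', hab, hac, hbc⟩ := Finset.two_lt_card_iff.mp hcard
  exact ⟨{a, b, c'}, Finset.card_eq_three.mpr ⟨a, b, c', hab, hac, hbc, rfl⟩, hS.goodC_triple hT ha hb hc' hab hac hbc⟩

/-- Every self-adjoint operator is a long parameter. -/
theorem PlaneSetting.long_all
    (hperm : ∀ a b x : ι, a ≠ b → x ≠ a → x ≠ b → pmG (F := F) (m := 2) (Equiv.swap a b * Equiv.swap b x) ∈ M)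
    (hnc : ¬ NoCen G M) (i : ι) {b : Matrix (Rest i 2) (Rest i 2) F}
    (hb : adj (gram {j // j ≠ i} G) b = b) : b ∈ longSet G M i := by
  classical
  have hG := hS.sp
  obtain ⟨T₀, hT₀, hT₀'⟩ := hS.exists_triple hnc
  have hodd : ∀ T : Finset ι, Odd T.card → 3 ≤ T.card → GoodC G M T := fun T h1 h2 =>
    hS.goodC_odd (fun T' hT' => hS.goodC_three hperm hT₀ hT₀' hT') h1 h2
  set J := gram {j // j ≠ i} G
  let V : Submodule F (Matrix (Rest i 2) (Rest i 2) F) := (hS.longSub i).comap
    (LinearMap.id + ({ toFun := adj J, map_add' := adj_add J, map_smul' := fun k a => adj_smul J a k } :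
      Matrix (Rest i 2) (Rest i 2) F →ₗ[F] Matrix (Rest i 2) (Rest i 2) F))
  have hV : ∀ {a}, a ∈ V ↔ a + adj J a ∈ longSet G M i := Iff.rfl
  -- pure products
  have hpure : ∀ (S : Finset {j // j ≠ i}) (es : {j // j ≠ i} → Fin 2 → F),
      Pt (fun k => if k ∈ S then cen G (es k) else 1) ∈ V := by
    intro S es
    rw [hV]
    have hadj : adj J (Pt fun k => if k ∈ S then cen G (es k) else 1) =
        (-1 : F) ^ S.card • Pt fun k => if k ∈ S then cen G (es k) else 1 := by
      rw [adj_Pt hG, show ((-1 : F) ^ S.card) = ∏ k, if k ∈ S then (-1 : F) else 1 by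
        rw [Finset.prod_ite, Finset.prod_const_one, mul_one, Finset.prod_const]; simp, ← Pt_smul]
      congr 1
      funext k
      by_cases hk : k ∈ S
      · simp only [if_pos hk, adj_cen hG, neg_one_smul]
      · simp only [if_neg hk, adj_one hG.det, one_smul]
    rw [hadj]
    rcases Nat.even_or_odd S.card with he | ho
    · rw [he.neg_one_pow, one_smul, ← two_smul F]
      refine hS.long_smul ?_ 2
      rcases S.eq_empty_or_nonempty with rfl | hne
      · simp only [Finset.notMem_empty, if_false]
        rw [show (fun _ : {j // j ≠ i} => (1 : Matrix (Fin 2) (Fin 2) F)) = 1 from rfl, Pt_one]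
        exact hS.one_long i
      intro e
      set T := insert i (S.map (Function.Embedding.subtype _))
      have hiS : i ∉ S.map (Function.Embedding.subtype _) := by simp
      have hc : T.card = S.card + 1 := by rw [Finset.card_insert_of_notMem hiS, Finset.card_map]
      have := Finset.card_pos.mpr hne
      have h3 := hodd T (by rw [hc]; exact he.add_one) (by obtain ⟨r, hr⟩ := he; omega)
        (fun k => if h : k = i then e else es ⟨k, h⟩)
      rw [Pt_eq_kr _ i] at h3
      convert h3 using 3
      · simp [T]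
      · refine congrArg Pt ?_
        funext k
        simp [T, k.2]
    · rw [ho.neg_one_pow, neg_one_smul, add_neg_cancel]
      exact (hS.longSub i).zero_mem
  -- all products
  have hall : ∀ (S : Finset {j // j ≠ i}) (gs : {j // j ≠ i} → Matrix (Fin 2) (Fin 2) F),
      (∀ k, k ∉ S → gs k ∈ insert 1 (Set.range (cen G))) → Pt gs ∈ V := by
    intro S
    induction S using Finset.induction with
    | empty =>
      intro gs h
      have hex : ∀ k, ∃ e : Fin 2 → F, gs k ≠ 1 → gs k = cen G e := fun k => by
        rcases Set.mem_insert_iff.mp (h k (Finset.notMem_empty k)) with h' | ⟨e, he⟩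
        · exact ⟨0, fun h'' => absurd h' h''⟩
        · exact ⟨e, fun _ => he.symm⟩
      choose es hes using hex
      convert hpure (Finset.univ.filter fun k => gs k ≠ 1) es using 2
      funext k
      by_cases hk : gs k = 1
      · simp [hk]
      · simpa [hk] using hes k hk
    | insert k S hk ih =>
      intro gs h
      let f : Matrix (Fin 2) (Fin 2) F →ₗ[F] Matrix (Rest i 2) (Rest i 2) F :=
        { toFun := fun A => Pt (Function.update gs k A)
          map_add' := fun A B => Pt_update_add _ _ A B
          map_smul' := fun l A => Pt_update_smul _ _ l A }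
      have hle : Submodule.span F (insert 1 (Set.range (cen G))) ≤ V.comap f := by
        rw [Submodule.span_le]
        intro A hA
        refine ih _ fun q hq => ?_
        rcases eq_or_ne q k with rfl | hqk
        · rwa [Function.update_self]
        · rw [Function.update_of_ne hqk]; exact h q (by simp [hq, hqk])
      have := hle (span_one_cen hG hS.two (gs k))
      rwa [Submodule.mem_comap, show f (gs k) = Pt gs from congrArg Pt (Function.update_eq_self k gs)] at this
  -- all operators
  have htop : ∀ a : Matrix (Rest i 2) (Rest i 2) F, a ∈ V := fun a => by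
    have hsingle : ∀ r s : Rest i 2,
        Pt (fun k => Matrix.single (r k) (s k) (1 : F)) = Matrix.single r s 1 := fun r s => by
      ext p q
      show ∏ k, Matrix.single (r k) (s k) (1 : F) (p k) (q k) = _
      by_cases h : r = p ∧ s = q
      · obtain ⟨rfl, rfl⟩ := h
        simp
      · rw [Matrix.single_apply, if_neg h]
        rw [not_and_or] at h
        rcases h with h | h <;> obtain ⟨k, hk⟩ := Function.ne_iff.mp h <;>
          exact Finset.prod_eq_zero (Finset.mem_univ k) (by simp [hk])
    rw [matrix_eq_sum_single a]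
    refine V.sum_mem fun r _ => V.sum_mem fun s _ => ?_
    rw [show Matrix.single r s (a r s) = a r s • Matrix.single r s (1 : F) by
      rw [Matrix.smul_single, smul_eq_mul, mul_one], ← hsingle]
    exact V.smul_mem _ (hall Finset.univ _ fun k hk => absurd (Finset.mem_univ k) hk)
  have := hS.long_smul (hV.mp (htop b)) (2 : F)⁻¹
  rwa [hb, ← two_smul F, smul_smul, inv_mul_cancel₀ hS.two, one_smul] at this

end CfsgLib.TWSp
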