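import Cfsg.Agent.TensorWreathSp.PairAlg
import Cfsg.Agent.DicksonPSL2.Transvections

/-!
# Residual diagonal elements of a pair of quadratic elements
-/

set_option autoImplicit false
set_option linter.unusedSectionVars false

namespace CfsgLib.TWSp

open Matrix Polynomial

variable {F : Type*} [Field F] [Finite F] {n : Type*} [Fintype n] [DecidableEq n]

namespace QPair

variable (D : QPair F n)

/-- Non-units of the algebra are zero divisors. -/
theorem exists_mul_eq_zero {z : D.TQ} (h : ¬ IsUnit z) : ∃ y : D.TQ, y ≠ 0 ∧ y * z = 0 := by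
  haveI := D.finite_TQ
  by_contra hc
  push Not at hc
  refine h ?_
  have hinj : Function.Injective fun y : D.TQ => y * z := fun a b hab => by
    by_contra hne
    exact hc (a - b) (sub_ne_zero.mpr hne) (by rw [sub_mul, sub_eq_zero]; exact hab)
  obtain ⟨u, hu⟩ := Finite.surjective_of_injective hinj 1
  exact IsUnit.of_mul_eq_one u (by rw [mul_comm]; exact hu)

/-- Elements of the algebra are polynomials. -/
theorem exists_poly (z : D.TQ) : ∃ f : F[X], z = aeval D.tau f := by
  obtain ⟨f, rfl⟩ := Ideal.Quotient.mk_surjective z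
  refine ⟨f, ?_⟩
  have : (Ideal.Quotient.mkₐ F (RingHom.ker (aeval (R := F) D.T))) = aeval D.tau :=
    Polynomial.algHom_ext (by rw [aeval_X]; rfl)
  exact DFunLike.congr_fun this f

/-- Annihilators of `tau - t` see every element as a scalar. -/
theorem exists_eval {y : D.TQ} {t : F} (h : y * (D.tau - algebraMap F D.TQ t) = 0) (z : D.TQ) :
    ∃ l : F, y * z = y * algebraMap F D.TQ l := by
  obtain ⟨f, rfl⟩ := D.exists_poly z
  refine ⟨f.eval t, ?_⟩
  obtain ⟨g, hg⟩ := Polynomial.X_sub_C_dvd_sub_C_eval (a := t) (p := f)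
  have h1 := congrArg (aeval D.tau) hg
  rw [map_sub, map_mul, map_sub, aeval_X, aeval_C, aeval_C] at h1
  rw [← sub_eq_zero, ← mul_sub, h1, ← mul_assoc, h, zero_mul]

/-- The residual character of a non-trivial invertible part. -/
theorem exists_ideal (hE : D.E ≠ 0) : ∃ I : Ideal D.TQ, I.IsMaximal ∧ 1 - D.E ∈ I := by
  obtain ⟨I, hI, hle⟩ := Ideal.exists_le_maximal (Ideal.span {1 - D.E}) fun h => hE (by
    obtain ⟨y, hy⟩ := Ideal.mem_span_singleton'.mp ((Ideal.eq_top_iff_one _).mp h)
    have : D.E * (1 - D.E) = 0 := by rw [mul_sub, mul_one, D.EE, sub_self]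
    calc D.E = D.E * (y * (1 - D.E)) := by rw [hy, mul_one]
      _ = 0 := by rw [mul_left_comm, this, mul_zero])
  exact ⟨I, hI, hle (Ideal.mem_span_singleton_self _)⟩

/-- Prescribed residual diagonal elements. -/
theorem exists_residual_diag {p : ℕ} [hp : Fact p.Prime] (hp2 : p ≠ 2) {K : Type*} [Field K] [Finite K] [CharP K p]
    (χ : D.TQ →+* K) (hE : χ D.E = 1) (hexc : p ≠ 3 ∨ χ D.tau ^ 2 ≠ -1) {a : K}
    (ha : a ∈ Subfield.closure ({χ D.tau} : Set K)) (ha0 : a ≠ 0) :
    ∃ g ∈ D.Gam, χ ((g.1 : Matrix (Fin 2) (Fin 2) D.TQ) 1 0) = 0 ∧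
      χ ((g.1 : Matrix (Fin 2) (Fin 2) D.TQ) 0 0) = a := by
  classical
  set lam := χ D.tau with hlam
  have hlam0 : lam ≠ 0 := fun h0 => by
    have := congrArg χ D.tauS
    rw [map_mul, ← hlam, h0, zero_mul, hE] at this
    exact zero_ne_one this
  set L := Subfield.closure ({lam} : Set K) with hL
  have : Fintype L := Fintype.ofFinite L
  have hchar : CharP L p := L.subtype.charP_iff_charP p |>.mpr inferInstance
  have h2L : (2 : L) ≠ 0 := Ring.two_ne_zero (by rw [ringChar.eq L p]; exact hp2)
  set lam₁ : L := ⟨lam, Subfield.subset_closure rfl⟩ with hlam₁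
  have hgen : Subfield.closure ({lam₁} : Set L) = ⊤ := by
    rw [eq_top_iff]
    intro x _
    have h1 : (x : K) ∈ (Subfield.closure ({lam₁} : Set L)).map L.subtype := by
      rw [RingHom.map_field_closure, Set.image_singleton]
      exact x.2
    obtain ⟨y, hy, hyx⟩ := Subfield.mem_map.mp h1
    rwa [← show y = x from Subtype.ext hyx]
  rcases DicksonPSL2.transvections_generate p h2L (lam := lam₁) (fun h => hlam0 (congrArg Subtype.val h))
      hgen with ⟨htop, -⟩ | ⟨h9, hsq, -⟩
  swap
  · exfalso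
    rcases hexc with h3 | h3
    · obtain ⟨k, -, hk⟩ := FiniteField.card L p
      rw [h9] at hk
      have h93 : p ∣ 3 ^ 2 := by
        rw [show (3 : ℕ) ^ 2 = 9 by norm_num, hk]; exact dvd_pow_self p k.ne_zero
      exact h3 ((Nat.prime_dvd_prime_iff_eq hp.out Nat.prime_three).mp (hp.out.dvd_of_dvd_pow h93))
    · exact h3 (congrArg Subtype.val hsq)
  let Ψ : Matrix.SpecialLinearGroup (Fin 2) L →* GL (Fin 2) K :=
    Matrix.SpecialLinearGroup.toGL.comp (Matrix.SpecialLinearGroup.map L.subtype)
  have hΨ : ∀ (A : Matrix.SpecialLinearGroup (Fin 2) L) (u v : Fin 2),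
      (Ψ A : Matrix (Fin 2) (Fin 2) K) u v = ((A.1 u v : L) : K) := fun A u v => rfl
  have hle : Subgroup.closure ({DicksonPSL2.loOne, DicksonPSL2.upSL lam₁} :
      Set (Matrix.SpecialLinearGroup (Fin 2) L)) ≤ (D.Gam.map (D.theta χ)).comap Ψ := by
    rw [Subgroup.closure_le]
    rintro A (rfl | rfl)
    · refine ⟨_, D.mem_lY, Units.ext (Matrix.ext fun u v => ?_)⟩
      rw [theta_apply, hΨ, DicksonPSL2.coe_loOne]
      fin_cases u <;> fin_cases v <;> simp [lY, hE]
    · refine ⟨_, D.mem_uX, Units.ext (Matrix.ext fun u v => ?_)⟩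
      rw [theta_apply, hΨ, DicksonPSL2.coe_upSL]
      fin_cases u <;> fin_cases v <;> simp [uX, hE, hlam₁, hlam]
  have ha₁ : (⟨a, ha⟩ : L) ≠ 0 := fun h => ha0 (congrArg Subtype.val h)
  let A : Matrix.SpecialLinearGroup (Fin 2) L :=
    ⟨!![⟨a, ha⟩, 0; 0, (⟨a, ha⟩ : L)⁻¹], by rw [det_fin_two_of, mul_zero, sub_zero, mul_inv_cancel₀ ha₁]⟩
  obtain ⟨g, hg, hgA⟩ : Ψ A ∈ D.Gam.map (D.theta χ) := hle (htop ▸ Subgroup.mem_top A)
  refine ⟨g, hg, ?_, ?_⟩ <;> rw [← D.theta_apply χ g, hgA, hΨ] <;> simp [A]

/-- Words in the two generators. -/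
noncomputable def word : List Bool → GL (Fin 2) D.TQ × GL n F
  | [] => 1
  | true :: w => (D.uX, D.r) * word w
  | false :: w => (D.lY, D.r') * word w

theorem word_mem : ∀ w : List Bool, D.word w ∈ D.Gam
  | [] => D.Gam.one_mem
  | true :: w => D.Gam.mul_mem D.mem_uX (word_mem w)
  | false :: w => D.Gam.mul_mem D.mem_lY (word_mem w)

/-- The value of a word. -/
def wordVal {R : Type*} [CommRing R] (l : R) : List Bool → Matrix (Fin 2) (Fin 2) R
  | [] => 1
  | true :: w => !![1, l; 0, 1] * wordVal l w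
  | false :: w => !![1, 0; 1, 1] * wordVal l w

theorem wordVal_map {R S : Type*} [CommRing R] [CommRing S] (f : R →+* S) (l : R) :
    ∀ w : List Bool, (wordVal l w).map f = wordVal (f l) w
  | [] => Matrix.map_one f (map_zero f) (map_one f)
  | true :: w => by
    rw [wordVal, wordVal, Matrix.map_mul, wordVal_map f l w]
    congr 1
    ext u v; fin_cases u <;> fin_cases v <;> simp
  | false :: w => by
    rw [wordVal, wordVal, Matrix.map_mul, wordVal_map f l w]
    congr 1
    ext u v; fin_cases u <;> fin_cases v <;> simp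

theorem word_map {K : Type*} [CommRing K] (χ : D.TQ →+* K) (hE : χ D.E = 1) :
    ∀ w : List Bool, ((D.word w).1 : Matrix (Fin 2) (Fin 2) D.TQ).map χ = wordVal (χ D.tau) w
  | [] => Matrix.map_one χ (map_zero χ) (map_one χ)
  | true :: w => by
    rw [word, Prod.fst_mul, Units.val_mul, Matrix.map_mul, word_map χ hE w, wordVal]
    congr 1
    ext u v; fin_cases u <;> fin_cases v <;> simp [uX, hE]
  | false :: w => by
    rw [word, Prod.fst_mul, Units.val_mul, Matrix.map_mul, word_map χ hE w, wordVal]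
    congr 1
    ext u v; fin_cases u <;> fin_cases v <;> simp [lY, hE]

end QPair

/-- Words separating two residual parameters in the field with five elements. -/
theorem exists_word_five : ∀ a b : ZMod 5, a ≠ 0 → b ≠ 0 → a ≠ b → ∃ w ∈
    ([[false, true, false, true, true, false, false, false, false],
      [false, true, false, true, false, true, true, false, false],
      [false, true, false, true, true, true, false, false],
      [false, true, true, false, true, false, false],
      [false, true, true, false, false, false, true, false, false],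
      [false, true, true, false, false, true, false, true, false]] : List (List Bool)),
    QPair.wordVal a w 1 0 = 0 ∧ QPair.wordVal b w 1 0 = 0 ∧
      QPair.wordVal a w 0 0 ^ 2 ≠ QPair.wordVal b w 0 0 ^ 2 := by
  decide +kernel

end CfsgLib.TWSp
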