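import Cfsg.Agent.TensorWreathSp.PlaneBasic
import Cfsg.Agent.TensorWreathSp.PlaneTorus
import Cfsg.Agent.TensorWreath.Odd

/-!
# No rigid overgroup of planar symplectic factors

A root and a quadratic element outside the wreath group generate a group with a torus element of the
wreath group; this element splits off the factor of the root and leads to a second root with which the
quadratic element commutes too much.
-/

set_option autoImplicit false
set_option linter.unusedSectionVars false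

namespace CfsgLib.TWSp

open Matrix Polynomial CfsgLib.MaxSub CfsgLib.TWreath

variable {F : Type*} [Field F] {ι : Type} [Fintype ι] [DecidableEq ι]

theorem emb_mul_emb_ne_zero {i j : ι} (hij : j ≠ i) {A B : Matrix (Fin 2) (Fin 2) F} (hA : A ≠ 0) (hB : B ≠ 0) :
    emb i A * emb j B ≠ 0 := by
  intro h
  rw [emb_eq_kr, emb_rest i ⟨j, hij⟩, kr_mul, Matrix.mul_one, Matrix.one_mul] at h
  exact hB (emb_injective _ (((kr_eq_zero.mp h).resolve_left hA).trans (emb_zero _).symm))

theorem vecMulVec_ne_zero' {c φ : Fin 2 → F} (hc : c ≠ 0) (hφ : φ ≠ 0) : vecMulVec c φ ≠ 0 := fun e => by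
  obtain ⟨d, hd⟩ := exists_dot_eq_one hφ
  rw [dotProduct_comm] at hd
  have := congrArg (· *ᵥ d) e
  rw [vecMulVec_mulVec', hd, one_smul, zero_mulVec] at this
  exact hc this

variable {G : Matrix (Fin 2) (Fin 2) F} {M : Subgroup (GL (ι → Fin 2) F)}

/-- The pair of a root and a quadratic element. -/
noncomputable def pairOf (hG : SpForm G) (r' : GL (ι → Fin 2) F)
    (h2 : ((r' : Matrix (ι → Fin 2) (ι → Fin 2) F) - 1) * ((r' : Matrix (ι → Fin 2) (ι → Fin 2) F) - 1) = 0)
    (i : ι) (s : F) (c : Fin 2 → F) : QPair F (ι → Fin 2) where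
  r := root i (s • c) (G *ᵥ c)
  r' := r'
  N := emb i (vecMulVec (s • c) (G *ᵥ c))
  N' := (r' : Matrix (ι → Fin 2) (ι → Fin 2) F) - 1
  hr := root_val (by rw [dotProduct_smul, hG.axis_self, smul_zero])
  hr' := by abel
  hN := by rw [← emb_mul, vecMulVec_sq (by rw [dotProduct_smul, hG.axis_self, smul_zero]), emb_zero]
  hN' := h2

variable [Finite F] {p : ℕ} [Fact p.Prime] [CharP F p]
  {r' : GL (ι → Fin 2) F}
  {h2 : ((r' : Matrix (ι → Fin 2) (ι → Fin 2) F) - 1) * ((r' : Matrix (ι → Fin 2) (ι → Fin 2) F) - 1) = 0}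
  {i : ι} {s : F} {c : Fin 2 → F}

namespace Rigid2

variable (hM : Rigid2 G M) (hs : s ≠ 0) (hc : c ≠ 0)

local notation "D" => pairOf hM.form r' h2 i s c

include hM hs hc

theorem axis_zero : (G *ᵥ c) ⬝ᵥ (s • c) = 0 := by rw [dotProduct_smul, hM.form.axis_self, smul_zero]

theorem centre_ne : s • c ≠ 0 := smul_ne_zero hs hc

theorem pair_r_mem : (D).r ∈ M := by
  have h := hM.factors.rt_mem hM.form i s c
  rwa [rt_eq_root] at h

theorem closure_le_of (hr'M : r' ∈ M) : Subgroup.closure ({(D).r, (D).r'} : Set (GL (ι → Fin 2) F)) ≤ M := by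
  rw [Subgroup.closure_le]
  rintro x (rfl | rfl)
  · exact hM.pair_r_mem hs hc
  · exact hr'M

/-- The annihilator of the root inside the algebra is trivial. -/
theorem eq_zero_of_idem {y : (D).TQ} (hy : y * y = y) (h : (D).act y * (D).N = 0) : y = 0 := by
  refine (D).act_injective (Matrix.ext_of_mulVec_single fun j => ?_)
  rw [map_zero, zero_mulVec]
  set v := (Pi.single j 1 : (ι → Fin 2) → F)
  set u := (D).act y *ᵥ v with hu
  have h0 : emb i (vecMulVec (s • c) (G *ᵥ c)) *ᵥ u = 0 := by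
    show (D).N *ᵥ u = 0
    rw [hu, mulVec_mulVec, ← (D).cN, h, zero_mulVec]
  have hmem := mem_block_of_emb (hM.centre_ne hs hc) (hM.form.axis_ne hc) (hM.axis_zero hs hc) h0
  rw [block_eq_range (hM.form.axis_ne hc)] at hmem
  obtain ⟨x, hx⟩ := hmem
  rw [mulVecLin_apply] at hx
  have h1 : (D).act y *ᵥ u = u := by rw [hu, mulVec_mulVec, ← map_mul, hy]
  rw [← h1, ← hx, mulVec_mulVec]
  show ((D).act y * (D).N) *ᵥ x = 0
  rw [h, zero_mulVec]

/-- The invertible part is non-trivial. -/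
theorem E_ne_zero (hr'M : r' ∈ M) (hr'W : r' ∉ wreath ι 2 F) : (D).E ≠ 0 := by
  intro hE
  classical
  obtain ⟨p, hp'⟩ := CharP.exists F
  have : Fact p.Prime := ⟨CharP.char_is_prime F p⟩
  haveI := (D).finite_TQ
  have hp : IsPGroup p (Subgroup.closure ({(D).r, (D).r'} : Set (GL (ι → Fin 2) F))) := by
    rintro ⟨x, hx⟩
    have hle : Subgroup.closure ({(D).r, (D).r'} : Set (GL (ι → Fin 2) F)) ≤
        (D).Gam.map (MonoidHom.snd _ _) := by
      rw [Subgroup.closure_le]
      rintro z (hz | hz)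
      · exact ⟨_, (D).mem_uX, hz.symm⟩
      · exact ⟨_, (D).mem_lY, hz.symm⟩
    obtain ⟨q, hq, hqx⟩ := hle hx
    change q.2 = x at hqx
    subst hqx
    have : Fintype F := Fintype.ofFinite F
    set N₀ := orderOf q.2
    refine ⟨N₀.factorization p, Subtype.ext ?_⟩
    show q.2 ^ p ^ N₀.factorization p = 1
    have ho : ¬ p ∣ N₀ / p ^ N₀.factorization p := Nat.not_dvd_ordCompl Fact.out (orderOf_pos q.2).ne'
    have := (D).act_one_sub_mul (p := p) ((D).Gam.pow_mem hq (p ^ N₀.factorization p)) ho (by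
      rw [Prod.pow_snd, ← pow_mul, Nat.ordProj_mul_ordCompl_eq_self, pow_orderOf_eq_one])
    rw [hE, sub_zero, _root_.map_one (D).act, one_mul, Prod.pow_snd] at this
    exact Units.ext this
  exact hr'W (hM.le_of_root_mem (hM.closure_le_of hs hc hr'M) hp (hM.axis_zero hs hc) (hM.centre_ne hs hc)
    (hM.form.axis_ne hc) (Subgroup.subset_closure (Or.inl rfl)) (Subgroup.subset_closure (Or.inr rfl)))

set_option maxHeartbeats 800000 in
/-- Residual upper triangular elements have diagonal with square in the ground field. -/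
theorem residual_sq (hr'M : r' ∈ M) {κ : Type} [Fintype κ] {K : κ → Type*} [∀ l, Field (K l)] [∀ l, Finite (K l)]
    [∀ l, CharP (K l) p] (χ : ∀ l, (D).TQ →+* K l) (hE : ∀ l, χ l (D).E = 1)
    {g : GL (Fin 2) (D).TQ × GL (ι → Fin 2) F} (hg : g ∈ (D).Gam)
    (hu : ∀ l, χ l ((g.1 : Matrix (Fin 2) (Fin 2) (D).TQ) 1 0) = 0) :
    ∃ q ∈ (D).Gam, ∃ σ : F, q.2 ∈ wreath ι 2 F ∧
      (∀ l, χ l ((g.1 : Matrix (Fin 2) (Fin 2) (D).TQ) 0 0) ^ 2 = χ l (algebraMap F (D).TQ σ)) ∧
      (q.1 : Matrix (Fin 2) (Fin 2) (D).TQ) 1 0 * (D).E = 0 ∧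
      ((q.1 : Matrix (Fin 2) (Fin 2) (D).TQ) 0 0 ^ 2 - algebraMap F (D).TQ σ) * (D).E = 0 ∧
      (q.2 : Matrix (ι → Fin 2) (ι → Fin 2) F) * (D).N = σ • ((D).N * q.2) ∧
      (σ ≠ 1 → (D).E = 1) := by
  classical
  have hcn := hM.centre_ne hs hc
  have hax := hM.axis_zero hs hc
  have hφ := hM.form.axis_ne hc
  have hr : (D).r ^ p ^ 1 = 1 := by rw [pow_one]; exact root_pow hax
  have hp0 : (p : (D).TQ) = 0 := by
    rw [← map_natCast (algebraMap F (D).TQ), CharP.cast_eq_zero, map_zero]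
  have hrX : (D).uX ^ p ^ 1 = 1 := by
    have : ∀ k : ℕ, (((D).uX ^ k : GL (Fin 2) (D).TQ) : Matrix (Fin 2) (Fin 2) (D).TQ) =
        !![1, (k : (D).TQ) * ((D).tau * (D).E); 0, 1] := by
      intro k
      induction k with
      | zero => simp [Matrix.one_fin_two]
      | succ k ih =>
        rw [pow_succ, Units.val_mul, ih]
        show _ * !![1, (D).tau * (D).E; 0, 1] = _
        ext u v; fin_cases u <;> fin_cases v <;> simp [Matrix.mul_apply, Fin.sum_univ_two] <;> ring
    refine Units.ext ?_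
    rw [pow_one, this, hp0, zero_mul, Units.val_one, Matrix.one_fin_two]
  obtain ⟨q, hq, hql, ⟨o, ho, hqo⟩, P, hPle, hP, hrP, hqrP⟩ := (D).exists_normalizing χ hg hu hr hrX
  have hPM : P ≤ M := hPle.trans (hM.closure_le_of hs hc hr'M)
  have hPW : P ≤ wreath ι 2 F := hM.le_of_root_mem hPM hP hax hcn hφ hrP
  have hqM : q.2 ∈ M := hM.closure_le_of hs hc hr'M ((D).snd_mem hq)
  have hqW : q.2 ∈ wreath ι 2 F := hM.mem_of_conj_root hqM hax hcn hφ (hPW hqrP)
  obtain ⟨π, hπ⟩ := id hqW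
  obtain ⟨c', φ', hc', hφ', h', he⟩ := HasPerm.conj_root (g := q.2) (σ := π) hπ (i := i) hax hcn hφ
  change q.2 * (D).r * q.2⁻¹ = root (π i) c' φ' at he
  set N'' := emb (π i) (vecMulVec c' φ') with hN''
  set hh := (q.2 : Matrix (ι → Fin 2) (ι → Fin 2) F) with hhh
  set hi' := ((q.2⁻¹ : GL (ι → Fin 2) F) : Matrix (ι → Fin 2) (ι → Fin 2) F) with hhi
  have hih : hi' * hh = 1 := Units.inv_mul _
  have hhi1 : hh * hi' = 1 := Units.mul_inv _
  have hconj : N'' = hh * (D).N * hi' := by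
    have h1 := congrArg (fun u : GL (ι → Fin 2) F => (u : Matrix (ι → Fin 2) (ι → Fin 2) F)) he
    simp only [Units.val_mul] at h1
    rw [(D).hr, root_val h', mul_add, mul_one, add_mul, hhi1] at h1
    exact (add_left_cancel h1).symm
  have hcomm : (D).N * N'' = N'' * (D).N := by
    rcases eq_or_ne (π i) i with hi | hi
    · have hr2 : root i c' φ' ∈ P := by rw [← hi, ← he]; exact hqrP
      have h0 := centre_eq_of_pgroup hP hax hcn hφ h' hc' hφ' hrP hr2
      obtain ⟨l, hl⟩ := prop_of_perp hφ' hcn (by rw [dotProduct_comm]; exact h') (by rw [dotProduct_comm]; exact h0)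
      have hperp : (G *ᵥ c) ⬝ᵥ c' = 0 := by rw [hl, dotProduct_smul, hax, smul_zero]
      show emb i _ * N'' = N'' * emb i _
      rw [hN'', hi, ← emb_mul, ← emb_mul, vecMulVec_mul_vecMulVec, vecMulVec_mul_vecMulVec, hperp,
        show φ' ⬝ᵥ (s • c) = 0 from h0]
      simp
    · exact emb_comm (Ne.symm hi) _ _
  -- the invertible part
  set γ := (q.1 : Matrix (Fin 2) (Fin 2) (D).TQ) with hγ
  obtain ⟨hΦ, hdet, hcE⟩ := (D).inv_pair hq
  obtain ⟨hΦi, -, -⟩ := (D).inv_pair ((D).Gam.inv_mem hq)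
  have hγi : ((q⁻¹).1 : Matrix (Fin 2) (Fin 2) (D).TQ) = γ.adjugate := by
    rw [Prod.fst_inv, Matrix.coe_units_inv, Matrix.inv_def, hdet, Ring.inverse_one, one_smul]
  rw [hγi, Prod.snd_inv] at hΦi
  set X : Matrix (Fin 2) (Fin 2) (D).TQ := !![0, 1 * (D).tau; 0, 0] with hX
  have hΦX : (D).Phi X = (D).act (D).E * (D).N := by rw [hX, (D).Phi_upper, one_mul]
  set Y := γ * X * γ.adjugate with hY
  set e := (D).act (D).E with he'
  have hee : e * e = e := by rw [he', ← map_mul, (D).EE]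
  have hkey : ∀ a b : Matrix (ι → Fin 2) (ι → Fin 2) F, Commute e a → e * a * (e * b) = e * (a * b) :=
    fun a b hab => by rw [mul_assoc, ← mul_assoc a, ← hab.eq, mul_assoc, ← mul_assoc e, hee]
  have heh : Commute e hh := hcE
  have hei : Commute e hi' := Commute.units_inv_right (u := q.2) heh
  have heN : Commute e (D).N := (D).cN _
  have hΦY : (D).Phi Y = e * N'' := by
    rw [hY, (D).Phi_mul, (D).Phi_mul, hΦ, hΦi, hΦX, hkey _ _ heh, hkey _ _ (heh.mul_right heN), hconj]
  have hXY : (D).Phi (X * Y - Y * X) = 0 := by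
    rw [(D).Phi_sub, (D).Phi_mul X Y, (D).Phi_mul Y X, hΦX, hΦY, hkey _ _ heN,
      hkey _ _ (hconj ▸ (heh.mul_right heN).mul_right hei), hcomm, sub_self]
  set α := γ 0 0 with hα
  set β := γ 0 1 with hβ
  set γ' := γ 1 0 with hγ'
  set δ := γ 1 1 with hδ
  have hS : (D).tau * (D).S = (D).E := (D).tauS
  have hYe : Y = !![-(α * γ') * (D).tau, α * α * (D).tau; -(γ' * γ') * (D).tau, α * γ' * (D).tau] := by
    rw [hY, adjugate_fin_two, hX]
    ext u v; fin_cases u <;> fin_cases v <;> simp [Matrix.mul_apply, Fin.sum_univ_two, hα, hγ'] <;> ring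
  have e00 := (D).eq_zero_of_Phi hXY 0 0
  have e01 := (D).eq_zero_of_Phi hXY 0 1
  rw [hYe, hX] at e00 e01
  simp [Matrix.mul_apply, Fin.sum_univ_two] at e00 e01
  have hg2 : γ' * γ' * (D).E = 0 := by
    linear_combination ((D).S * (D).S) * e00 + (-(γ' * γ') * (D).E * ((D).tau * (D).S + (D).E)) * hS +
      (-(γ' * γ') * ((D).E + 1)) * (D).EE
  have hag : α * γ' * (D).E = 0 := by
    have h2u : IsUnit (2 : (D).TQ) := by
      rw [show (2 : (D).TQ) = algebraMap F (D).TQ 2 by rw [map_ofNat]]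
      exact (isUnit_iff_ne_zero.mpr hM.two).map _
    refine (h2u.mul_right_eq_zero).mp ?_
    linear_combination ((D).S * (D).S) * e01 + (-(2 * α * γ') * (D).E * ((D).tau * (D).S + (D).E)) * hS +
      (-(2 * α * γ') * ((D).E + 1)) * (D).EE
  have hd : α * δ - β * γ' = 1 := by rw [← hdet, det_fin_two]
  have hg1 : γ' * (D).E = 0 := by
    linear_combination δ * hag - β * hg2 - (γ' * (D).E) * hd
  have hEN'' : (D).act (D).E * N'' = (D).act (α * α * (D).E) * (D).N := by
    have h1 : (D).act (D).E * N'' = (D).Phi ((D).E • Y) := by rw [(D).Phi_smul, hΦY, ← he', ← mul_assoc, hee]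
    have h3 : (D).E • Y = !![0, (α * α * (D).E) * (D).tau; 0, 0] := by
      rw [hYe]
      ext u v; fin_cases u <;> fin_cases v <;> simp
      · linear_combination ((D).tau) * hag
      · ring
      · linear_combination ((D).tau) * hg2
      · linear_combination ((D).tau) * hag
    rw [h1, h3, (D).Phi_upper, mul_assoc, (D).EE]
  have hyh : (D).act (1 - (D).E) * hh = (D).act (1 - (D).E) := (D).act_one_sub_mul hq ho hqo
  have hyi : (D).act (1 - (D).E) * hi' = (D).act (1 - (D).E) := by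
    have h := (D).act_one_sub_mul ((D).Gam.inv_mem hq) ho
      (by rw [Prod.snd_inv, inv_pow, hqo, inv_one])
    rwa [Prod.snd_inv] at h
  have hEN1 : (D).act (1 - (D).E) * N'' = (D).act (1 - (D).E) * (D).N := by
    rw [hconj, mul_assoc, ← mul_assoc ((D).act _) hh, hyh, ← mul_assoc, (D).cN, mul_assoc, hyi]
  have hN''e : N'' = (D).act (α * α * (D).E + (1 - (D).E)) * (D).N := by
    rw [map_add, add_mul, ← hEN'', ← hEN1, ← add_mul, ← map_add, add_sub_cancel, _root_.map_one, one_mul]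
  have hi : π i = i := by
    by_contra hne
    refine emb_mul_emb_ne_zero hne (vecMulVec_ne_zero' hcn hφ) (vecMulVec_ne_zero' hc' hφ') ?_
    show (D).N * N'' = 0
    rw [hN''e, (D).cN1, (D).hN, mul_zero]
  obtain ⟨l, hl⟩ := prop_of_perp (c := φ') hφ' hcn (by rw [dotProduct_comm]; exact h') (by
    rw [dotProduct_comm]
    exact centre_eq_of_pgroup hP hax hcn hφ h' hc' hφ' hrP (by rw [← hi, ← he]; exact hqrP))
  obtain ⟨t, ht⟩ := prop_of_perp hcn hφ (by
    exact centre_eq_of_pgroup hP hax hcn hφ h' hc' hφ' hrP (by rw [← hi, ← he]; exact hqrP)) hax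
  have hσN : N'' = (l * t) • (D).N := by
    show _ = (l * t) • emb i _
    rw [hN'', hi, ← emb_smul, hl, ht, smul_vecMulVec, vecMulVec_smul, smul_smul]
  set σ := l * t
  have hz : (D).act (α * α * (D).E + (1 - (D).E) - algebraMap F (D).TQ σ) * (D).N = 0 := by
    rw [map_sub, sub_mul, ← hN''e, hσN, AlgHom.commutes, ← Algebra.smul_def, sub_self]
  have hz1 := (D).act_eq_zero_of_mul_N hz
  refine ⟨q, hq, σ, hqW, fun k => ?_, hg1, ?_, ?_, fun hσ1 => ?_⟩
  · have := congrArg (χ k) hz1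
    simp only [map_mul, map_sub, map_add, map_one, map_zero, hE k, sub_self, add_zero, mul_one] at this
    rw [← (hql k).1, pow_two, sub_eq_zero.mp this]
  · linear_combination hz1 + (1 - α * α) * (D).EE
  · calc hh * (D).N = hh * (D).N * (hi' * hh) := by rw [hih, mul_one]
      _ = σ • ((D).N * hh) := by rw [← mul_assoc, ← hconj, hσN, smul_mul_assoc]
  · have h1 : (D).act ((1 - (D).E) * algebraMap F (D).TQ (1 - σ)) * (D).N = 0 := by
      have h := congrArg ((D).act (1 - (D).E) * ·) hz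
      simp only [mul_zero, ← mul_assoc, ← map_mul] at h
      rw [show (1 - (D).E) * algebraMap F (D).TQ (1 - σ) =
        (1 - (D).E) * (α * α * (D).E + (1 - (D).E) - algebraMap F (D).TQ σ) by
          rw [map_sub, _root_.map_one]; linear_combination (1 - α * α) * (D).EE * (-1 : (D).TQ)]
      exact h
    rw [map_mul, AlgHom.commutes, ← Algebra.commutes, ← Algebra.smul_def, smul_mul_assoc, smul_eq_zero,
      sub_eq_zero] at h1
    have := hM.eq_zero_of_idem hs hc (y := 1 - (D).E) (by linear_combination (D).EE) (h1.resolve_left (Ne.symm hσ1))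
    exact (sub_eq_zero.mp this).symm

end Rigid2

end CfsgLib.TWSp
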