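import Cfsg.Agent.TensorWreathSp.PlaneRigid

/-!
# No rigid overgroup of planar symplectic factors: conclusion
-/

set_option autoImplicit false
set_option linter.unusedSectionVars false

namespace CfsgLib.TWSp

open Matrix Polynomial CfsgLib.MaxSub CfsgLib.TWreath

variable {F : Type*} [Field F] [Finite F] {ι : Type} [Fintype ι] [DecidableEq ι]
  {G : Matrix (Fin 2) (Fin 2) F} {M : Subgroup (GL (ι → Fin 2) F)} {r' : GL (ι → Fin 2) F}
  {h2 : ((r' : Matrix (ι → Fin 2) (ι → Fin 2) F) - 1) * ((r' : Matrix (ι → Fin 2) (ι → Fin 2) F) - 1) = 0}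
  {i : ι} {s : F} {c : Fin 2 → F}

namespace Rigid2

variable (hM : Rigid2 G M) (hs : s ≠ 0) (hc : c ≠ 0) (hr'M : r' ∈ M)

local notation "D" => pairOf hM.form r' h2 i s c

include hM hs hc hr'M

/-- Residual squares of the field generated by the parameter are in the ground field. -/
theorem torus_of_residual {p : ℕ} [Fact p.Prime] [CharP F p] {K : Type*} [Field K] [Finite K] [CharP K p]
    (χ : (D).TQ →+* K) (hE : χ (D).E = 1) (hexc : p ≠ 3 ∨ χ (D).tau ^ 2 ≠ -1) {a : K}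
    (ha : a ∈ Subfield.closure ({χ (D).tau} : Set K)) (ha0 : a ≠ 0) :
    ∃ q ∈ (D).Gam, ∃ σ : F, q.2 ∈ wreath ι 2 F ∧ a ^ 2 = χ (algebraMap F (D).TQ σ) ∧
      (q.1 : Matrix (Fin 2) (Fin 2) (D).TQ) 1 0 * (D).E = 0 ∧
      ((q.1 : Matrix (Fin 2) (Fin 2) (D).TQ) 0 0 ^ 2 - algebraMap F (D).TQ σ) * (D).E = 0 ∧
      (q.2 : Matrix (ι → Fin 2) (ι → Fin 2) F) * (D).N = σ • ((D).N * q.2) ∧
      (σ ≠ 1 → (D).E = 1) := by
  obtain ⟨g, hg, hu, hga⟩ := (D).exists_residual_diag (hM.ne_two (p := p)) χ hE hexc ha ha0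
  obtain ⟨q, hq, σ, h1, h2', h3, h4, h5, h6⟩ := hM.residual_sq hs hc hr'M (κ := Unit) (K := fun _ => K)
    (fun _ => χ) (fun _ => hE) hg (fun _ => hu)
  exact ⟨q, hq, σ, h1, by rw [← hga]; exact h2' (), h3, h4, h5, h6⟩

/-- The parameter is rational. -/
theorem tau_rational {p : ℕ} [Fact p.Prime] [CharP F p] {K : Type*} [Field K] [Finite K] [CharP K p]
    (χ : (D).TQ →+* K) (hE : χ (D).E = 1) (hexc : p ≠ 3 ∨ χ (D).tau ^ 2 ≠ -1) :
    ∃ t : F, χ ((D).tau - algebraMap F (D).TQ t) = 0 := by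
  set L := Subfield.closure ({χ (D).tau} : Set K)
  have hl : χ (D).tau ∈ L := Subfield.subset_closure rfl
  have key : ∀ a ∈ L, ∃ σ : F, a ^ 2 = χ (algebraMap F (D).TQ σ) := fun a ha => by
    rcases eq_or_ne a 0 with rfl | ha0
    · exact ⟨0, by simp⟩
    · obtain ⟨q, -, σ, -, h, -⟩ := hM.torus_of_residual hs hc hr'M χ hE hexc ha ha0
      exact ⟨σ, h⟩
  obtain ⟨σ, hσ⟩ := key _ (L.add_mem hl L.one_mem)
  obtain ⟨σ', hσ'⟩ := key _ (L.sub_mem hl L.one_mem)
  refine ⟨(σ - σ') / 4, ?_⟩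
  have h4 : (4 : F) ≠ 0 := by rw [show (4 : F) = 2 * 2 by norm_num]; exact mul_ne_zero hM.two hM.two
  have e : algebraMap F (D).TQ ((σ - σ') / 4) * 4 = algebraMap F (D).TQ σ - algebraMap F (D).TQ σ' := by
    rw [← map_ofNat (algebraMap F (D).TQ) 4, ← map_mul, div_mul_cancel₀ _ h4, map_sub]
  have e' := congrArg χ e
  rw [map_mul, map_ofNat, map_sub, ← hσ, ← hσ'] at e'
  have h4K : (4 : K) ≠ 0 := by
    have := RingHom.injective (χ.comp (algebraMap F (D).TQ))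
    intro h0
    exact h4 (this (by rw [map_ofNat, map_zero]; exact h0))
  refine (mul_eq_zero.mp ?_).resolve_right h4K
  rw [map_sub, sub_mul, e']
  ring

/-- A parameter with fourth power different from one gives a torus element. -/
theorem torus_of_ne_one {p : ℕ} [Fact p.Prime] [CharP F p] {K : Type*} [Field K] [Finite K] [CharP K p]
    (χ : (D).TQ →+* K) (hE : χ (D).E = 1) (h4 : χ (D).tau ^ 4 ≠ 1) :
    (D).E = 1 ∧ ∃ t : F, ¬ IsUnit ((D).tau - algebraMap F (D).TQ t) ∧ ∃ q ∈ (D).Gam, ∃ b : F, b ^ 2 ≠ 1 ∧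
      q.2 ∈ wreath ι 2 F ∧ (q.1 : Matrix (Fin 2) (Fin 2) (D).TQ) 1 0 = 0 ∧
      (q.1 : Matrix (Fin 2) (Fin 2) (D).TQ) 0 0 = algebraMap F (D).TQ b ∧
      (q.2 : Matrix (ι → Fin 2) (ι → Fin 2) F) * (D).N = b ^ 2 • ((D).N * q.2) := by
  have hexc : p ≠ 3 ∨ χ (D).tau ^ 2 ≠ -1 := Or.inr fun h => h4 (by rw [show 4 = 2 * 2 by norm_num, pow_mul, h]; norm_num)
  have hl0 : χ (D).tau ≠ 0 := fun h0 => by
    have := congrArg χ (D).tauS
    rw [map_mul, h0, zero_mul, hE] at this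
    exact zero_ne_one this
  obtain ⟨t, ht⟩ := hM.tau_rational hs hc hr'M χ hE hexc
  obtain ⟨q, hq, σ, hqW, hσ, h10, h00, hN, hE1⟩ :=
    hM.torus_of_residual hs hc hr'M χ hE hexc (Subfield.subset_closure rfl) hl0
  have hσ1 : σ ^ 2 ≠ 1 := fun h => h4 (by
    rw [show 4 = 2 * 2 by norm_num, pow_mul, hσ, ← map_pow, ← map_pow, h, map_one, map_one])
  have hE' := hE1 fun h => hσ1 (by rw [h, one_pow])
  rw [hE', mul_one] at h10 h00
  refine ⟨hE', t, fun hu => (hu.map χ).ne_zero ht, q * q, (D).Gam.mul_mem hq hq, σ, hσ1,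
    (wreath ι 2 F).mul_mem hqW hqW, ?_, ?_, ?_⟩
  · rw [Prod.fst_mul, Units.val_mul, Matrix.mul_apply, Fin.sum_univ_two, h10, zero_mul, mul_zero, add_zero]
  · rw [Prod.fst_mul, Units.val_mul, Matrix.mul_apply, Fin.sum_univ_two, h10, mul_zero, add_zero, ← pow_two]
    exact sub_eq_zero.mp h00
  · rw [Prod.snd_mul, Units.val_mul, mul_assoc, hN, mul_smul_comm, ← mul_assoc, hN, smul_mul_assoc, smul_smul,
      mul_assoc, pow_two]

end Rigid2

namespace Rigid2

variable (hM : Rigid2 G M)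

include hM

set_option maxHeartbeats 800000 in
/-- Every centre has a torus element. -/
theorem exists_torus (hq3 : Nat.card F ≠ 3) (hr'M : r' ∈ M) (hr'W : r' ∉ wreath ι 2 F) (i : ι) (hc : c ≠ 0) :
    ∃ s : F, s ≠ 0 ∧ let X := pairOf hM.form r' h2 i s c
      X.E = 1 ∧ ∃ t : F, ¬ IsUnit (X.tau - algebraMap F X.TQ t) ∧ ∃ q ∈ X.Gam, ∃ b : F, b ^ 2 ≠ 1 ∧
      q.2 ∈ wreath ι 2 F ∧ (q.1 : Matrix (Fin 2) (Fin 2) X.TQ) 1 0 = 0 ∧
      (q.1 : Matrix (Fin 2) (Fin 2) X.TQ) 0 0 = algebraMap F X.TQ b ∧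
      (q.2 : Matrix (ι → Fin 2) (ι → Fin 2) F) * X.N = b ^ 2 • (X.N * q.2) := by
  classical
  obtain ⟨p, hp'⟩ := CharP.exists F
  have hp : Fact p.Prime := ⟨CharP.char_is_prime F p⟩
  have : Fintype F := Fintype.ofFinite F
  by_cases hgood : ∃ s : F, s ≠ 0 ∧ ∃ I : Ideal (pairOf hM.form r' h2 i s c).TQ, I.IsMaximal ∧
      1 - (pairOf hM.form r' h2 i s c).E ∈ I ∧ (pairOf hM.form r' h2 i s c).tau ^ 4 - 1 ∉ I
  · obtain ⟨s, hs, I, hI, hEI, h4⟩ := hgood
    haveI := (pairOf hM.form r' h2 i s c).finite_TQ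
    letI := Ideal.Quotient.field I
    have hfin : Finite ((pairOf hM.form r' h2 i s c).TQ ⧸ I) := Finite.of_surjective _ Ideal.Quotient.mk_surjective
    have : CharP ((pairOf hM.form r' h2 i s c).TQ ⧸ I) p :=
      charP_of_injective_algebraMap (algebraMap F ((pairOf hM.form r' h2 i s c).TQ ⧸ I)).injective p
    refine ⟨s, hs, hM.torus_of_ne_one hs hc hr'M (p := p) (Ideal.Quotient.mk I) ?_ fun h => h4 ?_⟩
    · rw [← sub_eq_zero, ← neg_eq_zero, neg_sub, ← map_one (Ideal.Quotient.mk I), ← map_sub,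
        Ideal.Quotient.eq_zero_iff_mem]
      exact hEI
    · rw [← Ideal.Quotient.eq_zero_iff_mem, map_sub, map_pow, h, map_one, sub_self]
  push Not at hgood
  let X := pairOf hM.form r' h2 i 1 c
  haveI := X.finite_TQ
  obtain ⟨I₀, hI₀, hEI₀⟩ := X.exists_ideal (hM.E_ne_zero one_ne_zero hc hr'M hr'W)
  have hI₀4 := hgood 1 one_ne_zero I₀ hI₀ hEI₀
  -- the field has five elements
  have hp5 : Nat.card F = 5 := by
    obtain ⟨ω, hω⟩ := IsCyclic.exists_generator (α := Fˣ)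
    have hord : orderOf ω = Nat.card F - 1 := by
      rw [orderOf_eq_card_of_forall_mem_zpowers hω, Nat.card_units]
    let Y := pairOf hM.form r' h2 i (ω : F) c
    have hker : RingHom.ker (aeval (R := F) Y.T) ≤ RingHom.ker (aeval (R := F) ((ω : F) • X.tau)) := fun f hf => by
      rw [RingHom.mem_ker] at hf ⊢
      refine X.act_injective ?_
      rw [← aeval_algHom_apply, map_zero, map_smul, X.act_tau, ← hf]
      congr 2
      show (ω : F) • (emb i (vecMulVec ((1 : F) • c) (G *ᵥ c)) * _ + _ * emb i (vecMulVec ((1 : F) • c) (G *ᵥ c))) =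
        emb i (vecMulVec ((ω : F) • c) (G *ᵥ c)) * _ + _ * emb i (vecMulVec ((ω : F) • c) (G *ᵥ c))
      rw [one_smul, smul_vecMulVec, emb_smul, smul_mul_assoc, mul_smul_comm, smul_add]
      rfl
    let ψ : Y.TQ →ₐ[F] X.TQ := Ideal.Quotient.liftₐ _ (aeval ((ω : F) • X.tau)) fun f hf => hker hf
    have hψ : ψ Y.tau = (ω : F) • X.tau := by
      show aeval ((ω : F) • X.tau) (Polynomial.X : F[X]) = _
      exact aeval_X _
    set J := I₀.comap ψ.toRingHom
    have hJp : J.IsPrime := Ideal.IsPrime.comap _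
    haveI := Y.finite_TQ
    have hJ : J.IsMaximal := IsArtinianRing.isMaximal_of_isPrime J
    have hXtau : X.tau ∉ I₀ := fun h => hI₀.ne_top ((Ideal.eq_top_iff_one _).mpr (by
      rw [← sub_add_cancel (1 : X.TQ) X.E]
      exact I₀.add_mem hEI₀ (by rw [← X.tauS]; exact I₀.mul_mem_right _ h)))
    have hEJ : 1 - Y.E ∈ J := by
      have h1 : (1 - Y.E) * Y.tau ^ Y.exp = 0 := by rw [← QPair.E, sub_mul, one_mul, Y.EE, sub_self]
      refine (hJ.isPrime.mem_or_mem (by rw [h1]; exact J.zero_mem)).resolve_right fun h => ?_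
      have h' : (ω : F) • X.tau ∈ I₀ := by rw [← hψ]; exact hJ.isPrime.mem_of_pow_mem _ h
      have h'' := I₀.smul_of_tower_mem ((ω⁻¹ : Fˣ) : F) h'
      rw [smul_smul, Units.inv_mul, one_smul] at h''
      exact hXtau h''
    have h4J := hgood (ω : F) ω.ne_zero J hJ hEJ
    have h1 : ψ.toRingHom (Y.tau ^ 4 - 1) ∈ I₀ := h4J
    change ψ (Y.tau ^ 4 - 1) ∈ I₀ at h1
    rw [map_sub, map_pow, hψ, map_one, _root_.smul_pow] at h1
    have h2' : ((ω : F) ^ 4 - 1) • X.tau ^ 4 ∈ I₀ := by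
      have := I₀.sub_mem h1 hI₀4
      rwa [sub_smul, one_smul, ← sub_sub_sub_cancel_right ((ω : F) ^ 4 • X.tau ^ 4) (X.tau ^ 4) 1]
    have hω4 : ω ^ 4 = 1 := by
      by_contra hne
      have hne' : (ω : F) ^ 4 - 1 ≠ 0 := sub_ne_zero.mpr fun h => hne (Units.ext (by simpa using h))
      have h3 := I₀.smul_of_tower_mem ((ω : F) ^ 4 - 1)⁻¹ h2'
      rw [smul_smul, inv_mul_cancel₀ hne', one_smul] at h3
      exact hXtau (hI₀.isPrime.mem_of_pow_mem _ h3)
    have hdvd := orderOf_dvd_of_pow_eq_one hω4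
    rw [hord] at hdvd
    have hle := Nat.le_of_dvd (by norm_num) hdvd
    obtain ⟨k, -, hk⟩ := FiniteField.card F p
    rw [← Nat.card_eq_fintype_card] at hk
    have hge : 2 ≤ Nat.card F := Finite.one_lt_card
    have hodd : Nat.card F % 2 = 1 := by
      rw [hk, Nat.pow_mod, (hp.out.eq_two_or_odd).resolve_left (hM.ne_two (p := p)), one_pow, Nat.one_mod]
    rcases show Nat.card F = 3 ∨ Nat.card F = 5 by omega with h | h
    · exact absurd h hq3
    · exact h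
  have h5 : p = 5 := by
    obtain ⟨k, -, hk⟩ := FiniteField.card F p
    rw [← Nat.card_eq_fintype_card, hp5] at hk
    have : p ∣ 5 := by rw [hk]; exact dvd_pow_self p k.ne_zero
    exact (Nat.prime_dvd_prime_iff_eq hp.out Nat.prime_five).mp this
  subst h5
  have h50 : (5 : F) = 0 := by exact_mod_cast CharP.cast_eq_zero F 5
  let e5 : ZMod 5 →+* F := ZMod.castHom (dvd_refl 5) F
  have he5 : Function.Bijective e5 := by
    refine (Fintype.bijective_iff_injective_and_card _).mpr ⟨e5.injective, ?_⟩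
    rw [ZMod.card, ← Nat.card_eq_fintype_card, hp5]
  have hf : ∀ (I : Ideal X.TQ), I.IsMaximal → Finite (X.TQ ⧸ I) ∧ CharP (X.TQ ⧸ I) 5 := fun I hI =>
    ⟨Finite.of_surjective _ Ideal.Quotient.mk_surjective,
      haveI := hI
      letI := Ideal.Quotient.field I
      charP_of_injective_algebraMap (algebraMap F (X.TQ ⧸ I)).injective 5⟩
  have hmk : ∀ (I : Ideal X.TQ), 1 - X.E ∈ I → Ideal.Quotient.mk I X.E = 1 := fun I h =>
    ((Ideal.Quotient.eq).mpr h).symm.trans (map_one _)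
  -- the invertible part is everything
  obtain ⟨hE1, q, hq, hqW, h10, h00, hqN⟩ : X.E = 1 ∧ ∃ q ∈ X.Gam, q.2 ∈ wreath ι 2 F ∧
      (q.1 : Matrix (Fin 2) (Fin 2) X.TQ) 1 0 = 0 ∧
      (q.1 : Matrix (Fin 2) (Fin 2) X.TQ) 0 0 ^ 2 = algebraMap F X.TQ ((2 : F) ^ 2) ∧
      (q.2 : Matrix (ι → Fin 2) (ι → Fin 2) F) * X.N = (2 : F) ^ 2 • (X.N * q.2) := by
    obtain ⟨_, _⟩ := hf I₀ hI₀
    letI := Ideal.Quotient.field I₀
    have h2K : (2 : X.TQ ⧸ I₀) ≠ 0 := Ring.two_ne_zero (by rw [ringChar.eq (X.TQ ⧸ I₀) 5]; norm_num)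
    obtain ⟨q, hq, σ, hqW, hσ, h10, h00, hN, hE1⟩ := hM.torus_of_residual one_ne_zero hc hr'M
      (p := 5) (Ideal.Quotient.mk I₀) (hmk _ hEI₀) (Or.inl (by norm_num))
      (a := (2 : X.TQ ⧸ I₀)) (by
        rw [show (2 : X.TQ ⧸ I₀) = 1 + 1 by norm_num]
        exact add_mem (one_mem _) (one_mem _)) h2K
    obtain rfl : σ = 2 ^ 2 :=
      ((Ideal.Quotient.mk I₀).comp (algebraMap F X.TQ)).injective (by
        show Ideal.Quotient.mk I₀ (algebraMap F X.TQ σ) = _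
        rw [← hσ, map_pow, map_ofNat])
    have h1 : (2 : F) ^ 2 ≠ 1 := fun h => hM.two (by linear_combination 4 * (-1 : F) * 0 + h50 - h)
    have hE1' := hE1 h1
    rw [hE1', mul_one] at h10 h00
    exact ⟨hE1', q, hq, hqW, h10, sub_eq_zero.mp h00, hN⟩
  have hall : ∀ I : Ideal X.TQ, 1 - X.E ∈ I := fun I => by rw [hE1, sub_self]; exact I.zero_mem
  -- rational parameters
  have hrat : ∀ I : Ideal X.TQ, I.IsMaximal → ∃ a : ZMod 5, a ≠ 0 ∧ X.tau - algebraMap F X.TQ (e5 a) ∈ I := by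
    intro I hI
    obtain ⟨_, _⟩ := hf I hI
    letI := Ideal.Quotient.field I
    obtain ⟨t, ht⟩ := hM.tau_rational one_ne_zero hc hr'M (p := 5) (Ideal.Quotient.mk I) (hmk I (hall I))
      (Or.inl (by norm_num))
    rw [Ideal.Quotient.eq_zero_iff_mem] at ht
    obtain ⟨a, rfl⟩ := he5.2 t
    refine ⟨a, ?_, ht⟩
    rintro rfl
    rw [map_zero, map_zero, sub_zero] at ht
    refine hI.ne_top ((Ideal.eq_top_iff_one _).mpr ?_)
    rw [← hE1, ← X.tauS]
    exact I.mul_mem_right _ ht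
  obtain ⟨a₀, ha₀, hta₀⟩ := hrat I₀ hI₀
  have huniq : ∀ I : Ideal X.TQ, I.IsMaximal → X.tau - algebraMap F X.TQ (e5 a₀) ∈ I := by
    intro I hI
    obtain ⟨a, ha, hta⟩ := hrat I hI
    rcases eq_or_ne a a₀ with rfl | hne
    · exact hta
    exfalso
    obtain ⟨w, -, hw1, hw2, hw3⟩ := exists_word_five a a₀ ha ha₀ hne
    let Is : Bool → Ideal X.TQ := fun l => if l then I else I₀
    have hIs : ∀ l, (Is l).IsMaximal := fun l => by cases l <;> assumption
    letI : ∀ l, Field (X.TQ ⧸ Is l) := fun l => haveI := hIs l; Ideal.Quotient.field (Is l)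
    haveI : ∀ l, Finite (X.TQ ⧸ Is l) := fun l => (hf _ (hIs l)).1
    haveI : ∀ l, CharP (X.TQ ⧸ Is l) 5 := fun l => (hf _ (hIs l)).2
    let av : Bool → ZMod 5 := fun l => if l then a else a₀
    let fl : ∀ l, ZMod 5 →+* X.TQ ⧸ Is l := fun l => (Ideal.Quotient.mk (Is l)).comp ((algebraMap F X.TQ).comp e5)
    have htl : ∀ l, Ideal.Quotient.mk (Is l) X.tau = fl l (av l) := fun l => by
      refine (Ideal.Quotient.eq).mpr ?_
      cases l <;> assumption
    have hval : ∀ l u v, Ideal.Quotient.mk (Is l) (((X.word w).1 : Matrix (Fin 2) (Fin 2) X.TQ) u v) =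
        fl l (QPair.wordVal (av l) w u v) := fun l u v => by
      have h := X.word_map (Ideal.Quotient.mk (Is l)) (hmk _ (hall _)) w
      rw [htl, ← QPair.wordVal_map] at h
      exact congrFun (congrFun h u) v
    obtain ⟨q', -, σ, -, hσ, -⟩ := hM.residual_sq one_ne_zero hc hr'M (p := 5) (K := fun l => X.TQ ⧸ Is l)
      (fun l => Ideal.Quotient.mk (Is l)) (fun l => hmk _ (hall _)) (X.word_mem w)
      (fun l => by rw [hval]; cases l <;> simp only [av, Bool.false_eq_true, if_false, if_true, hw1, hw2, map_zero])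
    have key : ∀ l, e5 (QPair.wordVal (av l) w 0 0 ^ 2) = σ := fun l => by
      refine ((Ideal.Quotient.mk (Is l)).comp (algebraMap F X.TQ)).injective ?_
      have h := hσ l
      rw [hval, ← map_pow] at h
      exact h
    exact hw3 (he5.1 (by
      have e1 := key true
      have e2 := key false
      simp only [av, if_true, Bool.false_eq_true, if_false] at e1 e2
      rw [e1, e2]))
  -- the diagonal entry is scalar
  obtain ⟨f, hfz⟩ := X.exists_poly ((q.1 : Matrix (Fin 2) (Fin 2) X.TQ) 0 0)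
  have hunit : ∀ b : F, f.eval (e5 a₀) ≠ b →
      IsUnit ((q.1 : Matrix (Fin 2) (Fin 2) X.TQ) 0 0 - algebraMap F X.TQ b) := fun b hb => by
    by_contra hu
    obtain ⟨I, hI, hmem⟩ := exists_max_ideal_of_mem_nonunits hu
    obtain ⟨g, hg⟩ := Polynomial.X_sub_C_dvd_sub_C_eval (a := e5 a₀) (p := f)
    have h1 := congrArg (aeval X.tau) hg
    rw [map_sub, map_mul, map_sub, aeval_X, aeval_C, aeval_C, ← hfz] at h1
    have h2' : (q.1 : Matrix (Fin 2) (Fin 2) X.TQ) 0 0 - algebraMap F X.TQ (f.eval (e5 a₀)) ∈ I := by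
      rw [h1]; exact I.mul_mem_right _ (huniq I hI)
    have h3 := I.sub_mem hmem h2'
    rw [sub_sub_sub_cancel_left, ← map_sub] at h3
    exact hI.ne_top (Ideal.eq_top_of_isUnit_mem I h3 ((isUnit_iff_ne_zero.mpr (sub_ne_zero.mpr hb)).map _))
  have hprod : ((q.1 : Matrix (Fin 2) (Fin 2) X.TQ) 0 0 - algebraMap F X.TQ 2) *
      ((q.1 : Matrix (Fin 2) (Fin 2) X.TQ) 0 0 - algebraMap F X.TQ (-2)) = 0 := by
    rw [map_neg]; rw [map_pow] at h00
    linear_combination h00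
  obtain ⟨b, hb, hqb⟩ : ∃ b : F, b ^ 2 = 2 ^ 2 ∧ (q.1 : Matrix (Fin 2) (Fin 2) X.TQ) 0 0 = algebraMap F X.TQ b := by
    by_cases h : f.eval (e5 a₀) = 2
    · refine ⟨2, rfl, sub_eq_zero.mp ((hunit (-2) ?_).mul_left_eq_zero.mp hprod)⟩
      rw [h]
      intro e
      have : (2 : F) * 2 = 0 := by linear_combination e
      exact hM.two (mul_self_eq_zero.mp this)
    · exact ⟨-2, neg_sq _, sub_eq_zero.mp ((hunit 2 h).mul_right_eq_zero.mp hprod)⟩
  refine ⟨1, one_ne_zero, hE1, e5 a₀, fun hu => ?_, q, hq, b, ?_, hqW, h10, hqb, by rw [hb]; exact hqN⟩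
  · exact hI₀.ne_top (Ideal.eq_top_of_isUnit_mem I₀ hta₀ hu)
  · rw [hb]; exact fun h => hM.two (by linear_combination h50 - h)

end Rigid2

end CfsgLib.TWSp
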