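import Cfsg.Agent.TensorWreathSp.PlaneLong
import Cfsg.Agent.TensorWreathSp.SpMain

/-!
# Maximality of symplectic tensor wreath stabilisers with planar factors in symplectic groups
-/

set_option autoImplicit false
set_option linter.unusedSectionVars false

namespace CfsgLib.TWSp

open Matrix CfsgLib.MaxSub CfsgLib.TWreath Cfsg.Geo

variable {F : Type*} [Field F] {ι : Type} [Fintype ι] [DecidableEq ι] {G : Matrix (Fin 2) (Fin 2) F}

/-- Every vector lies in a split plane. -/
theorem exists_plane_lift (hG : SpForm G) (i : ι) {c d : Fin 2 → F} (hd : om G d c = 1)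
    (v : (ι → Fin 2) → F) : ∃ r p, v = lift i c r + lift i d p := by
  classical
  refine ⟨∑ k, (-om G (Pi.single k 1) d) • proj i (Pi.single k (1 : F)) v,
    ∑ k, om G (Pi.single k 1) c • proj i (Pi.single k (1 : F)) v, ?_⟩
  conv_lhs => rw [eq_sum_lift i v]
  rw [map_sum, map_sum, ← Finset.sum_add_distrib]
  refine Finset.sum_congr rfl fun k _ => ?_
  conv_lhs => arg 1; arg 2; rw [plane_expand hG hd (Pi.single k (1 : F) : Fin 2 → F)]
  simp only [lift_add_left, lift_smul_left, map_smul, LinearMap.add_apply, LinearMap.smul_apply]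
  abel

/-- Overgroups of the stabiliser in the isometry group contain all transvections. -/
theorem goodT_of_overgroup2 [Finite F] [Nonempty ι] (hq3 : Nat.card F ≠ 3) (h2 : (2 : F) ≠ 0)
    (hι : Odd (Fintype.card ι)) (hG : SpForm G) {M : Subgroup (GL (ι → Fin 2) F)} (hMK : M ≤ isoGrp ι G)
    (hHM : wreath ι 2 F ⊓ isoGrp ι G ≤ M) (hMW : ¬ M ≤ wreath ι 2 F) (v : (ι → Fin 2) → F) : GoodT G M v := by
  classical
  obtain ⟨i⟩ : Nonempty ι := inferInstance
  have hfac : HasFactors G M := fun j h hh => hHM ⟨embG_mem j h, isIso_embG j hh⟩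
  have hS : PlaneSetting G M := ⟨⟨hG, fun x hx => mem_isoGrp.mp (hMK hx), hfac⟩, h2⟩
  have hperm : ∀ a b x : ι, a ≠ b → x ≠ a → x ≠ b →
      pmG (F := F) (m := 2) (Equiv.swap a b * Equiv.swap b x) ∈ M :=
    fun a b x _ _ _ => hHM ⟨pmG_mem _, isIso_pmG _⟩
  have hnc := exists_cen2 hq3 h2 hG _ ι rfl M (fun x hx => (mem_isoGrp.mp (hMK hx)).mem_gsim) hfac hMW
  have hsym : (gram {j // j ≠ i} G)ᵀ = gram {j // j ≠ i} G := by
    rw [gram_transpose hG, Fintype.card_subtype_compl, Fintype.card_subtype_eq]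
    obtain ⟨r, hr⟩ := hι
    rw [hr, show 2 * r + 1 - 1 = 2 * r by omega, pow_mul, neg_one_sq, one_pow, one_smul]
  have hlift := hS.goodT_lift h2 hsym fun a => hS.long_all hperm hnc i (by
    rw [adj_mul (gram_det_unit hG.det), adj_adj hG])
  obtain ⟨d, hd⟩ := hG.exists_partner (c := (Pi.single 0 1 : Fin 2 → F)) (by simp)
  obtain ⟨r, p, rfl⟩ := exists_plane_lift hG i hd v
  exact hS.goodT_plane hsym hlift hd r p

/-- The stabiliser in `Sp` of a symplectic tensor power decomposition with planar factors is maximal, for more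
than three scalars. -/
theorem isMaximalIn_spWreath2 [Fintype F] {n t : ℕ} (hq3 : Nat.card F ≠ 3) (h2 : (2 : F) ≠ 0) (ht : Odd t)
    (ht3 : 3 ≤ t) (e : (Fin n ⊕ Fin n) ≃ (Fin t → Fin 2)) (P : GL (Fin n ⊕ Fin n) F)
    {f₁ : (Fin 2 → F) → (Fin 2 → F) → F} (hf₁ : IsSymplecticForm f₁)
    (hT : IsTensorPowerFormStructure id (Cfsg.sympForm n F) f₁ e P) :
    IsMaximalIn (Cfsg.spGL n F) (tensorWreathSubgroup 2 t e P ⊓ Cfsg.spGL n F) :=
  have : Nonempty (Fin t) := ⟨⟨0, by omega⟩⟩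
  isMaximalIn_spWreath_of le_rfl ht3 e P hf₁ hT fun _ hM hH hW =>
    goodT_of_overgroup2 hq3 h2 (by rwa [Fintype.card_fin]) (spForm_gramMatrix hf₁) hM hH hW

end CfsgLib.TWSp
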