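import Cfsg.Agent.TensorWreathSp.Lowering

/-!
# No pure nilpotent element has scalar symmetrised products with all its conjugates
-/

set_option autoImplicit false
set_option linter.unusedSectionVars false

namespace CfsgLib.TWSp

open Matrix CfsgLib.MaxSub CfsgLib.TWreath

variable {F : Type*} [Field F] {ι : Type} [Fintype ι] [DecidableEq ι] {m : ℕ}
  {G : Matrix (Fin m) (Fin m) F}

theorem adj_vecMulVec (hG : SpForm G) (u v : Fin m → F) :
    adj G (vecMulVec u (G *ᵥ v)) = - vecMulVec v (G *ᵥ u) := by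
  rw [adj, transpose_vecMulVec, Matrix.mul_assoc, vecMulVec_mul, hG.vecMul, mul_vecMulVec, mulVec_mulVec,
    nonsing_inv_mul G hG.det, one_mulVec, vecMulVec_neg]

theorem adj_cen (hG : SpForm G) (c : Fin m → F) : adj G (cen G c) = - cen G c := adj_vecMulVec hG c c

theorem adj_wedge (hG : SpForm G) (c e : Fin m → F) : adj G (wedge G c e) = wedge G c e := by
  have h1 := adj_add G (wedge G c e) (vecMulVec e (G *ᵥ c))
  rw [show wedge G c e + vecMulVec e (G *ᵥ c) = vecMulVec c (G *ᵥ e) from sub_add_cancel _ _, adj_vecMulVec hG,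
    adj_vecMulVec hG] at h1
  rw [wedge] at h1 ⊢
  linear_combination (norm := abel) -h1

theorem gram_inv (hG : SpForm G) : (gram ι G)⁻¹ = Pt fun _ => G⁻¹ := by
  refine Matrix.inv_eq_right_inv ?_
  rw [gram, Pt_mul, ← Pt_one (ι := ι)]
  congr 1
  funext k
  exact mul_nonsing_inv G hG.det

theorem adj_Pt (hG : SpForm G) (gs : ι → Matrix (Fin m) (Fin m) F) :
    adj (gram ι G) (Pt gs) = Pt fun k => adj G (gs k) := by
  have ht : (Pt gs)ᵀ = Pt fun k => (gs k)ᵀ := rfl
  rw [adj, gram_inv hG, ht, gram, Pt_mul, Pt_mul]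
  rfl

theorem pten_apply_ne_zero {gs : ι → Matrix (Fin m) (Fin m) F} {xs : ι → Fin m → F}
    (h : ∀ k, gs k *ᵥ xs k ≠ 0) : Pt gs *ᵥ pten xs ≠ 0 := by
  rw [Pt_mulVec_pten]; exact pten_ne_zero h

/-- Products with a killed vector in a factor are not scalar. -/
theorem Pt_ne_scalar {gs : ι → Matrix (Fin m) (Fin m) F} (h0 : ∀ k, gs k ≠ 0) {k₀ : ι} {x : Fin m → F}
    (hx : x ≠ 0) (hk : gs k₀ *ᵥ x = 0) (s : F) : Pt gs ≠ s • 1 := by
  intro he
  have hex : ∀ k, ∃ z, gs k *ᵥ z ≠ 0 := fun k => by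
    by_contra hc
    push Not at hc
    exact h0 k (Matrix.ext_of_mulVec_single fun q => by rw [hc, zero_mulVec])
  choose z hz using hex
  have h1 := congrArg (· *ᵥ pten (Function.update z k₀ x)) he
  simp only [Pt_mulVec_pten, smul_mulVec, one_mulVec] at h1
  have hne : pten (Function.update z k₀ x) ≠ 0 := pten_ne_zero fun k => by
    rcases eq_or_ne k k₀ with rfl | hkk
    · rwa [Function.update_self]
    · rw [Function.update_of_ne hkk]; exact fun e => hz k (by rw [e, mulVec_zero])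
  rw [pten_eq_zero.mpr ⟨k₀, by rw [Function.update_self, hk]⟩] at h1
  have hs : s = 0 := (smul_eq_zero.mp h1.symm).resolve_right hne
  refine pten_apply_ne_zero hz ?_
  rw [he, hs, zero_smul, zero_mulVec]

theorem InvSub.conj_Pt {V : Submodule F (Matrix (ι → Fin m) (ι → Fin m) F)} (hV : InvSub G V)
    {hs : ι → GL (Fin m) F} (hh : ∀ k, hs k ∈ spG G) {a : Matrix (ι → Fin m) (ι → Fin m) F} (ha : a ∈ V) :
    (PtG hs : Matrix (ι → Fin m) (ι → Fin m) F) * a *
      (((PtG hs)⁻¹ : GL (ι → Fin m) F) : Matrix (ι → Fin m) (ι → Fin m) F) ∈ V := by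
  classical
  suffices ∀ S : Finset ι, ∀ hs : ι → GL (Fin m) F, (∀ k, hs k ∈ spG G) → (∀ k, k ∉ S → hs k = 1) →
      (PtG hs : Matrix (ι → Fin m) (ι → Fin m) F) * a *
        (((PtG hs)⁻¹ : GL (ι → Fin m) F) : Matrix (ι → Fin m) (ι → Fin m) F) ∈ V from
    this Finset.univ hs hh fun k hk => absurd (Finset.mem_univ k) hk
  intro S
  induction S using Finset.induction with
  | empty =>
    intro hs _ h1
    rw [show hs = 1 from funext fun k => h1 k (Finset.notMem_empty k), map_one, inv_one, Units.val_one,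
      Matrix.one_mul, Matrix.mul_one]
    exact ha
  | insert l S hl ih =>
    intro hs hh h1
    have e : hs = Function.update (1 : ι → GL (Fin m) F) l (hs l) * Function.update hs l 1 := by
      funext k
      rcases eq_or_ne k l with rfl | hk
      · simp
      · simp [hk]
    have h2 := hV l (hs l) (hh l) _ (ih (Function.update hs l 1) (fun k => by
      rcases eq_or_ne k l with rfl | hk
      · rw [Function.update_self]; exact (spG G).one_mem
      · rw [Function.update_of_ne hk]; exact hh k) fun k hk => by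
        rcases eq_or_ne k l with rfl | hkl
        · rw [Function.update_self]
        · rw [Function.update_of_ne hkl]; exact h1 k (by simp [hkl, hk]))
    rw [e, map_mul, ← embG_eq_PtG, _root_.mul_inv_rev, Units.val_mul, Units.val_mul]
    simpa only [Matrix.mul_assoc] using h2

theorem conj_wedge {h : GL (Fin m) F} (hh : h ∈ spG G) (c e : Fin m → F) :
    (h : Matrix (Fin m) (Fin m) F) * wedge G c e * ((h⁻¹ : GL (Fin m) F) : Matrix (Fin m) (Fin m) F) =
      wedge G ((h : Matrix (Fin m) (Fin m) F) *ᵥ c) ((h : Matrix (Fin m) (Fin m) F) *ᵥ e) := by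
  rw [wedge, wedge, Matrix.mul_sub, Matrix.sub_mul, mul_vecMulVec, vecMulVec_mul, mul_vecMulVec, vecMulVec_mul,
    vecMul_inv_of_mem_spG hh, vecMul_inv_of_mem_spG hh]

theorem SpForm.axis_indep (hG : SpForm G) {a b : Fin m → F} (h : ∀ k : F, k • a ≠ b) :
    ∀ k : F, k • (G *ᵥ a) ≠ G *ᵥ b := fun k hk =>
  h k (mulVec_injective_iff_isUnit.mpr ((Matrix.isUnit_iff_isUnit_det _).mpr hG.det) (by rw [mulVec_smul, hk]))

/-- A moving transvection. -/
theorem SpForm.exists_move (hG : SpForm G) {c f : Fin m → F} (h : om G c f ≠ 0) :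
    ∃ t : GL (Fin m) F, t ∈ spG G ∧ (t : Matrix (Fin m) (Fin m) F) *ᵥ c = f ∧
      ∀ x, om G x (f - c) = 0 → (t : Matrix (Fin m) (Fin m) F) *ᵥ x = x := by
  refine ⟨spt G (om G c f)⁻¹ (f - c), hG.spt_mem _ _, ?_, fun x hx => ?_⟩
  · rw [hG.spt_mulVec, sub_eq_add_neg f c, ← neg_one_smul F c, om_add_right, om_smul_right, hG.self, mul_zero,
      add_zero, inv_mul_cancel₀ h, one_smul, neg_one_smul, add_comm f, add_neg_cancel_left]
  · rw [hG.spt_mulVec, hx, mul_zero, zero_smul, add_zero]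

/-- The companion of a standard nilpotent matrix. -/
theorem exists_companion (hm : 4 ≤ m) (hG : SpForm G) {T : Matrix (Fin m) (Fin m) F} (hT : LowType G T) :
    ∃ h ∈ spG G, ∃ z, (T * ((h : Matrix (Fin m) (Fin m) F) * T *
      ((h⁻¹ : GL (Fin m) F) : Matrix (Fin m) (Fin m) F))) *ᵥ z ≠ 0 := by
  rcases hT with ⟨c, hc, -, rfl⟩ | ⟨c, e, hce, hind, hc, rfl⟩
  · obtain ⟨d, hd⟩ := hG.exists_partner hc
    have hcd : om G c d = -1 := by rw [hG.skew, hd]
    obtain ⟨t, ht, htc, -⟩ := hG.exists_move (c := c) (f := d) (by rw [hcd]; exact neg_ne_zero.mpr one_ne_zero)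
    refine ⟨t, ht, c, ?_⟩
    rw [conj_cen ht, htc, ← mulVec_mulVec, cen_mulVec G d c, hcd, mulVec_smul, cen_mulVec, hd, one_smul, neg_one_smul]
    exact neg_ne_zero.mpr hc
  · obtain ⟨f, hf1, hf2⟩ := exists_dot_eq_zero_one (a := G *ᵥ e) (b := G *ᵥ c) (hG.axis_indep fun k hk => by
      rcases eq_or_ne k 0 with rfl | hk0
      · exact hc (by rw [← hk, zero_smul])
      · exact hind k⁻¹ (by rw [← hk, smul_smul, inv_mul_cancel₀ hk0, one_smul]))
    rw [axis_dot] at hf1 hf2
    have hcf : om G c f = -1 := by rw [hG.skew, hf2]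
    have hef : om G e f = 0 := hG.axis_zero_iff.mp hf1
    obtain ⟨t, ht, htc, hfix⟩ := hG.exists_move (c := c) (f := f) (by rw [hcf]; exact neg_ne_zero.mpr one_ne_zero)
    have hte : (t : Matrix (Fin m) (Fin m) F) *ᵥ e = e := hfix e (by
      rw [sub_eq_add_neg, ← neg_one_smul F c, om_add_right, om_smul_right, hef, hG.axis_zero_iff.mp hce, mul_zero,
        add_zero])
    have he0 : e ≠ 0 := fun h0 => hind 0 (by rw [zero_smul, h0])
    obtain ⟨z, hz⟩ := hG.exists_partner he0
    refine ⟨t, ht, z, ?_⟩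
    rw [conj_wedge ht, htc, hte, ← mulVec_mulVec, wedge_mulVec G f e z, hz, one_smul, mulVec_sub, mulVec_smul,
      wedge_mulVec, wedge_mulVec, hf1, hf2, hG.self, hG.axis_zero_iff.mp hce]
    simp [he0]

/-- A separating companion in one factor. -/
theorem exists_separator (hm : 4 ≤ m) (hm6 : (2 : F) = 0 → 6 ≤ m) (hG : SpForm G)
    {T : Matrix (Fin m) (Fin m) F} (hT : LowType G T) (hodd : adj G T = -T) :
    ∃ h ∈ spG G, (∃ x, x ≠ 0 ∧ T *ᵥ x = 0 ∧
      ((h : Matrix (Fin m) (Fin m) F) * T * ((h⁻¹ : GL (Fin m) F) : Matrix (Fin m) (Fin m) F)) *ᵥ x = 0) ∧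
      ∃ z, (T * ((h : Matrix (Fin m) (Fin m) F) * T * ((h⁻¹ : GL (Fin m) F) : Matrix (Fin m) (Fin m) F))) *ᵥ z ≠ 0 ∧
        ((h : Matrix (Fin m) (Fin m) F) * T * ((h⁻¹ : GL (Fin m) F) : Matrix (Fin m) (Fin m) F) * T) *ᵥ z = 0 := by
  rcases hT with ⟨c, hc, -, rfl⟩ | ⟨c, e, hce, hind, hc, rfl⟩
  · obtain ⟨d, hd⟩ := hG.exists_partner hc
    have hcd : om G c d = -1 := by rw [hG.skew, hd]
    obtain ⟨t, ht, htc, -⟩ := hG.exists_move (c := c) (f := d) (by rw [hcd]; exact neg_ne_zero.mpr one_ne_zero)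
    let fn : (Fin m → F) →ₗ[F] (Fin 2 → F) :=
      { toFun := fun x => ![(G *ᵥ c) ⬝ᵥ x, (G *ᵥ d) ⬝ᵥ x]
        map_add' := fun x y => by funext q; fin_cases q <;> simp [dotProduct_add]
        map_smul' := fun k x => by funext q; fin_cases q <;> simp [dotProduct_smul] }
    obtain ⟨x, hx, hx0⟩ := Submodule.exists_mem_ne_zero_of_ne_bot (LinearMap.ker_ne_bot_of_finrank_lt (f := fn)
      (by rw [Module.finrank_fin_fun, Module.finrank_fin_fun]; omega))
    have h1 : om G x c = 0 := by rw [← axis_dot]; exact congrFun hx 0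
    have h2 : om G x d = 0 := by rw [← axis_dot]; exact congrFun hx 1
    refine ⟨t, ht, ⟨x, hx0, by rw [cen_mulVec, h1, zero_smul], by rw [conj_cen ht, htc, cen_mulVec, h2, zero_smul]⟩,
      c, ?_, ?_⟩
    · rw [conj_cen ht, htc, ← mulVec_mulVec, cen_mulVec G d c, hcd, mulVec_smul, cen_mulVec, hd, one_smul, neg_one_smul]
      exact neg_ne_zero.mpr hc
    · rw [← mulVec_mulVec, cen_mulVec, hG.self, zero_smul, mulVec_zero]
  · -- characteristic two
    have h2 : (2 : F) = 0 := by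
      by_contra h2
      rw [adj_wedge hG] at hodd
      refine (LowType.ne_zero hG (T := wedge G c e) (Or.inr ⟨c, e, hce, hind, hc, rfl⟩)) ?_
      rw [← add_eq_zero_iff_eq_neg, ← two_smul F] at hodd
      exact (smul_eq_zero.mp hodd).resolve_left h2
    have hm' := hm6 h2
    have he0 : e ≠ 0 := fun h0 => hind 0 (by rw [zero_smul, h0])
    obtain ⟨f, hf1, hf2⟩ := exists_dot_eq_zero_one (a := G *ᵥ e) (b := G *ᵥ c) (hG.axis_indep fun k hk => by
      rcases eq_or_ne k 0 with rfl | hk0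
      · exact hc (by rw [← hk, zero_smul])
      · exact hind k⁻¹ (by rw [← hk, smul_smul, inv_mul_cancel₀ hk0, one_smul]))
    rw [axis_dot] at hf1 hf2
    have hcf : om G c f = -1 := by rw [hG.skew, hf2]
    have hef : om G e f = 0 := hG.axis_zero_iff.mp hf1
    obtain ⟨e', he'1, he'2⟩ := exists_dot_eq_zero_one (a := G *ᵥ f) (b := G *ᵥ e) (hG.axis_indep fun k hk => by
      have := congrArg (fun v => om G c v) hk
      simp only [om_smul_right, hcf, hce, mul_neg_one, neg_eq_zero] at this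
      exact he0 (by rw [← hk, this, zero_smul]))
    rw [axis_dot] at he'1 he'2
    let fn : (Fin m → F) →ₗ[F] (Fin 4 → F) :=
      { toFun := fun x => ![(G *ᵥ c) ⬝ᵥ x, (G *ᵥ e) ⬝ᵥ x, (G *ᵥ f) ⬝ᵥ x, (G *ᵥ e') ⬝ᵥ x]
        map_add' := fun x y => by funext q; fin_cases q <;> simp [dotProduct_add]
        map_smul' := fun k x => by funext q; fin_cases q <;> simp [dotProduct_smul] }
    obtain ⟨g0, hg, hg0⟩ := Submodule.exists_mem_ne_zero_of_ne_bot (LinearMap.ker_ne_bot_of_finrank_lt (f := fn)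
      (by rw [Module.finrank_fin_fun, Module.finrank_fin_fun]; omega))
    have k1 : om G g0 c = 0 := by rw [← axis_dot]; exact congrFun hg 0
    have k2 : om G g0 e = 0 := by rw [← axis_dot]; exact congrFun hg 1
    have k3 : om G g0 f = 0 := by rw [← axis_dot]; exact congrFun hg 2
    have k4 : om G g0 e' = 0 := by rw [← axis_dot]; exact congrFun hg 3
    set g := e + g0 with hgdef
    have g1 : om G g c = 0 := by rw [hgdef, om_add_left, k1, hG.axis_zero_iff.mp hce, add_zero]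
    have g2 : om G g e = 0 := by rw [hgdef, om_add_left, k2, hG.self, add_zero]
    have g3 : om G g f = 0 := by rw [hgdef, om_add_left, k3, hef, add_zero]
    have hee' : om G e e' = -1 := by rw [hG.skew, he'2]
    have g4 : om G g e' = -1 := by rw [hgdef, om_add_left, k4, hee', add_zero]
    obtain ⟨t1, ht1, ht1c, hfix1⟩ := hG.exists_move (c := c) (f := f) (by rw [hcf]; exact neg_ne_zero.mpr one_ne_zero)
    obtain ⟨t2, ht2, ht2e, hfix2⟩ := hG.exists_move (c := e) (f := e') (by rw [hee']; exact neg_ne_zero.mpr one_ne_zero)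
    obtain ⟨t3, ht3, ht3e, hfix3⟩ := hG.exists_move (c := e') (f := g)
      (by rw [hG.skew, g4, neg_neg]; exact one_ne_zero)
    have osub : ∀ a b x, om G x (a - b) = om G x a - om G x b := fun a b x => by
      rw [sub_eq_add_neg, ← neg_one_smul F b, om_add_right, om_smul_right]; ring
    have hfe' : om G f e' = 0 := hG.axis_zero_iff.mp he'1
    have hfe : om G f e = 0 := hf1
    have hfg : om G f g = 0 := hG.axis_zero_iff.mp g3
    have hmc : ((t3 * (t2 * t1) : GL (Fin m) F) : Matrix (Fin m) (Fin m) F) *ᵥ c = f := by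
      rw [Units.val_mul, Units.val_mul, ← mulVec_mulVec, ← mulVec_mulVec, ht1c, hfix2 f (by rw [osub, hfe', hfe, sub_zero]),
        hfix3 f (by rw [osub, hfg, hfe', sub_zero])]
    have hme : ((t3 * (t2 * t1) : GL (Fin m) F) : Matrix (Fin m) (Fin m) F) *ᵥ e = g := by
      rw [Units.val_mul, Units.val_mul, ← mulVec_mulVec, ← mulVec_mulVec,
        hfix1 e (by rw [osub, hef, hG.axis_zero_iff.mp hce, sub_zero]), ht2e, ht3e]
    have hh : t3 * (t2 * t1) ∈ spG G := (spG G).mul_mem ht3 ((spG G).mul_mem ht2 ht1)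
    have hge : ∀ k : F, k • (G *ᵥ e) ≠ G *ᵥ g := hG.axis_indep fun k hk => by
      have := congrArg (fun v => om G v e') hk
      simp only [om_smul_left, hee', g4, mul_neg_one, neg_inj] at this
      exact hg0 (by rw [this, one_smul, hgdef, left_eq_add] at hk; exact hk)
    obtain ⟨z, hz1, hz2⟩ := exists_dot_eq_zero_one hge
    rw [axis_dot] at hz1 hz2
    refine ⟨t3 * (t2 * t1), hh, ⟨e, he0, by rw [wedge_mulVec, hG.self, hG.axis_zero_iff.mp hce, zero_smul, zero_smul, sub_zero],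
      by rw [conj_wedge hh, hmc, hme, wedge_mulVec, hG.axis_zero_iff.mp g2, hef, zero_smul, zero_smul, sub_zero]⟩,
      z, ?_, ?_⟩
    · rw [conj_wedge hh, hmc, hme, ← mulVec_mulVec, wedge_mulVec G f g z, hz2, one_smul, mulVec_sub, mulVec_smul,
        wedge_mulVec, wedge_mulVec, hf1, hf2, g1, g2]
      simp [he0]
    · rw [conj_wedge hh, hmc, hme, ← mulVec_mulVec, wedge_mulVec G c e z, hz1, zero_smul, zero_sub, mulVec_neg, mulVec_smul,
        wedge_mulVec, hG.axis_zero_iff.mp g2, hef]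
      simp

/-- Pure nilpotent products are not compatible with scalar symmetrised products. -/
theorem pure_contra (hm : 4 ≤ m) (hm6 : (2 : F) = 0 → 6 ≤ m) (hG : SpForm G)
    {V : Submodule F (Matrix (ι → Fin m) (ι → Fin m) F)} (hV : InvSub G V)
    (h1 : ∀ K ∈ V, ∃ s : F, K + adj (gram ι G) K = s • 1)
    (h2 : ∀ K ∈ V, ∀ K' ∈ V, ∃ s : F, K * adj (gram ι G) K' + K' * adj (gram ι G) K = s • 1)
    {gs : ι → Matrix (Fin m) (Fin m) F} (hP : Pt gs ∈ V) (hty : ∀ k, gs k = 1 ∨ LowType G (gs k))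
    (hne : ∃ k, gs k ≠ 1) : False := by
  classical
  have : NeZero m := ⟨by omega⟩
  obtain ⟨k₁, hk₁⟩ := hne
  have hT₁ := (hty k₁).resolve_left hk₁
  have h0 : ∀ k, gs k ≠ 0 := fun k => by
    rcases hty k with h | h
    · rw [h]; exact one_ne_zero
    · exact h.ne_zero hG
  -- signs
  have hsgn : ∀ k, ∃ ε : F, (ε = 1 ∨ ε = -1) ∧ adj G (gs k) = ε • gs k := fun k => by
    rcases hty k with h | ⟨c, -, -, h⟩ | ⟨c, e, -, -, -, h⟩
    · exact ⟨1, Or.inl rfl, by rw [h, adj_one hG.det, one_smul]⟩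
    · exact ⟨-1, Or.inr rfl, by rw [h, adj_cen hG, neg_one_smul]⟩
    · exact ⟨1, Or.inl rfl, by rw [h, adj_wedge hG, one_smul]⟩
  choose ε hε hadj using hsgn
  have hadjP : adj (gram ι G) (Pt gs) = (∏ k, ε k) • Pt gs := by
    rw [adj_Pt hG, ← Pt_smul]; simp only [hadj]
  have hprod : (∏ k, ε k) = 1 ∨ (∏ k, ε k) = -1 :=
    Finset.prod_induction ε (fun x => x = 1 ∨ x = -1)
      (by rintro a b (rfl | rfl) (rfl | rfl) <;> simp) (Or.inl rfl) fun k _ => hε k
  have hkill := hT₁.kills hG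
  obtain ⟨x₁, hx₁, hx₁'⟩ := hkill
  have hm1 : (∏ k, ε k) = -1 := by
    rcases hprod with h | h
    · by_cases h2' : (2 : F) = 0
      · rw [h]; exact (neg_eq_of_add_eq_zero_left (by rw [one_add_one_eq_two]; exact h2')).symm
      · obtain ⟨s, hs⟩ := h1 _ hP
        rw [hadjP, h, one_smul, ← two_smul F] at hs
        exfalso
        refine Pt_ne_scalar h0 hx₁ hx₁' ((2 : F)⁻¹ * s) ?_
        rw [← smul_smul, ← hs, smul_smul, inv_mul_cancel₀ h2', one_smul]
    · exact h
  obtain ⟨k₀, hk₀, hodd⟩ : ∃ k₀, gs k₀ ≠ 1 ∧ adj G (gs k₀) = -gs k₀ := by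
    by_cases h2' : (2 : F) = 0
    · refine ⟨k₁, hk₁, ?_⟩
      have h21 : (-1 : F) = 1 := neg_eq_of_add_eq_zero_left (by rw [one_add_one_eq_two]; exact h2')
      rcases hε k₁ with h | h <;> rw [hadj, h, ← neg_one_smul F (gs k₁)]
      rw [h21]
    · by_contra hcon
      push Not at hcon
      have : ∀ k, ε k = 1 := fun k => (hε k).resolve_right fun h => by
        by_cases hk : gs k = 1
        · have h3 := hadj k
          rw [hk, adj_one hG.det, h, neg_one_smul, eq_neg_iff_add_eq_zero, ← two_smul F] at h3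
          exact (smul_eq_zero.mp h3).elim h2' one_ne_zero
        · exact hcon k hk (by rw [hadj, h, neg_one_smul])
      rw [Finset.prod_congr rfl fun k _ => this k, Finset.prod_const_one] at hm1
      exact h2' (by linear_combination hm1)
  obtain ⟨h₀, hh₀, ⟨x, hx, hxT, hxT'⟩, z₀, hz₀, hz₀'⟩ :=
    exists_separator hm hm6 hG ((hty k₀).resolve_left hk₀) hodd
  have hcomp : ∀ k, ∃ h ∈ spG G, ∃ z, (gs k * ((h : Matrix (Fin m) (Fin m) F) * gs k *
      ((h⁻¹ : GL (Fin m) F) : Matrix (Fin m) (Fin m) F))) *ᵥ z ≠ 0 := fun k => by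
    rcases hty k with h | h
    · refine ⟨1, (spG G).one_mem, (Pi.single 0 1 : Fin m → F), ?_⟩
      rw [h, inv_one, Units.val_one, Matrix.one_mul, Matrix.one_mul, Matrix.one_mul, one_mulVec]
      simp
    · exact exists_companion hm hG h
  choose hs hhs zs hzs using hcomp
  let hs' := Function.update hs k₀ h₀
  let zs' := Function.update zs k₀ z₀
  have hhs' : ∀ k, hs' k ∈ spG G := fun k => by
    rcases eq_or_ne k k₀ with rfl | hk
    · simp only [hs', Function.update_self]; exact hh₀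
    · simp only [hs', Function.update_of_ne hk]; exact hhs k
  set gs' : ι → Matrix (Fin m) (Fin m) F := fun k =>
    (hs' k : Matrix (Fin m) (Fin m) F) * gs k * (((hs' k)⁻¹ : GL (Fin m) F) : Matrix (Fin m) (Fin m) F) with hgs'
  have hP' : Pt gs' ∈ V := by
    have := hV.conj_Pt hhs' hP
    rw [← map_inv, PtG_val, PtG_val, Pt_mul, Pt_mul] at this
    exact this
  have hadjP' : adj (gram ι G) (Pt gs') = (∏ k, ε k) • Pt gs' := by
    rw [adj_Pt hG, ← Pt_smul]
    congr 1
    funext k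
    have hinv : adj G (((hs' k)⁻¹ : GL (Fin m) F) : Matrix (Fin m) (Fin m) F) = (hs' k : Matrix (Fin m) (Fin m) F) ∧
        adj G (hs' k : Matrix (Fin m) (Fin m) F) = (((hs' k)⁻¹ : GL (Fin m) F) : Matrix (Fin m) (Fin m) F) := by
      have key : ∀ h : GL (Fin m) F, h ∈ spG G →
          adj G (h : Matrix (Fin m) (Fin m) F) = ((h⁻¹ : GL (Fin m) F) : Matrix (Fin m) (Fin m) F) := by
        intro h hh
        refine (Units.inv_eq_of_mul_eq_one_left ?_).symm
        rw [adj, Matrix.mul_assoc, Matrix.mul_assoc, ← Matrix.mul_assoc _ G, mem_spG.mp hh,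
          nonsing_inv_mul G hG.det]
      exact ⟨by simpa using key _ ((spG G).inv_mem (hhs' k)), key _ (hhs' k)⟩
    have hmul : ∀ A B : Matrix (Fin m) (Fin m) F, adj G (A * B) = adj G B * adj G A := fun A B => by
      rw [adj, adj, adj, transpose_mul]
      simp only [Matrix.mul_assoc, mul_nonsing_inv_cancel_left G _ hG.det]
    simp only [hgs', hmul, hinv.1, hinv.2, hadj, Matrix.mul_smul, Matrix.smul_mul, Matrix.mul_assoc]
  obtain ⟨s, hs2⟩ := h2 _ hP _ hP'
  rw [hadjP, hadjP', hm1, neg_one_smul, neg_one_smul, mul_neg, mul_neg, Pt_mul, Pt_mul] at hs2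
  have hg0 : gs' k₀ = (h₀ : Matrix (Fin m) (Fin m) F) * gs k₀ *
      ((h₀⁻¹ : GL (Fin m) F) : Matrix (Fin m) (Fin m) F) := by simp [hgs', hs']
  -- the scalar is zero
  have hne1 : ∀ k, (gs k * gs' k) *ᵥ zs' k ≠ 0 := fun k => by
    rcases eq_or_ne k k₀ with rfl | hk
    · simp only [zs', Function.update_self, hg0]; exact hz₀
    · simp only [zs', Function.update_of_ne hk, hgs', hs']; exact hzs k
  have hzne : ∀ k, zs' k ≠ 0 := fun k e => hne1 k (by rw [e, mulVec_zero])
  have hs0 : s = 0 := by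
    have e := congrArg (· *ᵥ pten (Function.update zs' k₀ x)) hs2
    simp only [add_mulVec, neg_mulVec, Pt_mulVec_pten, smul_mulVec, one_mulVec, Pi.mul_apply] at e
    rw [pten_eq_zero.mpr ⟨k₀, ?_⟩, pten_eq_zero.mpr ⟨k₀, ?_⟩, neg_zero, zero_add] at e
    · refine (smul_eq_zero.mp e.symm).resolve_right (pten_ne_zero fun k => ?_)
      rcases eq_or_ne k k₀ with rfl | hk
      · rwa [Function.update_self]
      · rw [Function.update_of_ne hk]; exact hzne k
    · simp only [Function.update_self, ← mulVec_mulVec, hxT, mulVec_zero]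
    · simp only [Function.update_self, ← mulVec_mulVec, hg0, ← mulVec_mulVec] at hxT' ⊢
      rw [hxT', mulVec_zero]
  have e := congrArg (· *ᵥ pten zs') hs2
  simp only [hs0, zero_smul, zero_mulVec, add_mulVec, neg_mulVec, Pt_mulVec_pten, Pi.mul_apply] at e
  rw [pten_eq_zero (xs := fun k => (gs' k * gs k) *ᵥ zs' k) |>.mpr ⟨k₀, by
    simp only [zs', Function.update_self, hg0]; exact hz₀'⟩, neg_zero, add_zero, neg_eq_zero] at e
  exact pten_ne_zero hne1 e

end CfsgLib.TWSp
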