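import Cfsg.Agent.TensorWreathSp.PureContra

/-!
# The stabiliser of a block without central elements

If `M` has no non-scalar central element, an element of `M` stabilising a block is a root times an
element `A ⊗ S`.
-/

set_option autoImplicit false
set_option linter.unusedSectionVars false

namespace CfsgLib.TWSp

open Matrix CfsgLib.MaxSub CfsgLib.TWreath

variable {F : Type*} [Field F] {ι : Type} [Fintype ι] [DecidableEq ι] {m : ℕ}
  {G : Matrix (Fin m) (Fin m) F} {M : Subgroup (GL (ι → Fin m) F)} {i : ι} {c : Fin m → F}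

/-- A vector pairing to one with a non-zero vector. -/
theorem exists_dot_eq_one' {n : Type*} [Fintype n] [DecidableEq n] {x : n → F} (hx : x ≠ 0) :
    ∃ f : n → F, f ⬝ᵥ x = 1 := by
  obtain ⟨j, hj⟩ := Function.ne_iff.mp hx
  exact ⟨Pi.single j (x j)⁻¹, by rw [single_dotProduct]; exact inv_mul_cancel₀ hj⟩

/-- The standing hypotheses. -/
structure Setting (G : Matrix (Fin m) (Fin m) F) (M : Subgroup (GL (ι → Fin m) F)) : Prop where
  four : 4 ≤ m
  six : (2 : F) = 0 → 6 ≤ m
  form : SpForm G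
  sim : M ≤ gsim ι G
  factors : HasFactors G M
  noCen : NoCen G M

/-- The short element has the typed shape. -/
theorem hasBeta_short (hG : SpForm G) {e : Fin m → F} (he : om G e c = 0) {τ : GL (Fin m) F}
    (hτ : τ ∈ spG G) (hτv : (τ : Matrix (Fin m) (Fin m) F) = 1 + sh G c e) :
    HasBeta G i c (embG i τ) (fun y => om G y e • (1 : Matrix (Rest i m) (Rest i m) F)) where
  iso := isIso_embG i hτ
  zero := by rw [hG.axis_zero_iff.mp he, zero_smul]
  act y hy u := by
    rw [embG_val, emb_mulVec_lift, hτv, add_mulVec, one_mulVec, sh_mulVec, hy, zero_smul, add_zero,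
      lift_add_left, lift_smul_left, smul_mulVec, one_mulVec, map_smul]

/-- Conjugation by a factor element in the other factors. -/
theorem HasBeta.conj_rest {x : GL (ι → Fin m) F} {β : (Fin m → F) → Matrix (Rest i m) (Rest i m) F}
    (hx : HasBeta G i c x β) (l : {j // j ≠ i}) {h : GL (Fin m) F} (hh : h ∈ spG G) :
    HasBeta G i c (embG (l : ι) h * x * (embG (l : ι) h)⁻¹)
      (fun y => (embG l h : Matrix (Rest i m) (Rest i m) F) * β y *
        (((embG l h)⁻¹ : GL (Rest i m) F) : Matrix (Rest i m) (Rest i m) F)) := by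
  refine ⟨((isIso_embG _ hh).mul hx.iso).mul (isIso_embG _ hh).inv, by
    simp only [hx.zero, Matrix.mul_zero, Matrix.zero_mul], fun y hy u => ?_⟩
  rw [Units.val_mul, Units.val_mul, ← map_inv, ← map_inv, embG_val, embG_val, embG_val, embG_val,
    emb_rest i l, emb_rest i l, ← mulVec_mulVec, ← mulVec_mulVec, kr_mulVec_lift, one_mulVec, hx.act y hy,
    mulVec_add, kr_mulVec_lift, kr_mulVec_lift, one_mulVec, one_mulVec, mulVec_mulVec, ← emb_mul,
    Units.mul_inv, emb_one, one_mulVec, ← mulVec_mulVec, ← mulVec_mulVec]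

/-- The matrices occurring in typed elements of `M`. -/
def Typed (G : Matrix (Fin m) (Fin m) F) (M : Subgroup (GL (ι → Fin m) F)) (i : ι) (c a : Fin m → F)
    (K : Matrix (Rest i m) (Rest i m) F) : Prop :=
  ∃ x ∈ M, ∃ β, HasBeta G i c x β ∧ ∀ y, om G y c = 0 → β y = om G y a • K

namespace Setting

variable (hS : Setting G M)

include hS

theorem typed_smul (hc : c ≠ 0) {a : Fin m → F} (ha : om G a c = 0) (hind : ∀ k : F, k • c ≠ a)
    {K : Matrix (Rest i m) (Rest i m) F} (hK : Typed G M i c a K) (l : F) : Typed G M i c a (l • K) := by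
  have hG := hS.form
  rcases eq_or_ne l 0 with rfl | hl
  · exact ⟨1, M.one_mem, fun _ => 0, ⟨by rw [IsIso]; simp, rfl, fun y _ u => by simp⟩, fun y _ => by simp⟩
  obtain ⟨x, hx, β, hβ, hβK⟩ := hK
  obtain ⟨d, hd1, hd2⟩ := exists_dot_eq_zero_one (a := G *ᵥ a) (b := G *ᵥ c) (hG.axis_indep fun k hk => by
    rcases eq_or_ne k 0 with rfl | hk0
    · exact hc (by rw [← hk, zero_smul])
    · exact hind k⁻¹ (by rw [← hk, smul_smul, inv_mul_cancel₀ hk0, one_smul]))
  rw [axis_dot] at hd1 hd2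
  obtain ⟨T, hT, hTc, hTfix⟩ := exists_torus hG hd2 hl
  refine ⟨_, M.mul_mem (M.mul_mem (hS.factors i T hT) hx) (M.inv_mem (hS.factors i T hT)), _,
    hβ.conj hG hc hT hl hTc, fun y hy => ?_⟩
  set y' := ((T⁻¹ : GL (Fin m) F) : Matrix (Fin m) (Fin m) F) *ᵥ y with hy'
  have hTy : (T : Matrix (Fin m) (Fin m) F) *ᵥ y' = y := by rw [hy', mulVec_mulVec, Units.mul_inv, one_mulVec]
  have e1 : om G y' c = 0 := by
    have := om_of_mem_spG hT y' c
    rw [hTy, hTc, om_smul_right, hy, mul_zero] at this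
    exact this.symm
  have e2 : om G y' a = om G y a := by
    have := om_of_mem_spG hT y' a
    rw [hTy, hTfix a ha (hG.axis_zero_iff.mp hd1)] at this
    exact this.symm
  show l • β y' = _
  rw [hβK y' e1, e2, smul_comm]

/-- The span of the matrices of a fixed type. -/
def typedSub (hc : c ≠ 0) {a : Fin m → F} (ha : om G a c = 0) (hind : ∀ k : F, k • c ≠ a) :
    Submodule F (Matrix (Rest i m) (Rest i m) F) where
  carrier := {K | Typed G M i c a K}
  zero_mem' := ⟨1, M.one_mem, fun _ => 0, ⟨by rw [IsIso]; simp, rfl, fun y _ u => by simp⟩, fun y _ => by simp⟩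
  add_mem' := by
    rintro K K' ⟨x, hx, β, hβ, hK⟩ ⟨x', hx', β', hβ', hK'⟩
    exact ⟨x * x', M.mul_mem hx hx', _, hβ.mul hS.form hc hβ', fun y hy => by
      show β y + β' y = _
      rw [hK y hy, hK' y hy, smul_add]⟩
  smul_mem' l K hK := hS.typed_smul hc ha hind hK l

theorem typed_invSub (hc : c ≠ 0) {a : Fin m → F} (ha : om G a c = 0) (hind : ∀ k : F, k • c ≠ a) :
    InvSub G (hS.typedSub (i := i) hc ha hind) := by
  rintro l h hh K ⟨x, hx, β, hβ, hK⟩
  refine ⟨_, M.mul_mem (M.mul_mem (hS.factors l h hh) hx) (M.inv_mem (hS.factors l h hh)), _,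
    hβ.conj_rest l hh, fun y hy => ?_⟩
  simp only [hK y hy, Matrix.mul_smul, Matrix.smul_mul]

/-- Two typed matrices with non-orthogonal types. -/
theorem typed_comm (hc : c ≠ 0) {a a' : Fin m → F} (ha : om G a c = 0) (ha' : om G a' c = 0)
    (hne : om G a' a ≠ 0) {K K' : Matrix (Rest i m) (Rest i m) F} (hK : Typed G M i c a K)
    (hK' : Typed G M i c a' K') :
    ∃ s : F, K * adj (gram {j // j ≠ i} G) K' + K' * adj (gram {j // j ≠ i} G) K = s • 1 := by
  obtain ⟨x, hx, β, hβ, hβK⟩ := hK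
  obtain ⟨x', hx', β', hβ', hβK'⟩ := hK'
  obtain ⟨s, hs⟩ := hS.noCen i c hc _
    (M.mul_mem (M.mul_mem hx hx') (M.inv_mem (M.mul_mem hx' hx))) _
    (hβ.comm_typed hS.form hc ha ha' hβ' hβK hβK')
  exact ⟨(om G a' a)⁻¹ * s, by rw [← smul_smul, ← hs, smul_smul, inv_mul_cancel₀ hne, one_smul]⟩

/-- Typed matrices are scalar. -/
theorem typed_scalar (hc : c ≠ 0) {a : Fin m → F} (ha : om G a c = 0) (hind : ∀ k : F, k • c ≠ a)
    {K : Matrix (Rest i m) (Rest i m) F} (hK : Typed G M i c a K) : ∃ s : F, K = s • 1 := by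
  by_contra hcon
  push Not at hcon
  have hG := hS.form
  have hm := hS.four
  -- a second type
  obtain ⟨e, he1, he2⟩ := exists_dot_eq_zero_one (a := G *ᵥ c) (b := G *ᵥ a) (hG.axis_indep hind)
  rw [axis_dot] at he1 he2
  set a' := a - e with ha'def
  have hae : om G a e = -1 := by rw [hG.skew, he2]
  have ha' : om G a' c = 0 := by
    rw [ha'def, sub_eq_add_neg, ← neg_one_smul F e, om_add_left, om_smul_left, ha, he1]; ring
  have hne : om G a' a ≠ 0 := by
    rw [ha'def, sub_eq_add_neg, ← neg_one_smul F e, om_add_left, om_smul_left, hG.self, he2]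
    simp
  have htrans : ∀ K, Typed G M i c a K → Typed G M i c a' K := by
    rintro K ⟨x, hx, β, hβ, hβK⟩
    have hte : (spt G 1 e : Matrix (Fin m) (Fin m) F) *ᵥ c = (1 : F) • c := by
      rw [hG.spt_mulVec, hG.axis_zero_iff.mp he1, mul_zero, zero_smul, add_zero, one_smul]
    refine ⟨_, M.mul_mem (M.mul_mem (hS.factors i _ (hG.spt_mem 1 e)) hx)
      (M.inv_mem (hS.factors i _ (hG.spt_mem 1 e))), _, hβ.conj hG hc (hG.spt_mem 1 e) one_ne_zero hte,
      fun y hy => ?_⟩
    set y' := (((spt G 1 e)⁻¹ : GL (Fin m) F) : Matrix (Fin m) (Fin m) F) *ᵥ y with hy'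
    have hTy : (spt G 1 e : Matrix (Fin m) (Fin m) F) *ᵥ y' = y := by
      rw [hy', mulVec_mulVec, Units.mul_inv, one_mulVec]
    have hta : (spt G 1 e : Matrix (Fin m) (Fin m) F) *ᵥ a = a' := by
      rw [hG.spt_mulVec, hae, one_mul, neg_one_smul, ← sub_eq_add_neg]
    have e1 : om G y' c = 0 := by
      have := om_of_mem_spG (hG.spt_mem 1 e) y' c
      rw [hTy, hte, one_smul, hy] at this
      exact this.symm
    have e2 : om G y' a = om G y a' := by
      have := om_of_mem_spG (hG.spt_mem 1 e) y' a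
      rw [hTy, hta] at this
      exact this.symm
    show (1 : F) • β y' = _
    rw [one_smul, hβK y' e1, e2]
  obtain ⟨gs, hP, hty, hne1⟩ := lowering (by omega) hG _ {j // j ≠ i} rfl (hS.typedSub (i := i) hc ha hind)
    (hS.typed_invSub hc ha hind) K hK hcon
  refine pure_contra hm hS.six hG (hS.typed_invSub (i := i) hc ha hind) (fun L hL => ?_)
    (fun L hL L' hL' => hS.typed_comm hc ha ha' hne hL (htrans L' hL')) hP hty hne1
  obtain ⟨τ, hτ, hτv⟩ := exists_shG hG (c := c) (e := a') (hG.axis_zero_iff.mp ha')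
  obtain ⟨s, hs⟩ := hS.typed_comm (K' := 1) hc ha ha' hne hL
    ⟨_, hS.factors i τ hτ, _, hasBeta_short hG ha' hτ hτv, fun y _ => rfl⟩
  exact ⟨s, by rw [← hs, adj_one (gram_det_unit hG.det), Matrix.mul_one, Matrix.one_mul]⟩

/-- Unipotent elements of `M` at a block act by scalars. -/
theorem beta_scalar (hc : c ≠ 0) {x : GL (ι → Fin m) F} (hx : x ∈ M)
    {β : (Fin m → F) → Matrix (Rest i m) (Rest i m) F} (hβ : HasBeta G i c x β) {a : Fin m → F}
    (ha : om G a c = 0) : ∃ s : F, β a = s • 1 := by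
  have hG := hS.form
  by_cases hd : ∃ k : F, k • c = a
  · obtain ⟨k, rfl⟩ := hd
    exact ⟨0, by rw [hβ.map_smul' hG hc (hG.self c), hβ.zero, smul_zero, zero_smul]⟩
  push Not at hd
  have htc : (spt G 1 a : Matrix (Fin m) (Fin m) F) *ᵥ c = (1 : F) • c := by
    rw [hG.spt_mulVec, hG.axis_zero_iff.mp ha, mul_zero, zero_smul, add_zero, one_smul]
  obtain ⟨s, hs⟩ := hS.typed_scalar hc ha hd (K := -β a) (i := i) ⟨_,
    M.mul_mem (M.mul_mem (M.mul_mem (hS.factors i _ (hG.spt_mem 1 a)) hx)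
      (M.inv_mem (hS.factors i _ (hG.spt_mem 1 a)))) (M.inv_mem hx), _,
    (hβ.conj hG hc (hG.spt_mem 1 a) one_ne_zero htc).mul hG hc (hβ.inv hG hc), fun y hy => by
      have hinv : (((spt G 1 a)⁻¹ : GL (Fin m) F) : Matrix (Fin m) (Fin m) F) *ᵥ y = y + (-om G y a) • a := by
        refine mulVec_injective_iff_isUnit.mpr (spt G 1 a).isUnit ?_
        show (spt G 1 a : Matrix (Fin m) (Fin m) F) *ᵥ _ = (spt G 1 a : Matrix (Fin m) (Fin m) F) *ᵥ _
        rw [mulVec_mulVec, Units.mul_inv, one_mulVec, hG.spt_mulVec, om_add_left, om_smul_left, hG.self, mul_zero,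
          add_zero, one_mul, neg_smul, neg_add_cancel_right]
      show (1 : F) • β _ + -β y = _
      rw [one_smul, hinv, hβ.map_add' hG hc hy (by rw [om_smul_left, ha, mul_zero]), hβ.map_smul' hG hc ha,
        neg_smul, smul_neg]
      abel⟩
  exact ⟨-s, by rw [neg_smul, ← hs, neg_neg]⟩

set_option maxHeartbeats 1600000 in
/-- The shape of a stabiliser of a block. -/
theorem exists_shape {g : GL (ι → Fin m) F} (hg : g ∈ M) (hc : c ≠ 0)
    {ψ : Matrix (Rest i m) (Rest i m) F}
    (hψ : ∀ u, (g : Matrix (ι → Fin m) (ι → Fin m) F) *ᵥ lift i c u = lift i c (ψ *ᵥ u)) :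
    ∃ (T : Matrix (Fin m) (Fin m) F) (ρ ν : F), ρ ≠ 0 ∧ ν ≠ 0 ∧ Tᵀ * G * T = ρ • G ∧ T *ᵥ c = c ∧
      ψᵀ * gram {j // j ≠ i} G * ψ = ν • gram {j // j ≠ i} G ∧
      (g : Matrix (ι → Fin m) (ι → Fin m) F)ᵀ * gram ι G * g = (ρ * ν) • gram ι G ∧
      ∀ y, om G y c = 0 → ∀ u, ∃ w, (g : Matrix (ι → Fin m) (ι → Fin m) F) *ᵥ lift i y u =
        lift i (T *ᵥ y) (ψ *ᵥ u) + lift i c w := by
  classical
  have hG := hS.form
  have hm := hS.four
  have : NeZero m := ⟨by omega⟩
  obtain ⟨μ, hμ, hsim⟩ := mem_gsim.mp (hS.sim hg)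
  set gM := (g : Matrix (ι → Fin m) (ι → Fin m) F) with hgM
  set J := gram {j // j ≠ i} G
  have hJ : IsUnit J.det := gram_det_unit hG.det
  have hgi : Function.Injective gM.mulVec := mulVec_injective_iff_isUnit.mpr g.isUnit
  have hψi : Function.Injective ψ.mulVec := fun u v huv =>
    lift_injective (i := i) hc (hgi (by rw [hψ, hψ]; exact congrArg _ huv))
  have hψu : IsUnit ψ := mulVec_injective_iff_isUnit.mp hψi
  have hform : ∀ u v, (gM *ᵥ u) ⬝ᵥ gram ι G *ᵥ (gM *ᵥ v) = μ * (u ⬝ᵥ gram ι G *ᵥ v) := fun u v => by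
    have := congrArg (fun A => u ⬝ᵥ A *ᵥ v) hsim
    simp only [smul_mulVec, dotProduct_smul, smul_eq_mul] at this
    rw [← this, ← mulVec_mulVec, ← mulVec_mulVec, dotProduct_mulVec u, vecMul_transpose]
  have hperp : ∀ v, proj i (G *ᵥ c) v = 0 → proj i (G *ᵥ c) (gM *ᵥ v) = 0 := fun v hv => by
    refine eq_of_form_eq hJ fun u => ?_
    obtain ⟨u', rfl⟩ := (mulVec_surjective_iff_isUnit.mpr hψu) u
    rw [mulVec_zero, dotProduct_zero, ← neg_eq_zero, ← form_proj hG, ← hψ, hform, form_proj hG, hv, mulVec_zero,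
      dotProduct_zero, neg_zero, mul_zero]
  -- scalars
  have hlam : ∀ y, om G y c = 0 → ∀ e, om G e c = 0 →
      ∃ l : F, ∀ u, proj i (G *ᵥ e) (gM *ᵥ lift i y u) = l • (ψ *ᵥ u) := by
    intro y hy e he
    obtain ⟨τ, hτ, hτv⟩ := exists_shG hG (c := c) (e := e) (hG.axis_zero_iff.mp he)
    have hτb := hasBeta_short (i := i) hG he hτ hτv
    set x := g⁻¹ * embG i τ * g with hx
    let B : (Fin m → F) → Matrix (Rest i m) (Rest i m) F := fun z =>
      ψ⁻¹ * LinearMap.toMatrix' (proj i (G *ᵥ e) ∘ₗ gM.mulVecLin ∘ₗ lift i z)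
    have hB : ∀ z u, B z *ᵥ u = ψ⁻¹ *ᵥ proj i (G *ᵥ e) (gM *ᵥ lift i z u) := fun z u => by
      simp only [B, ← mulVec_mulVec, LinearMap.toMatrix'_mulVec]
      rfl
    have hψψ : ∀ u, ψ *ᵥ (ψ⁻¹ *ᵥ u) = u := fun u => by
      rw [mulVec_mulVec, mul_nonsing_inv ψ ((Matrix.isUnit_iff_isUnit_det ψ).mp hψu), one_mulVec]
    have hxb : HasBeta G i c x B := by
      refine ⟨?_, ?_, fun z hz u => hgi ?_⟩
      · have := isIso_conj ((gsim ι G).inv_mem (hS.sim hg)) (isIso_embG i hτ)
        rwa [inv_inv] at this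
      · refine Matrix.ext_of_mulVec_single fun q => ?_
        rw [hB, hψ, proj_lift, axis_dot, hG.axis_zero_iff.mp he, zero_smul, mulVec_zero, zero_mulVec]
      · show gM *ᵥ _ = gM *ᵥ _
        rw [hB, mulVec_add, hψ, hψψ, hgM, mulVec_mulVec, hx, ← Units.val_mul,
          show g * (g⁻¹ * embG i τ * g) = embG i τ * g by group, Units.val_mul, ← mulVec_mulVec, ← hgM,
          hτb.act_ortho hG hc (K := 1) (fun _ _ => rfl) (hperp _ (by rw [proj_lift, axis_dot, hz, zero_smul])),
          one_mulVec]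
    obtain ⟨l, hl⟩ := hS.beta_scalar hc (M.mul_mem (M.mul_mem (M.inv_mem hg) (hS.factors i τ hτ)) hg) hxb hy
    refine ⟨l, fun u => ?_⟩
    rw [← hψψ (proj i (G *ᵥ e) _), ← hB, hl, smul_mulVec, one_mulVec, mulVec_smul]
  -- the middle map
  set u0 : Rest i m → F := fun _ => 1 with hu0
  have hu00 : ψ *ᵥ u0 ≠ 0 := fun h => one_ne_zero (congrFun (hψi (h.trans (mulVec_zero ψ).symm)) fun _ => 0)
  obtain ⟨χ, hχ⟩ := exists_dot_eq_one' hu00
  let Z : (Fin m → F) →ₗ[F] (Fin m → F) :=
    { toFun := fun y q => χ ⬝ᵥ proj i (Pi.single q 1) (gM *ᵥ lift i y u0)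
      map_add' := fun y z => by
        funext q; rw [lift_add_left, mulVec_add, map_add, dotProduct_add]; rfl
      map_smul' := fun k y => by
        funext q; rw [lift_smul_left, mulVec_smul, map_smul, dotProduct_smul]; rfl }
  have hZax : ∀ y (φ : Fin m → F), φ ⬝ᵥ Z y = χ ⬝ᵥ proj i φ (gM *ᵥ lift i y u0) := fun y φ => by
    conv_rhs => rw [show φ = ∑ q, φ q • (Pi.single q 1 : Fin m → F) by
      funext r; simp [Finset.sum_apply, Pi.single_apply], proj_sum_axis, dotProduct_sum]
    refine Finset.sum_congr rfl fun q _ => ?_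
    rw [proj_smul_axis, dotProduct_smul]
    rfl
  have hZorth : ∀ y, om G y c = 0 → om G (Z y) c = 0 := fun y hy => by
    rw [← axis_dot, hZax, hperp _ (by rw [proj_lift, axis_dot, hy, zero_smul]), dotProduct_zero]
  have hshape : ∀ y, om G y c = 0 → ∀ u, ∃ w, gM *ᵥ lift i y u = lift i (Z y) (ψ *ᵥ u) + lift i c w := by
    intro y hy u
    have hmem : gM *ᵥ lift i y u - lift i (Z y) (ψ *ᵥ u) ∈ block i c := by
      refine mem_block_iff_proj.mpr fun φ hφ => ?_
      obtain ⟨e, rfl⟩ := hG.exists_axis φ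
      rw [axis_dot] at hφ
      obtain ⟨l, hl⟩ := hlam y hy e (hG.axis_zero_iff.mp hφ)
      rw [map_sub, proj_lift, hl, hZax, hl, dotProduct_smul, hχ, smul_eq_mul, mul_one, sub_self]
    obtain ⟨w, hw⟩ := exists_lift_of_mem_block hc hmem
    exact ⟨w, by rw [← hw, add_sub_cancel]⟩
  have hmid : ∀ y y', om G y c = 0 → om G y' c = 0 → ∀ u u',
      μ * (om G y y' * (u ⬝ᵥ J *ᵥ u')) = om G (Z y) (Z y') * ((ψ *ᵥ u) ⬝ᵥ J *ᵥ (ψ *ᵥ u')) := by
    intro y y' hy hy' u u'
    obtain ⟨w, hw⟩ := hshape y hy u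
    obtain ⟨w', hw'⟩ := hshape y' hy' u'
    rw [← form_lift, ← hform, hw, hw', mulVec_add, dotProduct_add, add_dotProduct, add_dotProduct, form_lift,
      form_lift, form_lift, form_lift, hG.self, hZorth y hy, hG.axis_zero_iff.mp (hZorth y' hy')]
    ring
  -- a hyperbolic pair orthogonal to `c`
  obtain ⟨d, hd⟩ := hG.exists_partner hc
  have hcd : om G c d = -1 := by rw [hG.skew, hd]
  let mid : (Fin m → F) →ₗ[F] (Fin m → F) :=
    { toFun := fun x => x + om G x d • c - om G x c • d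
      map_add' := fun x y => by simp only [om_add_left, add_smul]; abel
      map_smul' := fun k x => by simp only [om_smul_left, RingHom.id_apply, smul_add, smul_sub, smul_smul] }
  have hmid1 : ∀ x, om G (mid x) c = 0 ∧ om G (mid x) d = 0 := fun x => by
    constructor <;>
      · show om G (x + om G x d • c - om G x c • d) _ = 0
        rw [sub_eq_add_neg, ← neg_smul, om_add_left, om_add_left, om_smul_left, om_smul_left]
        simp only [hG.self, hd, hcd]
        ring
  have hsplit : ∀ x, x = mid x + (-om G x d) • c + om G x c • d := fun x => by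
    show x = x + om G x d • c - om G x c • d + _ + _
    rw [neg_smul]; abel
  obtain ⟨y1, hy1, hy10⟩ : ∃ y, (om G y c = 0 ∧ om G y d = 0) ∧ y ≠ 0 := by
    let fn : (Fin m → F) →ₗ[F] (Fin 2 → F) :=
      { toFun := fun x => ![(G *ᵥ c) ⬝ᵥ x, (G *ᵥ d) ⬝ᵥ x]
        map_add' := fun x y => by funext q; fin_cases q <;> simp [dotProduct_add]
        map_smul' := fun k x => by funext q; fin_cases q <;> simp [dotProduct_smul] }
    obtain ⟨x, hx, hx0⟩ := Submodule.exists_mem_ne_zero_of_ne_bot (LinearMap.ker_ne_bot_of_finrank_lt (f := fn)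
      (by rw [Module.finrank_fin_fun, Module.finrank_fin_fun]; omega))
    exact ⟨x, ⟨by rw [← axis_dot]; exact congrFun hx 0, by rw [← axis_dot]; exact congrFun hx 1⟩, hx0⟩
  obtain ⟨z, hz⟩ := hG.exists_partner hy10
  have h12 : om G (mid z) y1 = 1 := by
    show om G (z + om G z d • c - om G z c • d) y1 = 1
    rw [sub_eq_add_neg, ← neg_smul, om_add_left, om_add_left, om_smul_left, om_smul_left, hz,
      hG.axis_zero_iff.mp hy1.1, hG.axis_zero_iff.mp hy1.2]
    ring
  set a := om G (Z (mid z)) (Z y1) with hadef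
  obtain ⟨v0, hv0⟩ : ∃ v0, u0 ⬝ᵥ J *ᵥ v0 = 1 := by
    have hu : u0 ≠ 0 := fun h => one_ne_zero (congrFun h fun _ => 0)
    obtain ⟨f, hf⟩ := exists_dot_eq_one' hu
    exact ⟨J⁻¹ *ᵥ f, by rw [mulVec_mulVec, mul_nonsing_inv J hJ, one_mulVec, dotProduct_comm, hf]⟩
  have ha0 : a ≠ 0 := fun h0 => by
    have := hmid _ _ (hmid1 z).1 hy1.1 u0 v0
    rw [h12, ← hadef, h0, hv0, zero_mul, one_mul, mul_one] at this
    exact hμ this
  set ν := μ / a with hν
  have hν0 : ν ≠ 0 := div_ne_zero hμ ha0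
  have hψsim : ∀ u u', (ψ *ᵥ u) ⬝ᵥ J *ᵥ (ψ *ᵥ u') = ν * (u ⬝ᵥ J *ᵥ u') := fun u u' => by
    have := hmid _ _ (hmid1 z).1 hy1.1 u u'
    rw [h12, ← hadef, one_mul] at this
    rw [hν, div_mul_eq_mul_div, this, mul_div_cancel_left₀ _ ha0]
  have hZsim : ∀ y y', om G y c = 0 → om G y' c = 0 → om G (Z y) (Z y') = a * om G y y' := fun y y' hy hy' => by
    have := hmid y y' hy hy' u0 v0
    rw [hψsim, hv0, mul_one, mul_one] at this
    rw [hν, ← mul_div_assoc, eq_div_iff ha0] at this
    exact mul_right_cancel₀ hμ (by linear_combination -this)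
  let T : (Fin m → F) →ₗ[F] (Fin m → F) :=
    { toFun := fun x => (-om G x d) • c + (a * om G x c) • d + (Z (mid x) + om G (Z (mid x)) d • c)
      map_add' := fun x y => by simp only [map_add, om_add_left, neg_add, mul_add, add_smul]; abel
      map_smul' := fun k x => by
        simp only [map_smul, om_smul_left, RingHom.id_apply]
        funext q
        simp only [Pi.add_apply, Pi.smul_apply, smul_eq_mul]
        ring }
  have hZ' : ∀ x, om G (Z (mid x) + om G (Z (mid x)) d • c) c = 0 ∧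
      om G (Z (mid x) + om G (Z (mid x)) d • c) d = 0 := fun x => by
    constructor
    · rw [om_add_left, om_smul_left, hG.self, hZorth _ (hmid1 x).1]; ring
    · rw [om_add_left, om_smul_left, hcd]; ring
  have hTom : ∀ x x', om G (T x) (T x') = a * om G x x' := fun x x' => by
    have e1 : om G x x' = om G (mid x) (mid x') + om G x d * om G x' c - om G x c * om G x' d := by
      show _ = om G (x + om G x d • c - om G x c • d) (x' + om G x' d • c - om G x' c • d) + _ - _
      simp only [sub_eq_add_neg, ← neg_smul, om_add_left, om_add_right, om_smul_left, om_smul_right, hG.self c,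
        hG.self d, hd, hcd]
      rw [hG.skew x' c, hG.skew x' d]
      ring
    have e2 := hZsim _ _ (hmid1 x).1 (hmid1 x').1
    show om G ((-om G x d) • c + (a * om G x c) • d + (Z (mid x) + om G (Z (mid x)) d • c))
      ((-om G x' d) • c + (a * om G x' c) • d + (Z (mid x') + om G (Z (mid x')) d • c)) = _
    simp only [om_add_left, om_add_right, om_smul_left, om_smul_right, hG.self c, hG.self d, hd, hcd,
      hZorth _ (hmid1 x).1, hG.axis_zero_iff.mp (hZorth _ (hmid1 x').1), e2]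
    rw [e1, hG.skew (Z (mid x')) d]
    ring
  have hTc : T c = c := by
    show (-om G c d) • c + (a * om G c c) • d + (Z (mid c) + om G (Z (mid c)) d • c) = c
    have hm0 : mid c = 0 := by
      show c + om G c d • c - om G c c • d = 0
      rw [hcd, hG.self, zero_smul, sub_zero, neg_one_smul, add_neg_cancel]
    rw [hm0, map_zero, hcd, hG.self, neg_neg, one_smul, mul_zero, zero_smul]
    simp [om]
  refine ⟨LinearMap.toMatrix' T, a, ν, ha0, hν0, ?_, by rw [LinearMap.toMatrix'_mulVec, hTc], ?_,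
    by rw [hν, mul_div_cancel₀ _ ha0]; exact hsim, fun y hy u => ?_⟩
  · ext p q
    have := hTom (Pi.single p 1) (Pi.single q 1)
    rw [om, om, ← LinearMap.toMatrix'_mulVec T, ← LinearMap.toMatrix'_mulVec T, mulVec_mulVec, dotProduct_comm,
      dotProduct_mulVec, ← mulVec_transpose, mulVec_mulVec, dotProduct_comm] at this
    simpa [single_dotProduct, mulVec_single, transpose_mul, Matrix.mul_assoc] using this
  · ext p q
    have := hψsim (Pi.single p 1) (Pi.single q 1)
    rw [mulVec_mulVec, dotProduct_comm, dotProduct_mulVec, ← mulVec_transpose, mulVec_mulVec, dotProduct_comm] at this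
    simpa [single_dotProduct, mulVec_single, transpose_mul, Matrix.mul_assoc] using this
  · obtain ⟨w, hw⟩ := hshape y hy u
    -- `T y` and `Z y` differ by a multiple of `c`
    have hyd : y = mid y + (-om G y d) • c := by
      conv_lhs => rw [hsplit y, hy, zero_smul, add_zero]
    have hZc : Z c = c := by
      funext q
      show χ ⬝ᵥ proj i (Pi.single q 1) (gM *ᵥ lift i c u0) = c q
      rw [hψ, proj_lift, single_dotProduct, one_mul, dotProduct_smul, hχ, smul_eq_mul, mul_one]
    have hTy : T y = Z y + om G (Z (mid y)) d • c := by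
      show (-om G y d) • c + (a * om G y c) • d + (Z (mid y) + om G (Z (mid y)) d • c) = _
      conv_rhs => rw [hyd, map_add, map_smul, hZc]
      rw [hy, mul_zero, zero_smul, ← hyd]
      abel
    refine ⟨w - om G (Z (mid y)) d • (ψ *ᵥ u), ?_⟩
    rw [hw, LinearMap.toMatrix'_mulVec, hTy, lift_add_left, lift_smul_left, map_sub, map_smul]
    abel

set_option maxHeartbeats 3200000 in
/-- An element stabilising a block is a root times a split element. -/
theorem split_of_stab {g : GL (ι → Fin m) F} (hg : g ∈ M) (hgW : g ∉ wreath ι m F) (hc : c ≠ 0)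
    (h : (block i c).map (Matrix.mulVecLin (g : Matrix (ι → Fin m) (ι → Fin m) F)) ≤ block i c) :
    ∃ x ∈ M, x ∉ wreath ι m F ∧ ∃ (A : Matrix (Fin m) (Fin m) F) (S : Matrix (Rest i m) (Rest i m) F),
      (x : Matrix (ι → Fin m) (ι → Fin m) F) = kr i A S := by
  classical
  have hG := hS.form
  have hm := hS.four
  have : NeZero m := ⟨by omega⟩
  set J := gram {j // j ≠ i} G
  have hJ : IsUnit J.det := gram_det_unit hG.det
  choose f hf using fun u => exists_lift_of_mem_block hc (h ⟨_, lift_mem_block i c u, rfl⟩)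
  simp only [mulVecLin_apply] at hf
  let Ψ : (Rest i m → F) →ₗ[F] (Rest i m → F) :=
    { toFun := f
      map_add' := fun u v => lift_injective (i := i) hc (by
        rw [map_add (lift i c), ← hf, ← hf, ← hf, map_add, mulVec_add])
      map_smul' := fun k u => lift_injective (i := i) hc (by
        rw [map_smul (lift i c), ← hf, RingHom.id_apply, ← hf, map_smul, mulVec_smul]) }
  set ψ := LinearMap.toMatrix' Ψ with hψdef
  have hψ : ∀ u, (g : Matrix (ι → Fin m) (ι → Fin m) F) *ᵥ lift i c u = lift i c (ψ *ᵥ u) := fun u => by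
    rw [hψdef, LinearMap.toMatrix'_mulVec]; exact hf u
  obtain ⟨T, ρ, ν, hρ, hν, hT, hTc, hψJ, hgJ, hshape⟩ := hS.exists_shape hg hc hψ
  have hTu : IsUnit T := (Matrix.isUnit_iff_isUnit_det T).mpr (by
    have := congrArg Matrix.det hT
    rw [det_mul, det_mul, det_transpose, det_smul] at this
    refine isUnit_iff_ne_zero.mpr fun h0 => ?_
    rw [h0, mul_zero] at this
    exact mul_ne_zero (pow_ne_zero _ hρ) hG.det.ne_zero this.symm)
  have hψu : IsUnit ψ := (Matrix.isUnit_iff_isUnit_det ψ).mpr (by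
    have := congrArg Matrix.det hψJ
    rw [det_mul, det_mul, det_transpose, det_smul] at this
    refine isUnit_iff_ne_zero.mpr fun h0 => ?_
    rw [h0, mul_zero] at this
    exact mul_ne_zero (pow_ne_zero _ hν) hJ.ne_zero this.symm)
  obtain ⟨T', rfl⟩ := hTu
  obtain ⟨ψ', hψ'⟩ := hψu
  let P : GL (ι → Fin m) F := ⟨kr i T' ψ', kr i ((T'⁻¹ : GL (Fin m) F) : Matrix (Fin m) (Fin m) F)
      ((ψ'⁻¹ : GL (Rest i m) F) : Matrix (Rest i m) (Rest i m) F),
    by rw [kr_mul, Units.mul_inv, Units.mul_inv, kr_one],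
    by rw [kr_mul, Units.inv_mul, Units.inv_mul, kr_one]⟩
  have hPv : (P : Matrix (ι → Fin m) (ι → Fin m) F) = kr i (T' : Matrix (Fin m) (Fin m) F) ψ := by
    rw [← hψ']
  have hPJ : (P : Matrix (ι → Fin m) (ι → Fin m) F)ᵀ * gram ι G * P = (ρ * ν) • gram ι G := by
    rw [hPv, gram_eq_kr G i, kr_transpose, kr_mul, kr_mul, hT, hψJ, kr_smul_left, kr_smul_right, smul_smul]
  set z := g * P⁻¹ with hz
  have hgz : g = z * P := by rw [hz, inv_mul_cancel_right]
  have hziso : IsIso G z := by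
    have h1 := hgJ
    rw [hgz, Units.val_mul, transpose_mul, ← hPJ] at h1
    have h2 := congrArg (fun A => ((P⁻¹ : GL (ι → Fin m) F) : Matrix (ι → Fin m) (ι → Fin m) F)ᵀ * A *
      ((P⁻¹ : GL (ι → Fin m) F) : Matrix (ι → Fin m) (ι → Fin m) F)) h1
    simp only [Matrix.mul_assoc] at h2
    rw [Units.mul_inv, Matrix.mul_one, Matrix.mul_one, ← Matrix.mul_assoc _ ((P : Matrix (ι → Fin m) (ι → Fin m) F)ᵀ),
      ← transpose_mul, Units.mul_inv, transpose_one, Matrix.one_mul, ← Matrix.mul_assoc _ ((P : Matrix (ι → Fin m) (ι → Fin m) F)ᵀ),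
      ← transpose_mul, Units.mul_inv, transpose_one, Matrix.one_mul] at h2
    show _ = _
    simpa only [Matrix.mul_assoc] using h2
  obtain ⟨χ, hχ⟩ := exists_dot_eq_one' hc
  let β : (Fin m → F) → Matrix (Rest i m) (Rest i m) F := fun y =>
    LinearMap.toMatrix' (proj i χ ∘ₗ ((z : Matrix (ι → Fin m) (ι → Fin m) F) - 1).mulVecLin ∘ₗ lift i y)
  have hact : ∀ y, om G y c = 0 → ∀ u, ∃ w, (z : Matrix (ι → Fin m) (ι → Fin m) F) *ᵥ lift i y u =
      lift i y u + lift i c w := by
    intro y hy u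
    set y' := ((T'⁻¹ : GL (Fin m) F) : Matrix (Fin m) (Fin m) F) *ᵥ y with hy'
    set u' := ((ψ'⁻¹ : GL (Rest i m) F) : Matrix (Rest i m) (Rest i m) F) *ᵥ u with hu'
    have hy'' : (T' : Matrix (Fin m) (Fin m) F) *ᵥ y' = y := by rw [hy', mulVec_mulVec, Units.mul_inv, one_mulVec]
    have hu'' : ψ *ᵥ u' = u := by rw [← hψ', hu', mulVec_mulVec, Units.mul_inv, one_mulVec]
    have hyc : om G y' c = 0 := by
      have h1 := congrArg (fun A => y' ⬝ᵥ A *ᵥ c) hT
      simp only [smul_mulVec, dotProduct_smul, smul_eq_mul] at h1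
      rw [← mulVec_mulVec, ← mulVec_mulVec, dotProduct_mulVec y', vecMul_transpose, hy'', hTc] at h1
      rw [show y ⬝ᵥ G *ᵥ c = 0 from hy, eq_comm, mul_eq_zero] at h1
      exact h1.resolve_left hρ
    obtain ⟨w, hw⟩ := hshape y' hyc u'
    refine ⟨w, ?_⟩
    rw [hgz, Units.val_mul, ← mulVec_mulVec, hPv, kr_mulVec_lift, hy'', hu''] at hw
    exact hw
  have hzc : ∀ u, (z : Matrix (ι → Fin m) (ι → Fin m) F) *ᵥ lift i c u = lift i c u := fun u => by
    obtain ⟨v, rfl⟩ := (mulVec_surjective_iff_isUnit.mpr ⟨ψ', hψ'⟩) u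
    have := hψ v
    rwa [hgz, Units.val_mul, ← mulVec_mulVec, hPv, kr_mulVec_lift, hTc] at this
  have hzb : HasBeta G i c z β := by
    refine ⟨hziso, Matrix.ext_of_mulVec_single fun q => ?_, fun y hy u => ?_⟩
    · rw [LinearMap.toMatrix'_mulVec]
      simp only [LinearMap.coe_comp, Function.comp_apply, mulVecLin_apply, sub_mulVec, one_mulVec, hzc, sub_self, map_zero]
      rw [← mulVecLin_apply]; simp
    · obtain ⟨w, hw⟩ := hact y hy u
      rw [LinearMap.toMatrix'_mulVec]
      simp only [LinearMap.coe_comp, Function.comp_apply, mulVecLin_apply, sub_mulVec, one_mulVec, hw,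
        add_sub_cancel_left, proj_lift, hχ, one_smul]
  have hzh : ∀ k ∈ spG G, z * embG i k * z⁻¹ ∈ M := by
    intro k hk
    set k' : GL (Fin m) F := T'⁻¹ * k * T' with hk'
    have hkG : k' ∈ spG G := mem_spG_of_om fun x y => by
      have hTom : ∀ a b, om G ((T' : Matrix (Fin m) (Fin m) F) *ᵥ a) ((T' : Matrix (Fin m) (Fin m) F) *ᵥ b) =
          ρ * om G a b := fun a b => by
        have h1 := congrArg (fun A => a ⬝ᵥ A *ᵥ b) hT
        simp only [smul_mulVec, dotProduct_smul, smul_eq_mul] at h1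
        rw [om, om, ← h1, ← mulVec_mulVec, ← mulVec_mulVec, dotProduct_mulVec a, vecMul_transpose]
      refine mul_left_cancel₀ hρ ?_
      rw [← hTom, ← hTom, hk', Units.val_mul, Units.val_mul, mulVec_mulVec, mulVec_mulVec, ← Matrix.mul_assoc,
        ← Matrix.mul_assoc, Units.mul_inv, Matrix.one_mul, ← mulVec_mulVec, ← mulVec_mulVec, om_of_mem_spG hk]
    have hcomm : P * embG i k' = embG i k * P := Units.ext (by
      rw [Units.val_mul, Units.val_mul, embG_val, embG_val, hPv, emb_eq_kr, emb_eq_kr, kr_mul, kr_mul, Matrix.mul_one,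
        Matrix.one_mul, ← Units.val_mul, ← Units.val_mul, hk', mul_assoc, mul_inv_cancel_left])
    have he : z * embG i k * z⁻¹ = g * embG i k' * g⁻¹ := by
      rw [hz]
      calc g * P⁻¹ * embG i k * (g * P⁻¹)⁻¹ = g * (P⁻¹ * (embG i k * P)) * g⁻¹ := by group
        _ = g * embG i k' * g⁻¹ := by rw [← hcomm, inv_mul_cancel_left]
    rw [he]
    exact M.mul_mem (M.mul_mem hg (hS.factors i k' hkG)) (M.inv_mem hg)
  -- `β` is scalar
  have hbs : ∀ a, om G a c = 0 → ∃ s : F, β a = s • 1 := by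
    intro a ha
    by_cases hd : ∃ k : F, k • c = a
    · obtain ⟨k, rfl⟩ := hd
      exact ⟨0, by rw [hzb.map_smul' hG hc (hG.self c), hzb.zero, smul_zero, zero_smul]⟩
    push Not at hd
    have hac : om G c a = 0 := hG.axis_zero_iff.mp ha
    have htc : (spt G 1 a : Matrix (Fin m) (Fin m) F) *ᵥ c = (1 : F) • c := by
      rw [hG.spt_mulVec, hac, mul_zero, zero_smul, add_zero, one_smul]
    obtain ⟨y, hy1, hy2⟩ := exists_dot_eq_zero_one (a := G *ᵥ c) (b := G *ᵥ a) (hG.axis_indep hd)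
    rw [axis_dot] at hy1 hy2
    have hkb := hzb.mul hG hc ((hzb.inv hG hc).conj hG hc (hG.spt_mem 1 a) one_ne_zero htc)
    have hkM : z * (embG i (spt G 1 a) * z⁻¹ * (embG i (spt G 1 a))⁻¹) ∈ M := by
      rw [← mul_assoc, ← mul_assoc]
      exact M.mul_mem (hzh _ (hG.spt_mem 1 a)) (M.inv_mem (hS.factors i _ (hG.spt_mem 1 a)))
    obtain ⟨s, hs⟩ := hS.beta_scalar hc hkM hkb hy1
    refine ⟨s, ?_⟩
    have hinv : (((spt G 1 a)⁻¹ : GL (Fin m) F) : Matrix (Fin m) (Fin m) F) *ᵥ y = y + (-1 : F) • a := by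
      refine mulVec_injective_iff_isUnit.mpr (spt G 1 a).isUnit ?_
      show (spt G 1 a : Matrix (Fin m) (Fin m) F) *ᵥ _ = (spt G 1 a : Matrix (Fin m) (Fin m) F) *ᵥ _
      rw [mulVec_mulVec, Units.mul_inv, one_mulVec, hG.spt_mulVec, om_add_left, om_smul_left, hG.self, hy2,
        mul_zero, add_zero, one_mul, one_smul, neg_one_smul, neg_add_cancel_right]
    rw [← hs, one_smul, hinv, hzb.map_add' hG hc hy1 (by rw [om_smul_left, ha, mul_zero]),
      hzb.map_smul' hG hc ha, neg_one_smul]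
    abel
  choose! lam hlam using hbs
  obtain ⟨d, hd⟩ := hG.exists_partner hc
  set r0 : Rest i m := fun _ => 0
  let mid : (Fin m → F) →ₗ[F] (Fin m → F) :=
    { toFun := fun x => x - om G x c • d
      map_add' := fun x y => by simp only [om_add_left, add_smul]; abel
      map_smul' := fun k x => by simp only [om_smul_left, RingHom.id_apply, smul_sub, smul_smul] }
  have hmid : ∀ x, om G (mid x) c = 0 := fun x => by
    show om G (x - om G x c • d) c = 0
    rw [sub_eq_add_neg, ← neg_smul, om_add_left, om_smul_left, hd]; ring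
  let Lin : (Fin m → F) →ₗ[F] F :=
    { toFun := fun x => β (mid x) r0 r0
      map_add' := fun x y => by rw [map_add, hzb.map_add' hG hc (hmid x) (hmid y)]; rfl
      map_smul' := fun k x => by rw [map_smul, hzb.map_smul' hG hc (hmid x)]; rfl }
  obtain ⟨y', hy'⟩ := hG.exists_axis fun q => Lin (Pi.single q 1)
  have hLin : ∀ x, om G x y' = Lin x := fun x => by
    rw [om, hy']
    conv_rhs => rw [show x = ∑ q, x q • (Pi.single q 1 : Fin m → F) by
      funext r; simp [Finset.sum_apply, Pi.single_apply], map_sum]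
    simp [dotProduct]
  have hβlin : ∀ y, om G y c = 0 → β y = om G y y' • (1 : Matrix (Rest i m) (Rest i m) F) := fun y hy => by
    have hmy : mid y = y := by
      show y - om G y c • d = y
      rw [hy, zero_smul, sub_zero]
    rw [hLin, show Lin y = β (mid y) r0 r0 from rfl, hmy, hlam y hy]
    simp
  have hy'c : om G y' c = 0 := by
    refine hG.axis_zero_iff.mp ?_
    rw [hLin, show Lin c = β (mid c) r0 r0 from rfl, show mid c = c by
      show c - om G c c • d = c
      rw [hG.self, zero_smul, sub_zero], hzb.zero]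
    rfl
  obtain ⟨τ, hτ, hτv⟩ := exists_shG hG (c := c) (e := y') (hG.axis_zero_iff.mp hy'c)
  have hτb := hasBeta_short (i := i) hG hy'c hτ hτv
  set z' := z * (embG i τ)⁻¹ with hz'
  have hz'b := hzb.mul hG hc (hτb.inv hG hc)
  obtain ⟨b, hb⟩ := center_of_fix hG hz'b.iso hc fun y hy u => by
    rw [hz'b.act y hy, show β y + -(om G y y' • (1 : Matrix (Rest i m) (Rest i m) F)) = 0 by rw [hβlin y hy, add_neg_cancel],
      zero_mulVec, map_zero, add_zero]
  have hz'h : ∀ k ∈ spG G, z' * embG i k * z'⁻¹ ∈ M := fun k hk => by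
    have h1 := hzh _ ((spG G).mul_mem ((spG G).mul_mem ((spG G).inv_mem hτ) hk) hτ)
    rw [map_mul, map_mul, map_inv] at h1
    convert h1 using 1
    rw [hz']; group
  rw [← hz'] at hb
  clear_value z'
  -- `b` is scalar
  obtain ⟨s, rfl⟩ : ∃ s : F, b = s • 1 := by
    obtain ⟨e, he, hind⟩ : ∃ e, (om G e c = 0 ∧ om G e d = 0) ∧ e ≠ 0 := by
      let fn : (Fin m → F) →ₗ[F] (Fin 2 → F) :=
        { toFun := fun x => ![(G *ᵥ c) ⬝ᵥ x, (G *ᵥ d) ⬝ᵥ x]
          map_add' := fun x y => by funext q; fin_cases q <;> simp [dotProduct_add]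
          map_smul' := fun k x => by funext q; fin_cases q <;> simp [dotProduct_smul] }
      obtain ⟨x, hx, hx0⟩ := Submodule.exists_mem_ne_zero_of_ne_bot (LinearMap.ker_ne_bot_of_finrank_lt (f := fn)
        (by rw [Module.finrank_fin_fun, Module.finrank_fin_fun]; omega))
      exact ⟨x, ⟨by rw [← axis_dot]; exact congrFun hx 0, by rw [← axis_dot]; exact congrFun hx 1⟩, hx0⟩
    have hcd : om G c d = -1 := by rw [hG.skew, hd]
    have hce : om G c e = 0 := hG.axis_zero_iff.mp he.1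
    obtain ⟨k, hk, hkv⟩ := exists_shG hG (c := d) (e := e) (hG.axis_zero_iff.mp he.2)
    set c' := c + (-1 : F) • e with hc'
    have hkc : (k : Matrix (Fin m) (Fin m) F) *ᵥ c = c' := by
      rw [hkv, add_mulVec, one_mulVec, sh_mulVec, hce, hcd, zero_smul, zero_add, hc']
    have hcc' : om G c' c = 0 := by rw [hc', om_add_left, om_smul_left, hG.self, he.1]; ring
    set Bz := kr i (cen G c) b
    have hBB : Bz * Bz = 0 := by
      rw [kr_mul, show cen G c * cen G c = 0 from vecMulVec_sq (hG.axis_self c), kr_zero_left]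
    have hz'v : (z' : Matrix (ι → Fin m) (ι → Fin m) F) = 1 + Bz := hb
    have hz'i : ((z'⁻¹ : GL (ι → Fin m) F) : Matrix (ι → Fin m) (ι → Fin m) F) = 1 - Bz := by
      refine Units.inv_eq_of_mul_eq_one_right ?_
      rw [hz'v, add_mul, one_mul, mul_sub, mul_one, hBB, sub_zero, sub_add_cancel]
    set u := z' * (embG i k * z'⁻¹ * (embG i k)⁻¹) with hu
    have huM : u ∈ M := by
      rw [hu, ← mul_assoc, ← mul_assoc]
      exact M.mul_mem (hz'h k hk) (M.inv_mem (hS.factors i k hk))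
    have huv : (u : Matrix (ι → Fin m) (ι → Fin m) F) = 1 + kr i (cen G c - cen G c') b := by
      rw [hu, Units.val_mul, Units.val_mul, Units.val_mul, ← map_inv, embG_val, embG_val, hz'i, hz'v, emb_eq_kr,
        emb_eq_kr, mul_sub, mul_one, sub_mul, kr_mul, Units.mul_inv, Matrix.one_mul, kr_one, kr_mul, kr_mul,
        Matrix.one_mul, Matrix.mul_one, conj_cen hk, hkc, add_mul, one_mul, mul_sub, mul_one, kr_mul, kr_sub_left]
      rw [show cen G c * cen G c' = 0 by
        rw [cen, cen, vecMulVec_mul_vecMulVec, axis_dot, hcc', zero_smul, vecMulVec_zero], kr_zero_left, sub_zero]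
      abel
    obtain ⟨T1, ρ1, ν1, -, -, -, -, -, -, hsh⟩ := hS.exists_shape huM hc (ψ := 1) fun v => by
      rw [huv, add_mulVec, one_mulVec, one_mulVec, kr_mulVec_lift, sub_mulVec, cen_mulVec, cen_mulVec, hG.self,
        hG.axis_zero_iff.mp hcc', zero_smul, zero_smul, sub_zero, add_eq_left]
      funext q; simp [lift_apply]
    have hind' : ∀ t : F, t • c ≠ e := fun t ht => by
      have := congrArg (fun v => om G v d) ht
      simp only [om_smul_left, hcd, he.2, mul_neg_one, neg_eq_zero] at this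
      exact hind (by rw [← ht, this, zero_smul])
    obtain ⟨y, hy1, hy2⟩ := exists_dot_eq_zero_one (a := G *ᵥ c) (b := G *ᵥ e) (hG.axis_indep hind')
    rw [axis_dot] at hy1 hy2
    obtain ⟨χ', hχ1, hχ2⟩ := exists_dot_eq_zero_one hind'
    rw [dotProduct_comm] at hχ1 hχ2
    refine ⟨χ' ⬝ᵥ y - χ' ⬝ᵥ (T1 *ᵥ y), Matrix.ext_of_mulVec_single fun q => ?_⟩
    obtain ⟨w, hw⟩ := hsh y hy1 (Pi.single q 1)
    have h1 := congrArg (proj i χ') hw
    have hyc' : om G y c' = -1 := by rw [hc', om_add_right, om_smul_right, hy1, hy2]; ring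
    rw [huv, add_mulVec, one_mulVec, kr_mulVec_lift, sub_mulVec, cen_mulVec, cen_mulVec, hy1, hyc', zero_smul,
      zero_sub, neg_one_smul, neg_neg, one_mulVec, map_add, map_add, proj_lift, proj_lift, proj_lift, proj_lift,
      hc', dotProduct_add, dotProduct_smul, hχ1, hχ2] at h1
    rw [smul_mulVec, one_mulVec, sub_smul]
    simp only [zero_add, neg_smul, one_smul, zero_smul, add_zero, smul_eq_mul, mul_one] at h1
    linear_combination (norm := abel) -h1
  refine ⟨(rt G i s c)⁻¹ * g, M.mul_mem (M.inv_mem (hS.factors.rt_mem hG i s c)) hg, fun hW => hgW ?_,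
    (τ : Matrix (Fin m) (Fin m) F) * (T' : Matrix (Fin m) (Fin m) F), ψ, ?_⟩
  · have := (wreath ι m F).mul_mem (embG_mem i (spt G s c)) hW
    rwa [show embG i (spt G s c) * ((rt G i s c)⁻¹ * g) = g from mul_inv_cancel_left _ _] at this
  · have he : rt G i s c = z' := Units.ext (by rw [hb, hG.rt_val])
    rw [he, hgz, hz', _root_.mul_inv_rev, inv_inv, mul_assoc, inv_mul_cancel_left, Units.val_mul, embG_val, hPv,
      emb_eq_kr, kr_mul, Matrix.one_mul]

end Setting

end CfsgLib.TWSp
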