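import Cfsg.Agent.TensorWreathSp.Control

/-!
# Blocks, their stabilisers, and the wreath group

An isometry unipotent on a block has the shape `1 + (cen c ⊗ b)`; an element carrying roots to roots
lies in the wreath group.
-/

set_option autoImplicit false
set_option linter.unusedSectionVars false

namespace CfsgLib.TWSp

open Matrix CfsgLib.MaxSub CfsgLib.TWreath

variable {F : Type*} [Field F] {ι : Type} [Fintype ι] [DecidableEq ι] {m : ℕ}

theorem lift_dot (i : ι) (x y : Fin m → F) (v w : Rest i m → F) :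
    lift i x v ⬝ᵥ lift i y w = (x ⬝ᵥ y) * (v ⬝ᵥ w) := by
  rw [dotProduct, ← (splitEquiv i).symm.sum_comp, Fintype.sum_prod_type, dotProduct, dotProduct,
    Finset.sum_mul_sum]
  refine Finset.sum_congr rfl fun k _ => Finset.sum_congr rfl fun r _ => ?_
  simp only [splitEquiv, Equiv.coe_fn_symm_mk, lift_apply, extend_self, extend_rest]
  ring

theorem lift_single (i : ι) (a : ι → Fin m) :
    lift i (Pi.single (a i) 1) (Pi.single (fun j : {j // j ≠ i} => a j) 1) =
      (Pi.single a 1 : (ι → Fin m) → F) := by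
  funext b
  rw [lift_apply]
  by_cases h : b = a
  · subst h; simp
  · rw [Pi.single_eq_of_ne h]
    rcases eq_or_ne (b i) (a i) with hi | hi
    · have hne : (fun j : {j // j ≠ i} => b j) ≠ fun j : {j // j ≠ i} => a j := fun hr =>
        h (by rw [← extend_eta i b, ← extend_eta i a, hi, hr])
      rw [Pi.single_eq_of_ne hne, mul_zero]
    · rw [Pi.single_eq_of_ne hi, zero_mul]

theorem ext_lift_single {i : ι} {A B : Matrix (ι → Fin m) (ι → Fin m) F}
    (h : ∀ (k : Fin m) (w : Rest i m → F), A *ᵥ lift i (Pi.single k 1) w = B *ᵥ lift i (Pi.single k 1) w) :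
    A = B :=
  Matrix.ext_of_mulVec_single fun a => by rw [← lift_single i a]; exact h _ _

theorem ext_lift {i : ι} {A B : Matrix (ι → Fin m) (ι → Fin m) F}
    (h : ∀ x (w : Rest i m → F), A *ᵥ lift i x w = B *ᵥ lift i x w) : A = B :=
  ext_lift_single fun _ w => h _ w

/-- Conjugation of the nilpotent part. -/
theorem conj_nil (y u : GL (ι → Fin m) F) :
    ((y * u * y⁻¹ : GL (ι → Fin m) F) : Matrix (ι → Fin m) (ι → Fin m) F) - 1 =
      (y : Matrix (ι → Fin m) (ι → Fin m) F) * ((u : Matrix (ι → Fin m) (ι → Fin m) F) - 1) *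
        ((y⁻¹ : GL (ι → Fin m) F) : Matrix (ι → Fin m) (ι → Fin m) F) := by
  rw [Units.val_mul, Units.val_mul, mul_sub, sub_mul, mul_one, Units.mul_inv]

variable {G : Matrix (Fin m) (Fin m) F}

theorem gram_mulVec_lift (i : ι) (x : Fin m → F) (w : Rest i m → F) :
    gram ι G *ᵥ lift i x w = lift i (G *ᵥ x) (gram {j // j ≠ i} G *ᵥ w) := by
  rw [gram_eq_kr G i, kr_mulVec_lift]

/-- The form on split tensors. -/
theorem form_lift (i : ι) (x y : Fin m → F) (v w : Rest i m → F) :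
    lift i x v ⬝ᵥ gram ι G *ᵥ lift i y w = om G x y * (v ⬝ᵥ gram {j // j ≠ i} G *ᵥ w) := by
  rw [gram_mulVec_lift, lift_dot]; rfl

/-- Isometries of the power. -/
def IsIso (G : Matrix (Fin m) (Fin m) F) (g : GL (ι → Fin m) F) : Prop :=
  (g : Matrix (ι → Fin m) (ι → Fin m) F)ᵀ * gram ι G * g = gram ι G

theorem isIso_embG (i : ι) {h : GL (Fin m) F} (hh : h ∈ spG G) : IsIso G (embG i h) := by
  rw [IsIso, embG_val, emb_eq_kr, gram_eq_kr G i, kr_transpose, transpose_one, kr_mul, kr_mul,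
    Matrix.one_mul, Matrix.mul_one, mem_spG.mp hh]

theorem isIso_rt (hG : SpForm G) (i : ι) (s : F) (c : Fin m → F) : IsIso G (rt G i s c) :=
  isIso_embG i (hG.spt_mem s c)

theorem isIso_conj {y r : GL (ι → Fin m) F} (hy : y ∈ gsim ι G) (hr : IsIso G r) :
    IsIso G (y * r * y⁻¹) := by
  obtain ⟨μ, hμ, he⟩ := mem_gsim.mp hy
  set J := gram ι G with hJ
  set Y := (y : Matrix (ι → Fin m) (ι → Fin m) F) with hY
  set Yi := ((y⁻¹ : GL (ι → Fin m) F) : Matrix (ι → Fin m) (ι → Fin m) F) with hYi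
  have h1 : Y * Yi = 1 := by rw [hY, hYi, Units.mul_inv]
  have h2 : Yiᵀ * J * Yi = μ⁻¹ • J := by
    have : J = μ⁻¹ • (Yᵀ * J * Y) := by rw [he, smul_smul, inv_mul_cancel₀ hμ, one_smul]
    conv_lhs => rw [this, Matrix.mul_smul, Matrix.smul_mul]
    congr 1
    simp only [Matrix.mul_assoc]
    rw [h1, Matrix.mul_one, ← Matrix.mul_assoc, ← transpose_mul, h1, transpose_one, Matrix.one_mul]
  show (((y * r * y⁻¹ : GL (ι → Fin m) F) : Matrix (ι → Fin m) (ι → Fin m) F))ᵀ * J * _ = J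
  rw [Units.val_mul, Units.val_mul, ← hY, ← hYi, transpose_mul, transpose_mul]
  set R := (r : Matrix (ι → Fin m) (ι → Fin m) F) with hR
  calc Yiᵀ * (Rᵀ * Yᵀ) * J * (Y * R * Yi) = Yiᵀ * (Rᵀ * (Yᵀ * J * Y) * R) * Yi := by simp only [Matrix.mul_assoc]
    _ = μ • (Yiᵀ * (Rᵀ * J * R) * Yi) := by
      rw [he]; simp only [Matrix.mul_smul, Matrix.smul_mul]
    _ = J := by rw [show Rᵀ * J * R = J from hr, h2, smul_smul, mul_inv_cancel₀ hμ, one_smul]

/-- An isometry that is unipotent into a block. -/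
theorem eq_kr_of_block (hG : SpForm G) {x : GL (ι → Fin m) F} (hx : IsIso G x) {j : ι} {c : Fin m → F}
    (hc : c ≠ 0)
    (hN : ∀ v, ((x : Matrix (ι → Fin m) (ι → Fin m) F) - 1) *ᵥ v ∈ block j c) :
    ∃ b : Matrix (Rest j m) (Rest j m) F, (x : Matrix (ι → Fin m) (ι → Fin m) F) = 1 + kr j (cen G c) b := by
  set N := (x : Matrix (ι → Fin m) (ι → Fin m) F) - 1 with hNdef
  set J := gram ι G with hJ
  choose f hf using fun v => exists_lift_of_mem_block hc (hN v)
  -- the image is isotropic, so `N` is skew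
  have hskew : ∀ u v, u ⬝ᵥ J *ᵥ (N *ᵥ v) = - ((N *ᵥ u) ⬝ᵥ J *ᵥ v) := by
    intro u v
    have h1 : ((x : Matrix (ι → Fin m) (ι → Fin m) F) *ᵥ u) ⬝ᵥ J *ᵥ ((x : Matrix (ι → Fin m) (ι → Fin m) F) *ᵥ v) =
        u ⬝ᵥ J *ᵥ v := by
      conv_rhs => rw [show J = _ from hx.symm]
      rw [← mulVec_mulVec, ← mulVec_mulVec, dotProduct_mulVec u, vecMul_transpose]
    rw [show (x : Matrix (ι → Fin m) (ι → Fin m) F) = 1 + N by rw [hNdef, add_sub_cancel], add_mulVec, add_mulVec,
      one_mulVec, one_mulVec, mulVec_add, dotProduct_add, add_dotProduct, add_dotProduct] at h1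
    have h2 : (N *ᵥ u) ⬝ᵥ J *ᵥ (N *ᵥ v) = 0 := by rw [hf u, hf v, hJ, form_lift, hG.self, zero_mul]
    rw [h2, add_zero] at h1
    linear_combination h1
  have hker : ∀ z w, om G z c = 0 → N *ᵥ lift j z w = 0 := by
    intro z w hz
    have h0 : J *ᵥ (N *ᵥ lift j z w) = 0 := dotProduct_eq_zero _ fun u => by
      rw [dotProduct_comm, hskew, hf u, hJ, form_lift, hG.skew, hz, neg_zero, zero_mul, neg_zero]
    exact mulVec_injective_iff_isUnit.mpr ((Matrix.isUnit_iff_isUnit_det _).mpr (gram_det_unit hG.det))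
      (h0.trans (mulVec_zero _).symm)
  obtain ⟨d, hd⟩ := hG.exists_partner hc
  let B : (Rest j m → F) →ₗ[F] (Rest j m → F) :=
    { toFun := fun w => f (lift j d w)
      map_add' := fun u v => lift_injective (i := j) hc (by
        rw [map_add (lift j c), ← hf, ← hf, ← hf, map_add, mulVec_add])
      map_smul' := fun k u => lift_injective (i := j) hc (by
        rw [map_smul (lift j c), ← hf, RingHom.id_apply, ← hf, map_smul, mulVec_smul]) }
  refine ⟨LinearMap.toMatrix' B, ?_⟩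
  rw [← sub_eq_iff_eq_add', ← hNdef]
  refine ext_lift (i := j) fun z w => ?_
  rw [kr_mulVec_lift, cen_mulVec, LinearMap.toMatrix'_mulVec]
  conv_lhs => rw [show z = (z - om G z c • d) + om G z c • d by rw [sub_add_cancel], lift_add_left, mulVec_add,
    hker _ w (by rw [sub_eq_add_neg, ← neg_smul, om_add_left, om_smul_left, hd, mul_one, add_neg_cancel]),
    zero_add, lift_smul_left, mulVec_smul, hf]
  rw [lift_smul_left]
  rfl

/-- Central elements in `M` are scalar on the other factors. -/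
def NoCen (G : Matrix (Fin m) (Fin m) F) (M : Subgroup (GL (ι → Fin m) F)) : Prop :=
  ∀ (i : ι) (c : Fin m → F), c ≠ 0 → ∀ x ∈ M, ∀ b : Matrix (Rest i m) (Rest i m) F,
    (x : Matrix (ι → Fin m) (ι → Fin m) F) = 1 + kr i (cen G c) b → ∃ s : F, b = s • 1

theorem rt_ne_one [NeZero m] (hG : SpForm G) (i : ι) {s : F} (hs : s ≠ 0) {c : Fin m → F} (hc : c ≠ 0) :
    rt G i s c ≠ 1 := by
  intro h
  rw [rt, ← map_one (embG (F := F) (m := m) i)] at h
  exact tv_ne_one (by rw [dotProduct_smul, hG.axis_self, smul_zero]) (smul_ne_zero hs hc) (hG.axis_ne hc)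
    (embG_injective i h)

theorem rt_sub_one (hG : SpForm G) (i : ι) (s : F) (c : Fin m → F) :
    (rt G i s c : Matrix (ι → Fin m) (ι → Fin m) F) - 1 = emb i (s • cen G c) := by
  rw [hG.rt_val, add_sub_cancel_left, emb_eq_kr, kr_smul_left, kr_smul_right]

theorem block_eq_range_cen (hG : SpForm G) (i : ι) {c : Fin m → F} (hc : c ≠ 0) :
    block i c = LinearMap.range (emb i (cen G c)).mulVecLin := block_eq_range (hG.axis_ne hc)

variable {M : Subgroup (GL (ι → Fin m) F)}

/-- An element mapping a block into a block conjugates the root to a root. -/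
theorem conj_rt_of_block [NeZero m] (hG : SpForm G) (hsim : M ≤ gsim ι G) (hfac : HasFactors G M)
    (hnc : NoCen G M) {y : GL (ι → Fin m) F} (hy : y ∈ M) {i j : ι} {c c' : Fin m → F} (hc : c ≠ 0)
    (hc' : c' ≠ 0)
    (h : (block i c).map (Matrix.mulVecLin (y : Matrix (ι → Fin m) (ι → Fin m) F)) ≤ block j c') :
    ∃ s : F, s ≠ 0 ∧ y * rt G i 1 c * y⁻¹ = rt G j s c' := by
  set x := y * rt G i 1 c * y⁻¹ with hx
  have hN : ∀ v, ((x : Matrix (ι → Fin m) (ι → Fin m) F) - 1) *ᵥ v ∈ block j c' := fun v => by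
    rw [hx, conj_nil, rt_sub_one hG, one_smul, ← mulVec_mulVec, ← mulVec_mulVec]
    refine h (Submodule.mem_map_of_mem ?_)
    rw [block_eq_range_cen hG i hc]
    exact ⟨_, rfl⟩
  obtain ⟨b, hb⟩ := eq_kr_of_block hG (isIso_conj (hsim hy) (isIso_rt hG i 1 c)) hc' hN
  obtain ⟨s, rfl⟩ := hnc j c' hc' x (M.mul_mem (M.mul_mem hy (hfac.rt_mem hG i 1 c)) (M.inv_mem hy)) b hb
  have he : x = rt G j s c' := Units.ext (by rw [hb, hG.rt_val])
  refine ⟨s, fun h0 => ?_, he⟩
  apply rt_ne_one hG i one_ne_zero hc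
  have h1 : x = 1 := by
    rw [he]; exact Units.ext (by rw [hG.rt_val, h0, zero_smul, kr_zero_right, add_zero, Units.val_one])
  rw [hx, mul_inv_eq_one] at h1
  exact mul_eq_left.mp h1

/-- An element with a root going to a root maps block to block. -/
theorem map_block_of_conj_rt (hG : SpForm G) {y : GL (ι → Fin m) F} {i j : ι} {c c' : Fin m → F} {s : F}
    (hc : c ≠ 0) (hs : s ≠ 0) (hc' : c' ≠ 0) (h : y * rt G i 1 c * y⁻¹ = rt G j s c') :
    (block i c).map (Matrix.mulVecLin (y : Matrix (ι → Fin m) (ι → Fin m) F)) ≤ block j c' := by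
  rw [block_eq_range_cen hG i hc, block_eq_range_cen hG j hc']
  rintro _ ⟨_, ⟨w, rfl⟩, rfl⟩
  refine ⟨s • ((y : Matrix (ι → Fin m) (ι → Fin m) F) *ᵥ w), ?_⟩
  simp only [mulVecLin_apply]
  have h1 := congrArg (fun g : GL (ι → Fin m) F => ((g : Matrix (ι → Fin m) (ι → Fin m) F) - 1) *ᵥ
    ((y : Matrix (ι → Fin m) (ι → Fin m) F) *ᵥ w)) h
  simp only [conj_nil, rt_sub_one hG, one_smul, emb_smul, smul_mulVec] at h1
  rw [mulVec_smul, ← h1, mulVec_mulVec, mulVec_mulVec, mul_assoc, Units.inv_mul, mul_one]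

/-- An element with all block stabilisers in the wreath group carries all roots to roots. -/
theorem conj_rt_all [Finite F] [NeZero m] [Nontrivial ι]
    (hcl : ∀ u : GL (ι → Fin m) F, u ∈ wreath ι m F →
      ((u : Matrix (ι → Fin m) (ι → Fin m) F) - 1) * ((u : Matrix (ι → Fin m) (ι → Fin m) F) - 1) = 0 →
      ((u : Matrix (ι → Fin m) (ι → Fin m) F) - 1).rank = bdim ι m →
      ∃ j c φ, c ≠ 0 ∧ φ ≠ 0 ∧ φ ⬝ᵥ c = 0 ∧ u = root j c φ)
    (hG : SpForm G) (hsim : M ≤ gsim ι G)
    (hfac : HasFactors G M) (hnc : NoCen G M)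
    (hstab : ∀ z ∈ M, ∀ (i : ι) (c : Fin m → F), c ≠ 0 →
      (block i c).map (Matrix.mulVecLin (z : Matrix (ι → Fin m) (ι → Fin m) F)) ≤ block i c → z ∈ wreath ι m F)
    {y : GL (ι → Fin m) F} (hy : y ∈ M) {i j : ι} {c c' : Fin m → F} (hc : c ≠ 0) (hc' : c' ≠ 0)
    (h : (block i c).map (Matrix.mulVecLin (y : Matrix (ι → Fin m) (ι → Fin m) F)) ≤ block j c')
    (l : ι) {e : Fin m → F} (he : e ≠ 0) :
    ∃ (l' : ι) (s : F) (e' : Fin m → F), s ≠ 0 ∧ e' ≠ 0 ∧ y * rt G l 1 e * y⁻¹ = rt G l' s e' := by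
  have step : ∀ (i j : ι) (c c' : Fin m → F), c ≠ 0 → c' ≠ 0 →
      (block i c).map (Matrix.mulVecLin (y : Matrix (ι → Fin m) (ι → Fin m) F)) ≤ block j c' →
      ∀ l, l ≠ i → ∀ e : Fin m → F, e ≠ 0 →
        ∃ (l' : ι) (s : F) (e' : Fin m → F), s ≠ 0 ∧ e' ≠ 0 ∧ y * rt G l 1 e * y⁻¹ = rt G l' s e' := by
    intro i j c c' hc hc' h l hl e he
    obtain ⟨s, hs, hx⟩ := conj_rt_of_block hG hsim hfac hnc hy hc hc' h
    set z := y * rt G l 1 e * y⁻¹ with hz
    have hzM : z ∈ M := M.mul_mem (M.mul_mem hy (hfac.rt_mem hG l 1 e)) (M.inv_mem hy)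
    have hcomm : z * rt G j s c' * z⁻¹ = rt G j s c' := by
      rw [← hx, hz]
      have hlc : rt G l 1 e * rt G i 1 c = rt G i 1 c * rt G l 1 e := embG_comm hl _ _
      calc y * rt G l 1 e * y⁻¹ * (y * rt G i 1 c * y⁻¹) * (y * rt G l 1 e * y⁻¹)⁻¹
          = y * (rt G l 1 e * rt G i 1 c * (rt G l 1 e)⁻¹) * y⁻¹ := by group
        _ = y * rt G i 1 c * y⁻¹ := by rw [hlc, mul_inv_cancel_right]
    have hzW : z ∈ wreath ι m F := by
      refine hstab z hzM j c' hc' ?_
      rw [block_eq_range_cen hG j hc']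
      rintro _ ⟨_, ⟨w, rfl⟩, rfl⟩
      refine ⟨(z : Matrix (ι → Fin m) (ι → Fin m) F) *ᵥ w, ?_⟩
      simp only [mulVecLin_apply]
      have h1 := congrArg (fun g : GL (ι → Fin m) F => ((g : Matrix (ι → Fin m) (ι → Fin m) F) - 1) *ᵥ
        ((z : Matrix (ι → Fin m) (ι → Fin m) F) *ᵥ w)) hcomm
      simp only [conj_nil, rt_sub_one hG, emb_smul, smul_mulVec] at h1
      rw [mulVec_mulVec, mul_assoc, Units.inv_mul, mul_one, ← mulVec_mulVec, smul_mulVec, mulVec_smul] at h1
      exact (smul_right_injective _ hs h1).symm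
    have h0 : (G *ᵥ e) ⬝ᵥ e = 0 := hG.axis_self e
    have hze : z = y * root l e (G *ᵥ e) * y⁻¹ := by rw [hz, rt_eq_root, one_smul]
    obtain ⟨l', e', φ, he', hφ, hφe, heq⟩ := hcl _ hzW
      (by rw [hze]; exact conj_quadratic (root_quadratic h0))
      (by rw [hze, rank_conj_sub_one', root_rank h0 he (hG.axis_ne he)])
    obtain ⟨t, ht, rfl⟩ := axis_of_root_mem hG hφe he' hφ (hsim (heq ▸ hzM))
    refine ⟨l', t, e', ht, he', heq.trans (Units.ext ?_)⟩
    rw [root_val hφe, hG.rt_val, emb_eq_kr, vecMulVec_smul, kr_smul_left, kr_smul_right]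
    rfl
  by_cases hl : l = i
  · subst hl
    obtain ⟨l₁, hl₁⟩ := exists_ne l
    obtain ⟨l₁', s₁, e₁', hs₁, he₁', h₁⟩ := step l j c c' hc hc' h l₁ hl₁ c hc
    exact step l₁ l₁' c e₁' hc he₁' (map_block_of_conj_rt hG hc hs₁ he₁' h₁) l hl₁.symm e he
  · exact step i j c c' hc hc' h l hl e he

/-- A matrix permuting the blocks of one factor splits. -/
theorem exists_kr_of_blocks (K : GL (ι → Fin m) F) (l : ι) [NeZero m]
    (h : ∀ x : Fin m → F, x ≠ 0 → ∃ x', x' ≠ 0 ∧
      (block l x).map (Matrix.mulVecLin (K : Matrix (ι → Fin m) (ι → Fin m) F)) ≤ block l x') :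
    ∃ (A : GL (Fin m) F) (L : Matrix (Rest l m) (Rest l m) F),
      (K : Matrix (ι → Fin m) (ι → Fin m) F) = kr l (A : Matrix (Fin m) (Fin m) F) L := by
  classical
  set KM := (K : Matrix (ι → Fin m) (ι → Fin m) F) with hKM
  have hKi : Function.Injective KM.mulVec := mulVec_injective_iff_isUnit.mpr K.isUnit
  choose! f hf0 hf using h
  have hex : ∀ x w, ∃ u, x ≠ 0 → KM *ᵥ lift l x w = lift l (f x) u := fun x w => by
    by_cases hx : x = 0
    · exact ⟨0, fun h => absurd hx h⟩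
    · obtain ⟨u, hu⟩ := exists_lift_of_mem_block (hf0 x hx) (hf x hx ⟨_, lift_mem_block l x w, rfl⟩)
      exact ⟨u, fun _ => hu⟩
  choose ψ hψ using hex
  set e0 : Fin m → F := Pi.single 0 1 with he0def
  have he0 : e0 ≠ 0 := by simp [e0]
  have hψ0 : ∀ x w, x ≠ 0 → w ≠ 0 → ψ x w ≠ 0 := fun x w hx hw h0 => by
    have h1 := hψ x w hx
    rw [h0, map_zero] at h1
    exact hw (lift_injective hx ((hKi (h1.trans (mulVec_zero KM).symm)).trans (map_zero _).symm))
  have hprop : ∀ x, ∃ x', ∀ w, KM *ᵥ lift l x w = lift l x' (ψ e0 w) := by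
    intro x
    by_cases hd : ∃ t : F, t • e0 = x
    · obtain ⟨t, rfl⟩ := hd
      exact ⟨t • f e0, fun w => by rw [lift_smul_left, mulVec_smul, hψ e0 w he0, lift_smul_left]⟩
    push Not at hd
    have hx : x ≠ 0 := fun h => hd 0 (by rw [zero_smul, h])
    have hs : e0 + x ≠ 0 := fun h => hd (-1) (by rw [neg_one_smul]; exact (eq_neg_of_add_eq_zero_right h).symm)
    have hsum : ∀ w, lift l (f (e0 + x)) (ψ (e0 + x) w) = lift l (f e0) (ψ e0 w) + lift l (f x) (ψ x w) :=
      fun w => by rw [← hψ _ w hs, ← hψ _ w he0, ← hψ _ w hx, lift_add_left, mulVec_add]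
    have hind : ∀ t : F, t • f e0 ≠ f x := by
      intro t ht
      set w : Rest l m → F := fun _ => 1 with hw
      have hw0 : w ≠ 0 := fun h => one_ne_zero (congrFun h fun _ => 0)
      -- two blocks would have the same image
      have hsub : ∀ v, ∃ u, KM *ᵥ lift l x w = KM *ᵥ u ∧ (v = () → u ∈ block l e0) := fun _ => by
        have hle : (block l e0).map KM.mulVecLin = block l (f e0) := by
          refine Submodule.eq_of_le_of_finrank_eq (hf e0 he0) ?_
          rw [← (Submodule.equivMapOfInjective _ (show Function.Injective KM.mulVecLin from hKi) _).finrank_eq,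
            finrank_block he0, finrank_block (hf0 e0 he0)]
        have : KM *ᵥ lift l x w ∈ block l (f e0) := by
          rw [hψ x w hx, ← ht, lift_smul_left, ← map_smul]
          exact lift_mem_block _ _ _
        rw [← hle] at this
        obtain ⟨u, hu, he⟩ := this
        exact ⟨u, he.symm, fun _ => hu⟩
      obtain ⟨u, he, hu⟩ := hsub ()
      rw [← hKi he] at hu
      obtain ⟨u', hu'⟩ := exists_lift_of_mem_block he0 (hu rfl)
      obtain ⟨χ, hχ0, hχ1⟩ := exists_dot_eq_zero_one hd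
      rw [dotProduct_comm] at hχ0 hχ1
      have := congrFun (congrArg (ctr l χ) hu') (extend l 0 fun _ => 0)
      rw [ctr_lift, ctr_lift, hχ0, hχ1] at this
      simp [hw] at this
    obtain ⟨χ₁, hχ₁, hχ₁'⟩ := exists_dot_eq_zero_one hind
    rw [dotProduct_comm] at hχ₁ hχ₁'
    obtain ⟨χ₀, hχ₀, hχ₀'⟩ : ∃ χ₀, χ₀ ⬝ᵥ f x = 0 ∧ χ₀ ⬝ᵥ f e0 = 1 := by
      obtain ⟨a, ha, ha'⟩ := exists_dot_eq_zero_one (a := f x) (b := f e0) fun t ht => by
        rcases eq_or_ne t 0 with rfl | ht0
        · exact hf0 e0 he0 (by rw [← ht, zero_smul])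
        · exact hind t⁻¹ (by rw [← ht, smul_smul, inv_mul_cancel₀ ht0, one_smul])
      exact ⟨a, by rwa [dotProduct_comm], by rwa [dotProduct_comm]⟩
    have ha : ∀ w, ψ e0 w = (χ₀ ⬝ᵥ f (e0 + x)) • ψ (e0 + x) w := fun w => funext fun r => by
      have := congrFun (congrArg (ctr l χ₀) (hsum w)) (extend l 0 r)
      rw [map_add, Pi.add_apply, ctr_lift, ctr_lift, ctr_lift, hχ₀, hχ₀', extend_rest, one_mul, zero_mul,
        add_zero] at this
      rw [← this]; rfl
    have hb : ∀ w, ψ x w = (χ₁ ⬝ᵥ f (e0 + x)) • ψ (e0 + x) w := fun w => funext fun r => by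
      have := congrFun (congrArg (ctr l χ₁) (hsum w)) (extend l 0 r)
      rw [map_add, Pi.add_apply, ctr_lift, ctr_lift, ctr_lift, hχ₁, hχ₁', extend_rest, one_mul, zero_mul,
        zero_add] at this
      rw [← this]; rfl
    set a := χ₀ ⬝ᵥ f (e0 + x)
    set b := χ₁ ⬝ᵥ f (e0 + x)
    have ha0 : a ≠ 0 := fun h0 => hψ0 e0 (fun _ => 1) he0 (fun h => one_ne_zero (congrFun h fun _ => 0))
      (by rw [ha, h0, zero_smul])
    refine ⟨(b / a) • f x, fun w => ?_⟩
    rw [hψ x w hx, hb, ha, lift_smul_left, map_smul, map_smul, smul_smul, div_mul_cancel₀ _ ha0]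
  choose g hg using hprop
  let Ψ : (Rest l m → F) →ₗ[F] (Rest l m → F) :=
    { toFun := ψ e0
      map_add' := fun u v => lift_injective (i := l) (hf0 e0 he0) (by
        rw [map_add (lift l (f e0)), ← hψ _ _ he0, ← hψ _ _ he0, ← hψ _ _ he0, map_add, mulVec_add])
      map_smul' := fun k u => lift_injective (i := l) (hf0 e0 he0) (by
        rw [map_smul (lift l (f e0)), ← hψ _ _ he0, RingHom.id_apply, ← hψ _ _ he0, map_smul, mulVec_smul]) }
  set A : Matrix (Fin m) (Fin m) F := Matrix.of fun q k => g (Pi.single k 1) q with hA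
  have hK : KM = kr l A (LinearMap.toMatrix' Ψ) := ext_lift_single fun k w => by
    rw [kr_mulVec_lift, LinearMap.toMatrix'_mulVec, hg]
    rw [show A *ᵥ Pi.single k 1 = g (Pi.single k 1) by funext q; simp [hA, mulVec_single]]
    rfl
  have hAu : IsUnit A := mulVec_injective_iff_isUnit.mp <| by
    intro u v huv
    have h1 : KM *ᵥ lift l u (fun _ => (1 : F)) = KM *ᵥ lift l v (fun _ => (1 : F)) := by
      rw [hK, kr_mulVec_lift, kr_mulVec_lift]; exact congrArg (fun t => lift l t _) huv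
    funext q
    have := congrFun (hKi h1) (extend l q fun _ => 0)
    simpa [lift_apply, extend_self] using this
  exact ⟨hAu.unit, _, hK⟩

theorem Pt_comm_of_emb {K : Matrix (ι → Fin m) (ι → Fin m) F}
    (h : ∀ l A, K * emb l A = emb l A * K) (gs : ι → Matrix (Fin m) (Fin m) F) : K * Pt gs = Pt gs * K := by
  suffices ∀ (S : Finset ι) (gs : ι → Matrix (Fin m) (Fin m) F), (∀ k, k ∉ S → gs k = 1) →
      K * Pt gs = Pt gs * K from this Finset.univ gs fun k hk => absurd (Finset.mem_univ k) hk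
  intro S
  induction S using Finset.induction with
  | empty =>
    intro gs hgs
    rw [show gs = 1 from funext fun k => hgs k (Finset.notMem_empty k), Pt_one, Matrix.mul_one, Matrix.one_mul]
  | insert l S _ ih =>
    intro gs hgs
    rw [Pt_eq_emb_mul gs l, ← Matrix.mul_assoc, h, Matrix.mul_assoc,
      ih _ fun k hk => by
        rcases eq_or_ne k l with rfl | hkl
        · simp
        · rw [Function.update_of_ne hkl]; exact hgs k (by simp [hkl, hk]),
      Matrix.mul_assoc]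

/-- A matrix commuting with every factor is scalar. -/
theorem scalar_of_comm_emb [NeZero m] {K : Matrix (ι → Fin m) (ι → Fin m) F}
    (h : ∀ l A, K * emb l A = emb l A * K) : ∃ s : F, K = s • 1 := by
  classical
  have hsingle : ∀ a b : ι → Fin m,
      (Matrix.single a b 1 : Matrix (ι → Fin m) (ι → Fin m) F) = Pt fun k => Matrix.single (a k) (b k) 1 := by
    intro a b
    ext x y
    by_cases hxy : a = x ∧ b = y
    · obtain ⟨rfl, rfl⟩ := hxy; simp [Pt]
    · rw [Matrix.single_apply, if_neg hxy, eq_comm]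
      obtain ⟨k, hk⟩ : ∃ k, ¬ (a k = x k ∧ b k = y k) := by
        by_contra hc
        push Not at hc
        exact hxy ⟨funext fun k => (hc k).1, funext fun k => (hc k).2⟩
      refine Finset.prod_eq_zero (Finset.mem_univ k) ?_
      show Matrix.single (a k) (b k) (1 : F) (x k) (y k) = 0
      rw [Matrix.single_apply, if_neg hk]
  obtain ⟨s, hs⟩ := Matrix.mem_range_scalar_of_commute_single (M := K) fun a b _ => by
    show Commute _ _
    rw [hsingle]; exact (Pt_comm_of_emb h _).symm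
  exact ⟨s, by rw [← hs, Matrix.scalar_apply, smul_one_eq_diagonal]⟩

/-- An element carrying every root to a root lies in the wreath group. -/
theorem mem_wreath_of_conj_rt [NeZero m] [Nonempty ι] (hm : 2 ≤ m) (hG : SpForm G) {y : GL (ι → Fin m) F}
    (h : ∀ l (e : Fin m → F), e ≠ 0 →
      ∃ (l' : ι) (s : F) (e' : Fin m → F), s ≠ 0 ∧ e' ≠ 0 ∧ y * rt G l 1 e * y⁻¹ = rt G l' s e') :
    y ∈ wreath ι m F := by
  classical
  have := hm
  choose! π S E hS hE heq using h
  have hfacuniq : ∀ {a b : ι} {s t : F} {u v : Fin m → F}, s ≠ 0 → u ≠ 0 → rt G a s u = rt G b t v → a = b := by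
    intro a b s t u v hs hu he
    by_contra hab
    rw [rt, rt, embG_eq_PtG a] at he
    obtain ⟨k, hk⟩ := exists_scalar_of_PtG_eq_embG he hab
    rw [Function.update_self] at hk
    exact tv_ne_smul_one (by rw [dotProduct_smul, hG.axis_self, smul_zero]) (smul_ne_zero hs hu) (hG.axis_ne hu) k hk
  -- non-commuting roots go to the same factor
  have hsame : ∀ l (a b : Fin m → F), a ≠ 0 → b ≠ 0 → om G a b ≠ 0 → π l a = π l b := by
    intro l a b ha hb hab
    by_contra hne
    have hc : (y * rt G l 1 a * y⁻¹) * (y * rt G l 1 b * y⁻¹) = (y * rt G l 1 b * y⁻¹) * (y * rt G l 1 a * y⁻¹) := by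
      rw [heq l a ha, heq l b hb]; exact embG_comm hne _ _
    have hc' : rt G l 1 a * rt G l 1 b = rt G l 1 b * rt G l 1 a := by
      have := congrArg (fun g => y⁻¹ * g * y) hc
      simpa [mul_assoc] using this
    rw [rt, rt, ← map_mul, ← map_mul] at hc'
    have h2 := congrArg (fun g : GL (Fin m) F => (g : Matrix (Fin m) (Fin m) F) *ᵥ b) (embG_injective l hc')
    simp only [Units.val_mul, ← mulVec_mulVec, hG.spt_mulVec, hG.self b, mul_zero, zero_smul, add_zero, zero_add,
      one_mul, om_add_left, om_smul_left] at h2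
    rw [left_eq_add] at h2
    rcases smul_eq_zero.mp h2 with h3 | h3
    · rcases mul_eq_zero.mp h3 with h4 | h4
      · exact hab (by rw [hG.skew, h4, neg_zero])
      · exact hab h4
    · exact hb h3
  set e0 : Fin m → F := Pi.single 0 1 with he0def
  have he0 : e0 ≠ 0 := by simp [e0]
  let p : ι → ι := fun l => π l e0
  have hp : ∀ l a, a ≠ 0 → π l a = p l := by
    intro l a ha
    obtain ⟨d, hd1, hd2⟩ := exists_dot_both (hG.axis_ne ha) (hG.axis_ne he0)
    rw [dotProduct_comm, axis_dot] at hd1 hd2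
    have hd : d ≠ 0 := fun h0 => hd1 (by rw [h0, om, zero_dotProduct])
    rw [← hsame l d a hd ha hd1]
    exact hsame l d e0 hd he0 hd2
  have hmap : ∀ l (x : Fin m → F), x ≠ 0 →
      (block l x).map (Matrix.mulVecLin (y : Matrix (ι → Fin m) (ι → Fin m) F)) ≤ block (p l) (E l x) :=
    fun l x hx => map_block_of_conj_rt hG hx (hS l x hx) (hE l x hx) (hp l x hx ▸ heq l x hx)
  have hpinj : Function.Injective p := by
    intro l₁ l₂ hl
    by_contra hne
    -- images of the two factors commute, hence are orthogonal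
    set b' := E l₂ e0 with hb'
    have horth : ∀ a, a ≠ 0 → om G (E l₁ a) b' = 0 := by
      intro a ha
      by_contra hab
      have h1 : rt G l₁ 1 a * rt G l₂ 1 e0 = rt G l₂ 1 e0 * rt G l₁ 1 a := embG_comm hne _ _
      have h2 := congrArg (fun g => y * g * y⁻¹) h1
      simp only [show ∀ g g', y * (g * g') * y⁻¹ = (y * g * y⁻¹) * (y * g' * y⁻¹) from fun g g' => by group,
        heq l₁ a ha, heq l₂ e0 he0] at h2
      rw [hp l₁ a ha, hp l₂ e0 he0, hl, rt, rt, ← map_mul, ← map_mul] at h2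
      have h3 := congrArg (fun g : GL (Fin m) F => (g : Matrix (Fin m) (Fin m) F) *ᵥ b') (embG_injective _ h2)
      simp only [Units.val_mul, ← mulVec_mulVec, hG.spt_mulVec, ← hb', hG.self b', mul_zero, zero_smul, add_zero,
        zero_add, om_add_left, om_smul_left] at h3
      rw [left_eq_add] at h3
      rcases smul_eq_zero.mp h3 with h4 | h4
      · rcases mul_eq_zero.mp h4 with h5 | h5
        · exact hS l₂ e0 he0 h5
        · rcases mul_eq_zero.mp h5 with h6 | h6
          · rcases mul_eq_zero.mp h6 with h7 | h7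
            · exact hS l₁ a ha h7
            · exact hab (by rw [hG.skew, h7, neg_zero])
          · exact hab h6
      · exact hE l₂ e0 he0 h4
    let w : Rest (p l₂) m → F := fun _ => 1
    set v := ((y⁻¹ : GL (ι → Fin m) F) : Matrix (ι → Fin m) (ι → Fin m) F) *ᵥ lift (p l₂) b' w with hvdef
    have hv : (y : Matrix (ι → Fin m) (ι → Fin m) F) *ᵥ v = lift (p l₂) b' w := by
      rw [hvdef, mulVec_mulVec, Units.mul_inv, one_mulVec]
    have hctr : ∀ φ : Fin m → F, ctr l₁ φ v = 0 := by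
      intro φ
      rcases eq_or_ne φ 0 with rfl | hφ
      · funext q; exact zero_dotProduct (fun k => v (Function.update q l₁ k))
      obtain ⟨a, rfl⟩ := hG.exists_axis φ
      have ha : a ≠ 0 := fun h0 => hφ (by rw [h0, mulVec_zero])
      rw [← emb_vecMulVec_eq_zero (c := a) ha]
      refine mulVec_injective_iff_isUnit.mpr y.isUnit ?_
      have h1 := congrArg (fun g : GL (ι → Fin m) F => ((g : Matrix (ι → Fin m) (ι → Fin m) F) - 1) *ᵥ
        ((y : Matrix (ι → Fin m) (ι → Fin m) F) *ᵥ v)) (heq l₁ a ha)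
      simp only [conj_nil, rt_sub_one hG, one_smul] at h1
      rw [mulVec_mulVec, mul_assoc, Units.inv_mul, mul_one, ← mulVec_mulVec] at h1
      show (y : Matrix (ι → Fin m) (ι → Fin m) F) *ᵥ _ = _ *ᵥ 0
      rw [mulVec_zero]
      refine h1.trans ?_
      rw [hp l₁ a ha, hl, hv, emb_mulVec_lift, smul_mulVec, cen_mulVec, hG.skew, horth a ha, neg_zero, zero_smul,
        smul_zero]
      funext q; simp [lift_apply]
    have hv0 : v = 0 := funext fun q => by
      have := congrFun (hctr (Pi.single (q l₁) 1)) q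
      simpa [ctr] using this
    rw [hv0, mulVec_zero] at hv
    exact one_ne_zero (congrFun (lift_injective (hE l₂ e0 he0) (hv.symm.trans (map_zero _).symm)) fun _ => 0)
  let σ : Equiv.Perm ι := Equiv.ofBijective p (Finite.injective_iff_bijective.mp hpinj)
  set y' := (pmG σ)⁻¹ * y with hy'
  have hsplit : ∀ l, ∃ (A : GL (Fin m) F) (L : Matrix (Rest l m) (Rest l m) F),
      (y' : Matrix (ι → Fin m) (ι → Fin m) F) = kr l (A : Matrix (Fin m) (Fin m) F) L := by
    intro l
    refine exists_kr_of_blocks y' l fun x hx => ⟨E l x, hE l x hx, ?_⟩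
    rintro _ ⟨v, hv, rfl⟩
    have h1 : (y : Matrix (ι → Fin m) (ι → Fin m) F) *ᵥ v ∈ block (σ l) (E l x) :=
      hmap l x hx ⟨v, hv, rfl⟩
    obtain ⟨w, hw⟩ := exists_lift_of_mem_block (hE l x hx) h1
    rw [mulVecLin_apply, hy', Units.val_mul, ← mulVec_mulVec]
    refine mem_block.mpr fun χ hχ => funext fun q => ?_
    rw [← map_inv, pmG_val, pm_mulVec, hw]
    show (χ ⬝ᵥ fun k => lift (σ l) (E l x) w ((Function.update q l k) ∘ ⇑σ⁻¹)) = 0
    have h2 : ∀ k, lift (σ l) (E l x) w ((Function.update q l k) ∘ ⇑σ⁻¹) =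
        E l x k * w (fun j => (Function.update q l 0 ∘ ⇑σ⁻¹) j) := by
      intro k
      rw [lift_apply]
      congr 1
      · rw [Function.comp_apply, show σ⁻¹ (σ l) = l from σ.symm_apply_apply l, Function.update_self]
      · congr 1
        funext j
        have hj : σ⁻¹ j.1 ≠ l := fun hh => j.2 (by rw [← σ.apply_symm_apply j.1]; exact congrArg σ hh)
        simp only [Function.comp_apply, Function.update_of_ne hj]
    simp only [h2, dotProduct, ← mul_assoc, ← Finset.sum_mul]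
    rw [show ∑ k, χ k * E l x k = χ ⬝ᵥ E l x from rfl, hχ, zero_mul]
  choose A L hAL using hsplit
  have hcomm : ∀ l X, (((PtG A)⁻¹ * y' : GL (ι → Fin m) F) : Matrix (ι → Fin m) (ι → Fin m) F) * emb l X =
      emb l X * (((PtG A)⁻¹ * y' : GL (ι → Fin m) F) : Matrix (ι → Fin m) (ι → Fin m) F) := by
    intro l X
    set Ai := (((A l)⁻¹ : GL (Fin m) F) : Matrix (Fin m) (Fin m) F) with hAi
    have h1 : (y' : Matrix (ι → Fin m) (ι → Fin m) F) * emb l X =
        emb l ((A l : Matrix (Fin m) (Fin m) F) * X * Ai) * (y' : Matrix (ι → Fin m) (ι → Fin m) F) := by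
      rw [hAL l, emb_eq_kr, emb_eq_kr, kr_mul, kr_mul, Matrix.one_mul, Matrix.mul_one, hAi, Matrix.mul_assoc,
        Units.inv_mul, Matrix.mul_one]
    rw [Units.val_mul, Matrix.mul_assoc, h1, ← Matrix.mul_assoc, ← map_inv, PtG_val]
    rw [Pt_mul_emb (A' := X) _ _ (by
      rw [Pi.inv_apply, ← hAi, ← Matrix.mul_assoc, ← Matrix.mul_assoc, hAi, Units.inv_mul, Matrix.one_mul]),
      Matrix.mul_assoc]
  obtain ⟨s, hs⟩ := scalar_of_comm_emb hcomm
  obtain ⟨i₀⟩ := (inferInstance : Nonempty ι)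
  have hs0 : s ≠ 0 := fun h0 => by
    have := ((PtG A)⁻¹ * y' : GL (ι → Fin m) F).isUnit
    rw [hs, h0, zero_smul] at this
    exact not_isUnit_zero this
  set sc : GL (Fin m) F := Units.map (algebraMap F (Matrix (Fin m) (Fin m) F)).toMonoidHom (Units.mk0 s hs0)
  have hy'W : (PtG A)⁻¹ * y' = embG i₀ sc := Units.ext (by
    rw [hs, embG_val]
    show _ = emb i₀ (algebraMap F (Matrix (Fin m) (Fin m) F) s)
    rw [Algebra.algebraMap_eq_smul_one, emb_smul, emb_one])
  have hy'e : y = pmG σ * PtG A * embG i₀ sc := by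
    rw [← hy'W, hy']; group
  rw [hy'e]
  exact (wreath ι m F).mul_mem ((wreath ι m F).mul_mem (pmG_mem σ) (PtG_mem A)) (embG_mem _ _)

/-- An element fusing blocks outside the wreath group yields an outside element stabilising a block, given a
classification of the quadratic elements of the wreath group. -/
theorem exists_stab_gen [Finite F] [NeZero m] [Nontrivial ι] (hm : 2 ≤ m)
    (hcl : ∀ u : GL (ι → Fin m) F, u ∈ wreath ι m F →
      ((u : Matrix (ι → Fin m) (ι → Fin m) F) - 1) * ((u : Matrix (ι → Fin m) (ι → Fin m) F) - 1) = 0 →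
      ((u : Matrix (ι → Fin m) (ι → Fin m) F) - 1).rank = bdim ι m →
      ∃ j c φ, c ≠ 0 ∧ φ ≠ 0 ∧ φ ⬝ᵥ c = 0 ∧ u = root j c φ)
    (hG : SpForm G) (hsim : M ≤ gsim ι G)
    (hfac : HasFactors G M) (hnc : NoCen G M) {y : GL (ι → Fin m) F} (hy : y ∈ M)
    (hyW : y ∉ wreath ι m F) {i j : ι} {c c' : Fin m → F} (hc : c ≠ 0) (hc' : c' ≠ 0)
    (h : (block i c).map (Matrix.mulVecLin (y : Matrix (ι → Fin m) (ι → Fin m) F)) ≤ block j c') :
    ∃ z ∈ M, z ∉ wreath ι m F ∧ ∃ (l : ι) (e : Fin m → F), e ≠ 0 ∧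
      (block l e).map (Matrix.mulVecLin (z : Matrix (ι → Fin m) (ι → Fin m) F)) ≤ block l e := by
  by_contra hcon
  exact hyW (mem_wreath_of_conj_rt hm hG fun l e he =>
    conj_rt_all hcl hG hsim hfac hnc (fun z hz l e he hle => by
      by_contra hzW
      exact hcon ⟨z, hz, hzW, l, e, he, hle⟩) hy hc hc' h l he)

/-- An element fusing blocks outside the wreath group yields an outside element stabilising a block. -/
theorem exists_stab [Finite F] [Nontrivial ι] (hm : 4 ≤ m) (hG : SpForm G) (hsim : M ≤ gsim ι G)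
    (hfac : HasFactors G M) (hnc : NoCen G M) {y : GL (ι → Fin m) F} (hy : y ∈ M)
    (hyW : y ∉ wreath ι m F) {i j : ι} {c c' : Fin m → F} (hc : c ≠ 0) (hc' : c' ≠ 0)
    (h : (block i c).map (Matrix.mulVecLin (y : Matrix (ι → Fin m) (ι → Fin m) F)) ≤ block j c') :
    ∃ z ∈ M, z ∉ wreath ι m F ∧ ∃ (l : ι) (e : Fin m → F), e ≠ 0 ∧
      (block l e).map (Matrix.mulVecLin (z : Matrix (ι → Fin m) (ι → Fin m) F)) ≤ block l e := by
  have : NeZero m := ⟨by omega⟩
  exact exists_stab_gen (by omega) (fun u hu h2 hr => classify4 hm hu h2 hr) hG hsim hfac hnc hy hyW hc hc' h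

end CfsgLib.TWSp
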