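import Cfsg.Agent.TensorWreathSp.EndAlgebra

/-!
# All transvections of the power from the long and short elements

For an odd number of factors in odd characteristic the rank one long parameters give the
transvections at split tensors, and the short elements move every vector into a plane of split
tensors.
-/

set_option autoImplicit false
set_option linter.unusedSectionVars false

namespace CfsgLib.TWSp

open Matrix CfsgLib.MaxSub CfsgLib.TWreath

variable {F : Type*} [Field F] {ι : Type} [Fintype ι] [DecidableEq ι] {m : ℕ}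
  {G : Matrix (Fin m) (Fin m) F}

theorem vecMulVec_lift (i : ι) (x f : Fin m → F) (w g : Rest i m → F) :
    vecMulVec (lift i x w) (lift i f g) = kr i (vecMulVec x f) (vecMulVec w g) := by
  ext a b
  simp only [kr, vecMulVec_apply, lift_apply]
  ring

theorem adj_rank_one {n : Type*} [Fintype n] [DecidableEq n] {J : Matrix n n F} (hJ : IsUnit J.det)
    (r u : n → F) : adj J (vecMulVec r (J *ᵥ u)) = vecMulVec u (r ᵥ* J) := by
  rw [adj, transpose_vecMulVec, mul_vecMulVec, mulVec_mulVec, nonsing_inv_mul J hJ, one_mulVec, vecMulVec_mul]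

theorem exists_form_ne_zero {n : Type*} [Fintype n] [DecidableEq n] [Nonempty n] {J : Matrix n n F}
    (hJ : IsUnit J.det) (hs : Jᵀ = J) (h2 : (2 : F) ≠ 0) : ∃ u, u ⬝ᵥ J *ᵥ u ≠ 0 := by
  by_contra hc
  push Not at hc
  have h0 : J = 0 := Matrix.ext fun p q => by
    have h := hc (Pi.single p 1 + Pi.single q 1)
    rw [mulVec_add, dotProduct_add, add_dotProduct, add_dotProduct, hc, hc, single_dotProduct, single_dotProduct,
      mulVec_single, mulVec_single] at h
    simp only [MulOpposite.op_one, one_smul, one_mul, col_apply, zero_add, add_zero] at h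
    have hqp : J q p = J p q := congrFun (congrFun hs p) q
    rw [hqp, ← two_mul] at h
    exact (mul_eq_zero.mp h).resolve_left h2
  rw [h0, det_zero] at hJ
  exact not_isUnit_zero hJ

variable {M : Subgroup (GL (ι → Fin m) F)}

/-- The transvections at `v` lie in `M`. -/
def GoodT (G : Matrix (Fin m) (Fin m) F) (M : Subgroup (GL (ι → Fin m) F)) (v : (ι → Fin m) → F) : Prop :=
  ∀ s : F, InM M (1 + s • vecMulVec v (gram ι G *ᵥ v))

theorem GoodT.conj (hG : SpForm G) {v : (ι → Fin m) → F} (h : GoodT G M v) {x : GL (ι → Fin m) F} (hx : x ∈ M)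
    (hiso : IsIso G x) : GoodT G M ((x : Matrix (ι → Fin m) (ι → Fin m) F) *ᵥ v) := fun s => by
  have := (h s).conj hx
  have e : (gram ι G *ᵥ v) ᵥ* ((x⁻¹ : GL (ι → Fin m) F) : Matrix (ι → Fin m) (ι → Fin m) F) =
      gram ι G *ᵥ ((x : Matrix (ι → Fin m) (ι → Fin m) F) *ᵥ v) := by
    conv_lhs => rw [show gram ι G = _ from hiso.symm]
    rw [← mulVec_mulVec, ← mulVec_mulVec, mulVec_transpose, vecMul_vecMul, Units.mul_inv, vecMul_one]
  rwa [mul_add, add_mul, mul_one, Units.mul_inv, Matrix.mul_smul, Matrix.smul_mul, mul_vecMulVec, vecMulVec_mul,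
    e] at this

/-- Rank one applied to a vector. -/
theorem transv_mulVec (v x : (ι → Fin m) → F) (s : F) :
    (1 + s • vecMulVec v (gram ι G *ᵥ v)) *ᵥ x = x + (s * (x ⬝ᵥ gram ι G *ᵥ v)) • v := by
  rw [add_mulVec, one_mulVec, smul_mulVec, vecMulVec_mulVec', dotProduct_comm, smul_smul]

variable [Finite F] [NeZero m]

/-- Transvections at split tensors. -/
theorem LongSetting.goodT_lift (hS : LongSetting G M) (h2 : (2 : F) ≠ 0) {i : ι}
    (hsym : (gram {j // j ≠ i} G)ᵀ = gram {j // j ≠ i} G)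
    (hlong : ∀ a, a * adj (gram {j // j ≠ i} G) a ∈ longSet G M i) (c : Fin m → F) (w : Rest i m → F) :
    GoodT G M (lift i c w) := fun s => by
  set J := gram {j // j ≠ i} G with hJdef
  have hJ : IsUnit J.det := gram_det_unit hS.sp.det
  have hvm : ∀ r, r ᵥ* J = J *ᵥ r := fun r => by rw [← mulVec_transpose, hsym]
  have : Nonempty (Rest i m) := ⟨fun _ => 0⟩
  obtain ⟨u, hu⟩ := exists_form_ne_zero hJ hsym h2
  have h1 := hlong (vecMulVec w (J *ᵥ u))
  rw [adj_rank_one hJ, hvm, vecMulVec_mul_vecMulVec, vecMulVec_smul, dotProduct_comm] at h1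
  have h3 := hS.long_smul h1 (s * (u ⬝ᵥ J *ᵥ u)⁻¹) c
  rw [smul_smul, mul_assoc, inv_mul_cancel₀ hu, mul_one, kr_smul_right] at h3
  rwa [gram_mulVec_lift, vecMulVec_lift, ← cen]

/-- Transvections at the vectors of a split plane. -/
theorem LongSetting.goodT_plane (hS : LongSetting G M) {i : ι}
    (hsym : (gram {j // j ≠ i} G)ᵀ = gram {j // j ≠ i} G)
    (hlift : ∀ (c : Fin m → F) (w : Rest i m → F), GoodT G M (lift i c w)) {c d : Fin m → F} (hd : om G d c = 1)
    (r p : Rest i m → F) : GoodT G M (lift i c r + lift i d p) := by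
  have hG := hS.sp
  set J := gram {j // j ≠ i} G with hJdef
  have hJ : IsUnit J.det := gram_det_unit hG.det
  have hcd : om G c d = -1 := by rw [hG.skew, hd]
  have hform : ∀ (r z : Rest i m → F), (lift i c r) ⬝ᵥ gram ι G *ᵥ lift i d z = -(r ⬝ᵥ J *ᵥ z) := fun r z => by
    rw [form_lift, hcd, neg_one_mul]
  have hform' : ∀ (r z : Rest i m → F), (lift i d z) ⬝ᵥ gram ι G *ᵥ lift i c r = z ⬝ᵥ J *ᵥ r := fun r z => by
    rw [form_lift, hd, one_mul]
  have hsy : ∀ r z : Rest i m → F, r ⬝ᵥ J *ᵥ z = z ⬝ᵥ J *ᵥ r := fun r z => by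
    rw [dotProduct_mulVec, dotProduct_comm, ← mulVec_transpose, hsym]
  have hpair : ∀ r p : Rest i m → F, r ⬝ᵥ J *ᵥ p ≠ 0 → GoodT G M (lift i c r + lift i d p) := by
    intro r p hne
    obtain ⟨y, hy, hyv⟩ := hlift c r (r ⬝ᵥ J *ᵥ p)⁻¹
    have h1 := (hlift d p).conj hG hy (hS.iso y hy)
    rwa [hyv, transv_mulVec, hform', hsy p r, inv_mul_cancel₀ hne, one_smul, add_comm] at h1
  by_cases hne : r ⬝ᵥ J *ᵥ p = 0
  · rcases eq_or_ne r 0 with rfl | hr
    · rw [map_zero, zero_add]; exact hlift d p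
    obtain ⟨z, hz⟩ : ∃ z, r ⬝ᵥ J *ᵥ z = 1 := by
      obtain ⟨φ, hφ⟩ := exists_dot_eq_one' hr
      refine ⟨J⁻¹ *ᵥ φ, ?_⟩
      rw [mulVec_mulVec, mul_nonsing_inv J hJ, one_mulVec, dotProduct_comm]; exact hφ
    obtain ⟨y, hy, hyv⟩ := hlift d z 1
    have h1 : (y : Matrix (ι → Fin m) (ι → Fin m) F) *ᵥ (lift i c r + lift i d p) =
        lift i c r + lift i d (p + (p ⬝ᵥ J *ᵥ z * om G d d - 1) • z) := by
      rw [hyv, transv_mulVec, add_dotProduct, hform, hz, form_lift, hG.self, one_mul, zero_mul, mul_zero,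
        add_zero, zero_sub, map_add, map_smul, add_assoc]
    have h2' : r ⬝ᵥ J *ᵥ (p + (p ⬝ᵥ J *ᵥ z * om G d d - 1) • z) ≠ 0 := by
      rw [hG.self, mul_zero, zero_sub, mulVec_add, dotProduct_add, hne, zero_add, mulVec_smul, dotProduct_smul, hz,
        smul_eq_mul, mul_one]
      exact neg_ne_zero.mpr one_ne_zero
    have h3 := (hpair _ _ h2').conj hG (M.inv_mem hy) (hS.iso y hy).inv
    rwa [← h1, mulVec_mulVec, Units.inv_mul, one_mulVec] at h3
  · exact hpair r p hne

variable (hS : EndSetting G M)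

include hS

/-- Transvections at all vectors. -/
theorem EndSetting.goodT_all (h2 : (2 : F) ≠ 0) {i : ι}
    (hsym : (gram {j // j ≠ i} G)ᵀ = gram {j // j ≠ i} G)
    (hshort : ∀ a, a ∈ shortSet G M i)
    (hlong : ∀ a, a * adj (gram {j // j ≠ i} G) a ∈ longSet G M i) (v : (ι → Fin m) → F) : GoodT G M v := by
  classical
  have hG := hS.sp
  set J := gram {j // j ≠ i} G with hJdef
  have hJ : IsUnit J.det := gram_det_unit hG.det
  have hlift := hS.goodT_lift h2 hsym hlong
  rcases eq_or_ne v 0 with rfl | hv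
  · intro s; rw [zero_vecMulVec, smul_zero, add_zero]; exact InM.one
  obtain ⟨k₀, hk₀⟩ : ∃ k, proj i (Pi.single k (1 : F)) v ≠ 0 := by
    by_contra hc
    push Not at hc
    exact hv ((eq_sum_lift i v).trans (Finset.sum_eq_zero fun k _ => by rw [hc, map_zero]))
  obtain ⟨c, hcφ⟩ := hG.exists_axis (Pi.single k₀ (1 : F))
  have hc : c ≠ 0 := fun h => by
    rw [h, mulVec_zero] at hcφ
    have := congrFun hcφ k₀
    simp at this
  rw [← hcφ] at hk₀
  obtain ⟨d, hd⟩ := hG.exists_partner hc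
  set p := proj i (G *ᵥ c) v with hp
  have hcd : om G c d = -1 := by rw [hG.skew, hd]
  have hv' : proj i (G *ᵥ c) (v - lift i d p) = 0 := by
    rw [map_sub, proj_lift, axis_dot, hd, one_smul, sub_self]
  obtain ⟨ys, hys, he⟩ := ortho_induction hG i hc hv'
  set us := fun k => proj i (Pi.single k (1 : F)) (v - lift i d p)
  -- the middle part is removed
  have key : ∀ S : Finset (Fin m), ∃ x ∈ M, ∃ r, (x : Matrix (ι → Fin m) (ι → Fin m) F) *ᵥ v =
      v - (∑ k ∈ S, lift i (ys k) (us k)) + lift i c r := by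
    intro S
    induction S using Finset.induction with
    | empty => exact ⟨1, M.one_mem, 0, by simp⟩
    | insert k S hk ih =>
      obtain ⟨x, hx, r, hxr⟩ := ih
      set cur := v - (∑ q ∈ S, lift i (ys q) (us q)) + lift i c r with hcur
      have hproj : proj i (G *ᵥ c) cur = p := by
        rw [hcur, map_add, map_sub, map_sum, Finset.sum_eq_zero fun q _ => by
          rw [proj_lift, axis_dot, hys q, zero_smul], sub_zero, proj_lift, axis_dot, hG.self, zero_smul, add_zero]
      obtain ⟨φ, hφ⟩ := exists_dot_eq_one' hk₀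
      set a := adj J (vecMulVec (-us k) φ)
      obtain ⟨y, hy, hyv⟩ := hshort a c (ys k) (hG.axis_zero_iff.mp (hys k))
      refine ⟨y * x, M.mul_mem hy hx, r + a *ᵥ proj i (G *ᵥ ys k) cur, ?_⟩
      have hφ' : φ ⬝ᵥ p = 1 := hφ
      rw [Units.val_mul, ← mulVec_mulVec, hxr, hyv, add_mulVec, one_mulVec, XX, add_mulVec, kr_vecMulVec_mulVec,
        kr_vecMulVec_mulVec, adj_adj hG, hproj, vecMulVec_mulVec', hφ', one_smul, Finset.sum_insert hk,
        map_add (lift i c) r, map_neg]
      set w := lift i c (a *ᵥ proj i (G *ᵥ ys k) cur)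
      rw [hcur]
      abel
  obtain ⟨x, hx, r, hxr⟩ := key Finset.univ
  have hxv : (x : Matrix (ι → Fin m) (ι → Fin m) F) *ᵥ v = lift i c r + lift i d p := by
    rw [hxr, ← he, sub_sub_cancel, add_comm]
  have hplane : GoodT G M (lift i c r + lift i d p) := hS.goodT_plane hsym hlift hd r p
  have h4 := hplane.conj hG (M.inv_mem hx) (hS.iso x hx).inv
  rwa [← hxv, mulVec_mulVec, Units.inv_mul, one_mulVec] at h4

end CfsgLib.TWSp
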