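import Cfsg.Agent.TensorWreathSp.Slices

/-!
# Unipotent elements at a block

For a block `U = c ⊗ W` of the factor `i` the isometries trivial on `U` and on `Uᗮ / U` act on
`y ⊗ u`, `y ⊥ c`, by `y ⊗ u + c ⊗ β_y u`.
-/

set_option autoImplicit false
set_option linter.unusedSectionVars false

namespace CfsgLib.TWSp

open Matrix CfsgLib.MaxSub CfsgLib.TWreath

variable {F : Type*} [Field F] {ι : Type} [Fintype ι] [DecidableEq ι] {m : ℕ}

/-! ### Coordinates along a factor -/

/-- The component along the functional `φ` of the factor `i`. -/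
def proj (i : ι) (φ : Fin m → F) : ((ι → Fin m) → F) →ₗ[F] (Rest i m → F) where
  toFun v r := φ ⬝ᵥ fun k => v (extend i k r)
  map_add' u v := by funext r; exact dotProduct_add φ _ _
  map_smul' k v := by funext r; exact dotProduct_smul k φ _

theorem proj_lift (i : ι) (φ x : Fin m → F) (u : Rest i m → F) :
    proj i φ (lift i x u) = (φ ⬝ᵥ x) • u := by
  funext r
  show (φ ⬝ᵥ fun k => lift i x u (extend i k r)) = _
  simp only [lift_apply, extend_self, extend_rest, dotProduct, ← mul_assoc, ← Finset.sum_mul]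
  rfl

theorem proj_add_axis (i : ι) (φ ψ : Fin m → F) (v : (ι → Fin m) → F) :
    proj i (φ + ψ) v = proj i φ v + proj i ψ v := by funext r; exact add_dotProduct φ ψ _

theorem proj_smul_axis (i : ι) (k : F) (φ : Fin m → F) (v : (ι → Fin m) → F) :
    proj i (k • φ) v = k • proj i φ v := by funext r; exact smul_dotProduct k φ _

theorem proj_sum_axis {α : Type*} (s : Finset α) (i : ι) (f : α → Fin m → F) (v : (ι → Fin m) → F) :
    proj i (∑ k ∈ s, f k) v = ∑ k ∈ s, proj i (f k) v := by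
  funext r
  rw [Finset.sum_apply]
  exact sum_dotProduct s f _

theorem eq_sum_lift (i : ι) (v : (ι → Fin m) → F) :
    v = ∑ k, lift i (Pi.single k 1) (proj i (Pi.single k 1) v) := by
  funext a
  simp only [Finset.sum_apply, lift_apply, Pi.single_apply, ite_mul, one_mul, zero_mul, Finset.sum_ite_eq,
    Finset.mem_univ, if_true]
  show v a = Pi.single (a i) (1 : F) ⬝ᵥ fun k => v (extend i k fun j => a j)
  rw [single_dotProduct, one_mul, extend_eta]

theorem mem_block_iff_proj {i : ι} {c : Fin m → F} {v : (ι → Fin m) → F} :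
    v ∈ block i c ↔ ∀ χ, χ ⬝ᵥ c = 0 → proj i χ v = 0 := by
  rw [mem_block]
  refine forall_congr' fun χ => imp_congr_right fun _ => ⟨fun h => funext fun r => ?_, fun h => funext fun a => ?_⟩
  · rcases Nat.eq_zero_or_pos m with hm | hm
    · subst hm
      show (χ ⬝ᵥ fun k => v (extend i k r)) = 0
      simp [dotProduct]
    · have := congrFun h (extend i ⟨0, hm⟩ r)
      simp only [Pi.zero_apply] at this
      show (χ ⬝ᵥ fun k => v (extend i k r)) = 0
      rw [← this]
      show _ = χ ⬝ᵥ fun k => v (Function.update (extend i ⟨0, hm⟩ r) i k)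
      simp [update_eq_extend, extend_rest]
  · show (χ ⬝ᵥ fun k => v (Function.update a i k)) = 0
    have := congrFun h fun j => a j
    simp only [Pi.zero_apply] at this
    rw [← this]
    show _ = χ ⬝ᵥ fun k => v (extend i k fun j => a j)
    simp [update_eq_extend]

theorem kr_vecMulVec_mulVec (i : ι) (c φ : Fin m → F) (L : Matrix (Rest i m) (Rest i m) F)
    (v : (ι → Fin m) → F) : kr i (vecMulVec c φ) L *ᵥ v = lift i c (L *ᵥ proj i φ v) := by
  conv_lhs => rw [eq_sum_lift i v, mulVec_sum]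
  rw [Finset.sum_congr rfl fun k (_ : k ∈ Finset.univ) =>
    show kr i (vecMulVec c φ) L *ᵥ lift i (Pi.single k 1) (proj i (Pi.single k 1) v) =
        lift i c (L *ᵥ proj i (φ k • Pi.single k 1) v) by
      rw [kr_mulVec_lift, vecMulVec_mulVec', lift_smul_left, ← map_smul, ← mulVec_smul, ← proj_smul_axis,
        dotProduct_single, mul_one],
    ← map_sum, ← mulVec_sum, ← proj_sum_axis]
  congr 4
  funext q
  simp [Finset.sum_apply, Pi.single_apply]

variable {G : Matrix (Fin m) (Fin m) F}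

/-- The adjoint with respect to a Gram matrix. -/
noncomputable def adj {n : Type*} [Fintype n] [DecidableEq n] (J b : Matrix n n F) : Matrix n n F := J⁻¹ * bᵀ * J

theorem adj_dot {n : Type*} [Fintype n] [DecidableEq n] {J : Matrix n n F} (hJ : IsUnit J.det)
    (b : Matrix n n F) (u v : n → F) : u ⬝ᵥ J *ᵥ (adj J b *ᵥ v) = (b *ᵥ u) ⬝ᵥ J *ᵥ v := by
  rw [adj, mulVec_mulVec, ← Matrix.mul_assoc, ← Matrix.mul_assoc, mul_nonsing_inv J hJ, Matrix.one_mul,
    ← mulVec_mulVec, dotProduct_mulVec, vecMul_transpose]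

theorem adj_add {n : Type*} [Fintype n] [DecidableEq n] (J a b : Matrix n n F) :
    adj J (a + b) = adj J a + adj J b := by
  rw [adj, adj, adj, transpose_add, Matrix.mul_add, Matrix.add_mul]

theorem adj_smul {n : Type*} [Fintype n] [DecidableEq n] (J b : Matrix n n F) (k : F) :
    adj J (k • b) = k • adj J b := by
  rw [adj, adj, transpose_smul, Matrix.mul_smul, Matrix.smul_mul]

theorem adj_one {n : Type*} [Fintype n] [DecidableEq n] {J : Matrix n n F} (hJ : IsUnit J.det) :
    adj J (1 : Matrix n n F) = 1 := by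
  rw [adj, transpose_one, Matrix.mul_one, nonsing_inv_mul J hJ]

theorem eq_of_form_eq {n : Type*} [Fintype n] [DecidableEq n] {J : Matrix n n F} (hJ : IsUnit J.det)
    {v w : n → F} (h : ∀ u, u ⬝ᵥ J *ᵥ v = u ⬝ᵥ J *ᵥ w) : v = w := by
  refine mulVec_injective_iff_isUnit.mpr ((Matrix.isUnit_iff_isUnit_det J).mpr hJ) ?_
  refine funext fun k => ?_
  simpa [single_dotProduct] using h (Pi.single k 1)

theorem SpForm.axis_zero_iff (hG : SpForm G) {x y : Fin m → F} : om G x y = 0 ↔ om G y x = 0 := by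
  rw [hG.skew y x, neg_eq_zero]

/-- The form against a split tensor. -/
theorem form_proj (hG : SpForm G) (i : ι) (x : Fin m → F) (u : Rest i m → F) (v : (ι → Fin m) → F) :
    lift i x u ⬝ᵥ gram ι G *ᵥ v = - (u ⬝ᵥ gram {j // j ≠ i} G *ᵥ proj i (G *ᵥ x) v) := by
  have e : G *ᵥ x = ∑ k, (G *ᵥ x) k • (Pi.single k (1 : F) : Fin m → F) := by
    funext q; simp [Finset.sum_apply, Pi.single_apply]
  conv_rhs => rw [e, proj_sum_axis, mulVec_sum, dotProduct_sum]
  conv_lhs => rw [eq_sum_lift i v, mulVec_sum, dotProduct_sum]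
  rw [← Finset.sum_neg_distrib]
  refine Finset.sum_congr rfl fun k _ => ?_
  rw [form_lift, proj_smul_axis, mulVec_smul, dotProduct_smul, smul_eq_mul, ← neg_mul]
  congr 1
  rw [hG.skew, om, single_dotProduct, one_mul]

/-- Vectors orthogonal to the block are sums of split tensors orthogonal to `c`. -/
theorem ortho_induction (hG : SpForm G) (i : ι) {c : Fin m → F} (hc : c ≠ 0) {v : (ι → Fin m) → F}
    (hv : proj i (G *ᵥ c) v = 0) :
    ∃ ys : Fin m → Fin m → F, (∀ k, om G (ys k) c = 0) ∧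
      v = ∑ k, lift i (ys k) (proj i (Pi.single k 1) v) := by
  obtain ⟨d, hd⟩ := hG.exists_partner hc
  refine ⟨fun k => Pi.single k 1 - (G *ᵥ c) k • d, fun k => ?_, ?_⟩
  · show om G (Pi.single k 1 - (G *ᵥ c) k • d) c = 0
    rw [sub_eq_add_neg, ← neg_smul, om_add_left, om_smul_left, hd, om, single_dotProduct]
    ring
  · have h0 : ∑ k, lift i ((G *ᵥ c) k • d) (proj i (Pi.single k 1) v) = 0 := by
      rw [Finset.sum_congr rfl fun k (_ : k ∈ Finset.univ) =>
        show lift i ((G *ᵥ c) k • d) (proj i (Pi.single k 1) v) =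
            lift i d (proj i ((G *ᵥ c) k • Pi.single k 1) v) by rw [lift_smul_left, ← map_smul, ← proj_smul_axis],
        ← map_sum, ← proj_sum_axis]
      rw [show ∑ k, (G *ᵥ c) k • (Pi.single k 1 : Fin m → F) = G *ᵥ c by
        funext q; simp [Finset.sum_apply, Pi.single_apply], hv, map_zero]
    conv_lhs => rw [eq_sum_lift i v]
    have h1 : ∀ k, lift i (Pi.single k 1) (proj i (Pi.single k 1) v) =
        lift i (Pi.single k 1 - (G *ᵥ c) k • d) (proj i (Pi.single k 1) v) +
          lift i ((G *ᵥ c) k • d) (proj i (Pi.single k 1) v) := fun k => by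
      rw [← lift_add_left, sub_add_cancel]
    simp only [h1, Finset.sum_add_distrib, h0, add_zero]

/-- An isometry fixing the orthogonal space of a block is central. -/
theorem center_of_fix (hG : SpForm G) {x : GL (ι → Fin m) F} (hx : IsIso G x) {i : ι} {c : Fin m → F}
    (hc : c ≠ 0)
    (h : ∀ y, om G y c = 0 → ∀ u, (x : Matrix (ι → Fin m) (ι → Fin m) F) *ᵥ lift i y u = lift i y u) :
    ∃ b : Matrix (Rest i m) (Rest i m) F, (x : Matrix (ι → Fin m) (ι → Fin m) F) = 1 + kr i (cen G c) b := by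
  refine eq_kr_of_block hG hx hc fun v => mem_block_iff_proj.mpr fun χ hχ => ?_
  obtain ⟨y, rfl⟩ := hG.exists_axis χ
  rw [axis_dot] at hχ
  refine eq_of_form_eq (gram_det_unit hG.det) fun u => ?_
  rw [mulVec_zero, dotProduct_zero, ← neg_eq_zero, ← form_proj hG, sub_mulVec, one_mulVec, mulVec_sub,
    dotProduct_sub, sub_eq_zero]
  conv_lhs => rw [← h y (hG.axis_zero_iff.mp hχ) u]
  conv_rhs => rw [show gram ι G = _ from hx.symm]
  rw [← mulVec_mulVec, ← mulVec_mulVec, dotProduct_mulVec (lift i y u), vecMul_transpose]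

/-! ### Factor elements -/

/-- The symmetrised rank two matrix. -/
def sh (G : Matrix (Fin m) (Fin m) F) (c e : Fin m → F) : Matrix (Fin m) (Fin m) F :=
  vecMulVec c (G *ᵥ e) + vecMulVec e (G *ᵥ c)

/-- The alternating rank two matrix. -/
def wedge (G : Matrix (Fin m) (Fin m) F) (c e : Fin m → F) : Matrix (Fin m) (Fin m) F :=
  vecMulVec c (G *ᵥ e) - vecMulVec e (G *ᵥ c)

theorem sh_mulVec (G : Matrix (Fin m) (Fin m) F) (c e x : Fin m → F) :
    sh G c e *ᵥ x = om G x e • c + om G x c • e := by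
  rw [sh, add_mulVec, vecMulVec_mulVec', vecMulVec_mulVec', axis_dot, axis_dot]

theorem sh_sq (hG : SpForm G) {c e : Fin m → F} (h : om G c e = 0) : sh G c e * sh G c e = 0 := by
  refine Matrix.ext_of_mulVec_single fun k => ?_
  rw [← mulVec_mulVec, sh_mulVec, sh_mulVec, zero_mulVec]
  simp [om_add_left, om_smul_left, hG.self, h, hG.axis_zero_iff.mp h]

/-- The short element of a factor. -/
theorem exists_shG (hG : SpForm G) {c e : Fin m → F} (h : om G c e = 0) :
    ∃ τ : GL (Fin m) F, τ ∈ spG G ∧ (τ : Matrix (Fin m) (Fin m) F) = 1 + sh G c e := by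
  let τ : GL (Fin m) F := ⟨1 + sh G c e, 1 - sh G c e,
    by rw [add_mul, one_mul, mul_sub, mul_one, sh_sq hG h]; abel,
    by rw [sub_mul, one_mul, mul_add, mul_one, sh_sq hG h]; abel⟩
  refine ⟨τ, mem_spG_of_om fun x y => ?_, rfl⟩
  show om G ((1 + sh G c e) *ᵥ x) ((1 + sh G c e) *ᵥ y) = om G x y
  simp only [add_mulVec, one_mulVec, sh_mulVec, om_add_left, om_add_right, om_smul_left, om_smul_right,
    hG.self c, hG.self e, h, hG.axis_zero_iff.mp h]
  rw [hG.skew y c, hG.skew y e]
  ring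

theorem vecMul_inv_of_mem_spG {h : GL (Fin m) F} (hh : h ∈ spG G) (c : Fin m → F) :
    (G *ᵥ c) ᵥ* ((h⁻¹ : GL (Fin m) F) : Matrix (Fin m) (Fin m) F) =
      G *ᵥ ((h : Matrix (Fin m) (Fin m) F) *ᵥ c) := by
  conv_lhs => rw [show G = _ from (mem_spG.mp hh).symm]
  rw [← mulVec_mulVec, ← mulVec_mulVec, mulVec_transpose, vecMul_vecMul, Units.mul_inv, vecMul_one]

theorem conj_cen {h : GL (Fin m) F} (hh : h ∈ spG G) (c : Fin m → F) :
    (h : Matrix (Fin m) (Fin m) F) * cen G c * ((h⁻¹ : GL (Fin m) F) : Matrix (Fin m) (Fin m) F) =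
      cen G ((h : Matrix (Fin m) (Fin m) F) *ᵥ c) := by
  rw [cen, cen, mul_vecMulVec, vecMulVec_mul, vecMul_inv_of_mem_spG hh]

/-- The torus element scaling a hyperbolic pair. -/
theorem exists_torus (hG : SpForm G) {c d : Fin m → F} (hd : om G d c = 1) {l : F} (hl : l ≠ 0) :
    ∃ T : GL (Fin m) F, T ∈ spG G ∧ (T : Matrix (Fin m) (Fin m) F) *ᵥ c = l • c ∧
      ∀ y, om G y c = 0 → om G y d = 0 → (T : Matrix (Fin m) (Fin m) F) *ᵥ y = y := by
  have hcd : om G c d = -1 := by rw [hG.skew, hd]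
  set A : Matrix (Fin m) (Fin m) F :=
    1 + (1 - l) • vecMulVec c (G *ᵥ d) + (l⁻¹ - 1) • vecMulVec d (G *ᵥ c) with hA
  have hAx : ∀ x, A *ᵥ x = x + ((1 - l) * om G x d) • c + ((l⁻¹ - 1) * om G x c) • d := fun x => by
    rw [hA, add_mulVec, add_mulVec, one_mulVec, smul_mulVec, smul_mulVec, vecMulVec_mulVec', vecMulVec_mulVec',
      axis_dot, axis_dot, smul_smul, smul_smul]
  have hiso : ∀ x y, om G (A *ᵥ x) (A *ᵥ y) = om G x y := fun x y => by
    simp only [hAx, om_add_left, om_add_right, om_smul_left, om_smul_right, hG.self c, hG.self d, hd, hcd]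
    rw [hG.skew y c, hG.skew y d]
    have : l * l⁻¹ = 1 := mul_inv_cancel₀ hl
    linear_combination (om G y c * om G x d - om G y d * om G x c) * this
  have hu : IsUnit A := mulVec_injective_iff_isUnit.mp fun x y hxy => by
    replace hxy : A *ᵥ x = A *ᵥ y := hxy
    refine eq_of_form_eq hG.det fun u => ?_
    show om G u x = om G u y
    rw [← hiso u x, ← hiso u y, hxy]
  refine ⟨hu.unit, mem_spG_of_om hiso, ?_, fun y h1 h2 => ?_⟩
  · show A *ᵥ c = _
    rw [hAx, hG.self, hcd, mul_zero, zero_smul, add_zero, mul_neg_one]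
    conv_lhs => rw [← one_smul F c, smul_smul, ← add_smul]
    congr 1; ring
  · show A *ᵥ y = y
    rw [hAx, h1, h2, mul_zero, mul_zero, zero_smul, zero_smul, add_zero, add_zero]

/-! ### The shape at a block -/

/-- `x` is unipotent at the block with the middle-to-bottom part `β`. -/
structure HasBeta (G : Matrix (Fin m) (Fin m) F) (i : ι) (c : Fin m → F) (x : GL (ι → Fin m) F)
    (β : (Fin m → F) → Matrix (Rest i m) (Rest i m) F) : Prop where
  iso : IsIso G x
  zero : β c = 0
  act : ∀ y, om G y c = 0 → ∀ u, (x : Matrix (ι → Fin m) (ι → Fin m) F) *ᵥ lift i y u =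
    lift i y u + lift i c (β y *ᵥ u)

theorem IsIso.mul {x y : GL (ι → Fin m) F} (hx : IsIso G x) (hy : IsIso G y) : IsIso G (x * y) := by
  rw [IsIso] at *
  rw [Units.val_mul, transpose_mul]
  conv_rhs => rw [← hy, ← hx]
  simp only [Matrix.mul_assoc]

theorem IsIso.inv {x : GL (ι → Fin m) F} (hx : IsIso G x) : IsIso G x⁻¹ := by
  rw [IsIso] at *
  conv_lhs => rw [← hx]
  simp only [Matrix.mul_assoc]
  rw [Units.mul_inv, Matrix.mul_one, ← Matrix.mul_assoc, ← transpose_mul, Units.mul_inv, transpose_one,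
    Matrix.one_mul]

theorem IsIso.mem_gsim {x : GL (ι → Fin m) F} (hx : IsIso G x) : x ∈ gsim ι G :=
  ⟨1, one_ne_zero, by rw [one_smul]; exact hx⟩

theorem IsIso.form {x : GL (ι → Fin m) F} (hx : IsIso G x) (u v : (ι → Fin m) → F) :
    ((x : Matrix (ι → Fin m) (ι → Fin m) F) *ᵥ u) ⬝ᵥ gram ι G *ᵥ ((x : Matrix (ι → Fin m) (ι → Fin m) F) *ᵥ v) =
      u ⬝ᵥ gram ι G *ᵥ v := by
  conv_rhs => rw [show gram ι G = _ from hx.symm]
  rw [← mulVec_mulVec, ← mulVec_mulVec, dotProduct_mulVec u, vecMul_transpose]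

variable {i : ι} {c : Fin m → F} {x x' : GL (ι → Fin m) F}
  {β β' : (Fin m → F) → Matrix (Rest i m) (Rest i m) F}

namespace HasBeta

variable (hG : SpForm G) (hc : c ≠ 0) (hx : HasBeta G i c x β)

include hG hc hx

theorem fix (u : Rest i m → F) :
    (x : Matrix (ι → Fin m) (ι → Fin m) F) *ᵥ lift i c u = lift i c u := by
  rw [hx.act c (hG.self c), hx.zero, zero_mulVec, map_zero, add_zero]

theorem map_add' {y z : Fin m → F} (hy : om G y c = 0) (hz : om G z c = 0) : β (y + z) = β y + β z := by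
  refine Matrix.ext_of_mulVec_single fun k => lift_injective (i := i) hc ?_
  have h := hx.act (y + z) (by rw [om_add_left, hy, hz, add_zero]) (Pi.single k 1)
  rw [lift_add_left, mulVec_add, hx.act y hy, hx.act z hz] at h
  rw [add_mulVec, map_add]
  linear_combination (norm := abel) -h

theorem map_smul' {y : Fin m → F} (hy : om G y c = 0) (k : F) : β (k • y) = k • β y := by
  refine Matrix.ext_of_mulVec_single fun q => lift_injective (i := i) hc ?_
  have h := hx.act (k • y) (by rw [om_smul_left, hy, mul_zero]) (Pi.single q 1)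
  rw [lift_smul_left, mulVec_smul, hx.act y hy, smul_add] at h
  rw [smul_mulVec, map_smul]
  exact (add_left_cancel h).symm

/-- The component along `c` is preserved. -/
theorem proj_axis (v : (ι → Fin m) → F) :
    proj i (G *ᵥ c) ((x : Matrix (ι → Fin m) (ι → Fin m) F) *ᵥ v) = proj i (G *ᵥ c) v := by
  refine eq_of_form_eq (gram_det_unit hG.det) fun u => ?_
  rw [← neg_inj, ← form_proj hG, ← form_proj hG]
  conv_lhs => rw [← hx.fix hG hc u]
  exact hx.iso.form _ _

/-- The other components of the image of a tensor. -/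
theorem proj_act {y d : Fin m → F} (hy : om G y c = 0) (hd : om G d c = 1) (u : Rest i m → F) :
    proj i (G *ᵥ y) ((x : Matrix (ι → Fin m) (ι → Fin m) F) *ᵥ lift i d u) =
      proj i (G *ᵥ y) (lift i d u) - adj (gram {j // j ≠ i} G) (β y) *ᵥ u := by
  have hJ := gram_det_unit (ι := {j // j ≠ i}) hG.det
  refine eq_of_form_eq hJ fun u' => ?_
  have h := hx.iso.form (lift i y u') (lift i d u)
  rw [hx.act y hy, add_dotProduct, form_proj hG, form_proj hG, form_proj hG i y, hx.proj_axis hG hc,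
    proj_lift i (G *ᵥ c), axis_dot, hd, one_smul] at h
  rw [mulVec_sub, dotProduct_sub, adj_dot hJ]
  linear_combination -h

theorem mul (hx' : HasBeta G i c x' β') : HasBeta G i c (x * x') (fun y => β y + β' y) where
  iso := hx.iso.mul hx'.iso
  zero := by rw [hx.zero, hx'.zero, add_zero]
  act y hy u := by
    rw [Units.val_mul, ← mulVec_mulVec, hx'.act y hy, mulVec_add, hx.act y hy, hx.fix hG hc, add_mulVec, map_add]
    abel

theorem inv : HasBeta G i c x⁻¹ (fun y => -β y) where
  iso := hx.iso.inv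
  zero := by rw [hx.zero, neg_zero]
  act y hy u := by
    refine mulVec_injective_iff_isUnit.mpr x.isUnit ?_
    show (x : Matrix (ι → Fin m) (ι → Fin m) F) *ᵥ _ = (x : Matrix (ι → Fin m) (ι → Fin m) F) *ᵥ _
    rw [mulVec_mulVec, Units.mul_inv, one_mulVec, mulVec_add, hx.act y hy, hx.fix hG hc, neg_mulVec, map_neg]
    abel

/-- Conjugation by an element of the factor fixing the line of `c`. -/
theorem conj {h : GL (Fin m) F} (hh : h ∈ spG G) {l : F} (hl : l ≠ 0)
    (hhc : (h : Matrix (Fin m) (Fin m) F) *ᵥ c = l • c) :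
    HasBeta G i c (embG i h * x * (embG i h)⁻¹)
      (fun y => l • β (((h⁻¹ : GL (Fin m) F) : Matrix (Fin m) (Fin m) F) *ᵥ y)) := by
  have hic : ((h⁻¹ : GL (Fin m) F) : Matrix (Fin m) (Fin m) F) *ᵥ c = l⁻¹ • c := by
    have := congrArg (((h⁻¹ : GL (Fin m) F) : Matrix (Fin m) (Fin m) F) *ᵥ ·) hhc
    simp only [mulVec_mulVec, Units.inv_mul, one_mulVec, mulVec_smul] at this
    rw [eq_inv_smul_iff₀ hl]
    exact this.symm
  refine ⟨((isIso_embG i hh).mul hx.iso).mul (isIso_embG i hh).inv, ?_, fun y hy u => ?_⟩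
  · rw [hic, hx.map_smul' hG hc (hG.self c), hx.zero, smul_zero, smul_zero]
  · have hy' : om G (((h⁻¹ : GL (Fin m) F) : Matrix (Fin m) (Fin m) F) *ᵥ y) c = 0 := by
      have := om_of_mem_spG ((spG G).inv_mem hh) y c
      rw [hic, om_smul_right, hy] at this
      exact (mul_eq_zero.mp this).resolve_left (inv_ne_zero hl)
    rw [← map_inv, Units.val_mul, Units.val_mul, embG_val, embG_val, ← mulVec_mulVec, ← mulVec_mulVec,
      emb_mulVec_lift, hx.act _ hy', mulVec_add, emb_mulVec_lift, emb_mulVec_lift, mulVec_mulVec, Units.mul_inv,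
      one_mulVec, hhc, lift_smul_left, ← map_smul, ← smul_mulVec]

/-- The action on the orthogonal space for a typed element. -/
theorem act_ortho {a : Fin m → F} {K : Matrix (Rest i m) (Rest i m) F}
    (hβ : ∀ y, om G y c = 0 → β y = om G y a • K) {v : (ι → Fin m) → F} (hv : proj i (G *ᵥ c) v = 0) :
    (x : Matrix (ι → Fin m) (ι → Fin m) F) *ᵥ v = v + lift i c (K *ᵥ proj i (G *ᵥ a) v) := by
  obtain ⟨ys, hys, he⟩ := ortho_induction hG i hc hv
  conv_lhs => rw [he]
  conv_rhs => rw [he]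
  simp only [mulVec_sum, hx.act _ (hys _), Finset.sum_add_distrib, map_sum, add_right_inj]
  refine Finset.sum_congr rfl fun k _ => ?_
  rw [hβ _ (hys k), proj_lift, axis_dot, smul_mulVec, mulVec_smul]

end HasBeta

/-- The commutator of two typed elements. -/
theorem HasBeta.comm_typed (hG : SpForm G) (hc : c ≠ 0) {a a' : Fin m → F} (ha : om G a c = 0)
    (ha' : om G a' c = 0) {K K' : Matrix (Rest i m) (Rest i m) F}
    (hx : HasBeta G i c x β) (hx' : HasBeta G i c x' β')
    (hβ : ∀ y, om G y c = 0 → β y = om G y a • K) (hβ' : ∀ y, om G y c = 0 → β' y = om G y a' • K') :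
    ((x * x' * (x' * x)⁻¹ : GL (ι → Fin m) F) : Matrix (ι → Fin m) (ι → Fin m) F) =
      1 + kr i (cen G c) (om G a' a • (K * adj (gram {j // j ≠ i} G) K' + K' * adj (gram {j // j ≠ i} G) K)) := by
  obtain ⟨d, hd⟩ := hG.exists_partner hc
  set J' := gram {j // j ≠ i} G
  set k := x * x' * (x' * x)⁻¹ with hk
  have hk' : k * (x' * x) = x * x' := inv_mul_cancel_right _ _
  have h1 : HasBeta G i c (x * x') (fun y => β y + β' y) := hx.mul hG hc hx'
  have h2 : HasBeta G i c (x' * x) (fun y => β' y + β y) := hx'.mul hG hc hx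
  have hkb : HasBeta G i c k (fun y => β y + β' y + -(β' y + β y)) := h1.mul hG hc (h2.inv hG hc)
  obtain ⟨b, hb⟩ := center_of_fix hG hkb.iso hc fun y hy u => by
    rw [hkb.act y hy, show β y + β' y + -(β' y + β y) = 0 by abel, zero_mulVec, map_zero, add_zero]
  rw [hb]
  congr 2
  refine Matrix.ext_of_mulVec_single fun q => ?_
  set u : Rest i m → F := Pi.single q 1
  -- both products on `d ⊗ u`
  have hprod : ∀ {z z' : GL (ι → Fin m) F} {γ γ' : (Fin m → F) → Matrix (Rest i m) (Rest i m) F}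
      {p p' : Fin m → F} {L L' : Matrix (Rest i m) (Rest i m) F},
      HasBeta G i c z γ → HasBeta G i c z' γ' → om G p c = 0 →
      (∀ y, om G y c = 0 → γ y = om G y p • L) → (∀ y, om G y c = 0 → γ' y = om G y p' • L') →
      ((z * z' : GL (ι → Fin m) F) : Matrix (ι → Fin m) (ι → Fin m) F) *ᵥ lift i d u =
        ((z : Matrix (ι → Fin m) (ι → Fin m) F) *ᵥ lift i d u) +
        (((z' : Matrix (ι → Fin m) (ι → Fin m) F) *ᵥ lift i d u) - lift i d u) +
        lift i c (-(om G p p' • ((L * adj J' L') *ᵥ u))) := by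
    intro z z' γ γ' p p' L L' hz hz' hp hγ hγ'
    set v := ((z' : Matrix (ι → Fin m) (ι → Fin m) F) *ᵥ lift i d u) - lift i d u with hv
    have hvo : proj i (G *ᵥ c) v = 0 := by rw [hv, map_sub, hz'.proj_axis hG hc, sub_self]
    rw [Units.val_mul, ← mulVec_mulVec,
      show (z' : Matrix (ι → Fin m) (ι → Fin m) F) *ᵥ lift i d u = lift i d u + v by rw [hv, add_sub_cancel],
      mulVec_add, hz.act_ortho hG hc hγ hvo, ← add_assoc]
    congr 2
    rw [hv, map_sub, hz'.proj_act hG hc hp hd, sub_sub_cancel_left, hγ' p hp, adj_smul, smul_mulVec, mulVec_neg,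
      mulVec_smul, mulVec_mulVec]
  have e1 := hprod hx hx' ha hβ hβ'
  have e2 := hprod hx' hx ha' hβ' hβ
  rw [← hk', Units.val_mul, ← mulVec_mulVec, hb, add_mulVec, one_mulVec, cen, kr_vecMulVec_mulVec,
    h2.proj_axis hG hc, proj_lift, axis_dot, hd, one_smul, e2] at e1
  apply lift_injective (i := i) hc
  rw [hG.skew a' a] at e1
  simp only [smul_mulVec, add_mulVec, map_neg, map_add, map_smul, smul_add, neg_smul, neg_neg] at e1 ⊢
  linear_combination (norm := abel) e1

end CfsgLib.TWSp
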